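import Cfsg.Agent.H12.ES2

/-! The plus and minus models of extraspecial 2-groups. -/

set_option autoImplicit false
open Cfsg Subgroup
open scoped commutatorElement

namespace H12

/-- Bilinear form of plus type. -/
def bPlus (n : ℕ) : (Fin n ⊕ Fin n → ZMod 2) →ₗ[ZMod 2] (Fin n ⊕ Fin n → ZMod 2) →ₗ[ZMod 2] ZMod 2 :=
  LinearMap.mk₂ (ZMod 2) (fun u v => ∑ i, u (.inl i) * v (.inr i))
    (fun _ _ _ => by simp [add_mul, Finset.sum_add_distrib])
    (fun _ _ _ => by simp [Finset.mul_sum, mul_assoc])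
    (fun _ _ _ => by simp [mul_add, Finset.sum_add_distrib])
    (fun _ _ _ => by simp [Finset.mul_sum, mul_left_comm])

theorem bPlus_apply (n : ℕ) (u v : Fin n ⊕ Fin n → ZMod 2) :
    bPlus n u v = ∑ i, u (.inl i) * v (.inr i) := rfl

/-- Bilinear form of minus type. -/
def bMinus (m : ℕ) : ((Fin m ⊕ Fin m) ⊕ Fin 2 → ZMod 2) →ₗ[ZMod 2]
    ((Fin m ⊕ Fin m) ⊕ Fin 2 → ZMod 2) →ₗ[ZMod 2] ZMod 2 :=
  LinearMap.mk₂ (ZMod 2) (fun u v => ∑ i, u (.inl (.inl i)) * v (.inl (.inr i)) +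
      (u (.inr 0) * v (.inr 0) + u (.inr 0) * v (.inr 1) + u (.inr 1) * v (.inr 1)))
    (fun _ _ _ => by simp [add_mul, Finset.sum_add_distrib]; ring)
    (fun _ _ _ => by simp [Finset.mul_sum, mul_assoc, mul_add])
    (fun _ _ _ => by simp [mul_add, Finset.sum_add_distrib]; ring)
    (fun _ _ _ => by simp [Finset.mul_sum, mul_left_comm, mul_add])

theorem bMinus_apply (m : ℕ) (u v : (Fin m ⊕ Fin m) ⊕ Fin 2 → ZMod 2) :
    bMinus m u v = ∑ i, u (.inl (.inl i)) * v (.inl (.inr i)) +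
      (u (.inr 0) * v (.inr 0) + u (.inr 0) * v (.inr 1) + u (.inr 1) * v (.inr 1)) := rfl

theorem bPlus_nd (n : ℕ) : QG.ND (bPlus n) := fun u hu => by
  funext j
  rcases j with j | j
  · simpa [bPlus_apply, Pi.single_apply] using hu (Pi.single (.inr j) 1)
  · simpa [bPlus_apply, Pi.single_apply] using hu (Pi.single (.inl j) 1)

theorem bMinus_nd (m : ℕ) : QG.ND (bMinus m) := fun u hu => by
  funext j
  rcases j with (j | j) | j
  · simpa [bMinus_apply, Pi.single_apply] using hu (Pi.single (.inl (.inr j)) 1)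
  · simpa [bMinus_apply, Pi.single_apply] using hu (Pi.single (.inl (.inl j)) 1)
  · have h0 := hu (Pi.single (.inr 0) 1)
    have h1 := hu (Pi.single (.inr 1) 1)
    simp [bMinus_apply, Pi.single_apply] at h0 h1
    fin_cases j
    · show u (.inr 0) = 0
      linear_combination h1 - two_add_self (u (.inr 1))
    · show u (.inr 1) = 0
      linear_combination h0 - two_add_self (u (.inr 0))

theorem card_qgPlus (n : ℕ) : Nat.card (QG (bPlus n)) = 2 ^ (2 * n + 1) := by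
  rw [QG.card_eq, Nat.card_fun, Nat.card_zmod, pow_succ, two_mul]; simp

theorem card_qgMinus (m : ℕ) : Nat.card (QG (bMinus m)) = 2 ^ (2 * (m + 1) + 1) := by
  rw [QG.card_eq, Nat.card_fun, Nat.card_zmod, pow_succ, two_mul]; simp; ring

theorem qg_rank {V : Type*} [AddCommGroup V] [Module (ZMod 2) V] [Finite V]
    {B : V →ₗ[ZMod 2] V →ₗ[ZMod 2] ZMod 2} (h : QG.ND B) {n ε : ℕ} (hε : ε ≤ 1) (hn : 1 ≤ n)
    (hc : Nat.card (QG B) = 2 ^ (2 * n + 1)) (x y : Fin n → V)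
    (hxx : ∀ i j, B (x i) (x j) + B (x j) (x i) = 0) (hyy : ∀ i j, B (y i) (y j) + B (y j) (y i) = 0)
    (hxy : ∀ i j, B (x i) (y j) + B (y j) (x i) = if i = j then 1 else 0)
    (hx : ∀ i, B (x i) (x i) = if i.val + 1 = n then (ε : ZMod 2) else 0)
    (hy : ∀ i, B (y i) (y i) = if i.val + 1 = n then (ε : ZMod 2) else 0) (k : ℕ) :
    PRankLE 2 k (QG B) ↔ n + 1 - ε ≤ k := by
  rw [← H9.prank_top]
  have hz : ∀ (P : Prop) [Decidable P], (QG.zc B) ^ (if P then ε else 0) =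
      ⟨0, if P then (ε : ZMod 2) else 0⟩ := fun P _ => by
    split_ifs
    · interval_cases ε
      · rfl
      · rw [pow_one]; rfl
    · rfl
  refine H7.es_rank_of_basis hε n (x := fun i => ⟨x i, 0⟩) (y := fun i => ⟨y i, 0⟩) (QG.isES h)
    (fun _ => trivial) (fun _ => trivial) (fun i => ?_) (fun i j => (QG.commute_iff _ _).2 (hxx i j))
    (fun i j _ => (QG.commute_iff _ _).2 (hyy i j))
    (fun i j hij => (QG.commute_iff _ _).2 ((hxy i j).trans (if_neg hij))) (card_top.trans hc)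
    (fun i => ?_) (Or.inr hn) k
  · rw [QG.comm_eq]; exact QG.ext rfl ((hxy i i).trans (if_pos rfl))
  · rw [hz, QG.sq_eq, QG.sq_eq]
    exact ⟨QG.ext rfl (hx i), QG.ext rfl (hy i)⟩

theorem rank_qgPlus {n : ℕ} (hn : 1 ≤ n) (k : ℕ) : PRankLE 2 k (QG (bPlus n)) ↔ n + 1 ≤ k :=
  qg_rank (ε := 0) (bPlus_nd n) zero_le_one hn (card_qgPlus n) (fun i => Pi.single (.inl i) 1)
    (fun i => Pi.single (.inr i) 1) (by simp [bPlus_apply]) (by simp [bPlus_apply])
    (fun i j => by simp [bPlus_apply, Pi.single_apply, eq_comm]) (by simp [bPlus_apply])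
    (by simp [bPlus_apply]) k

theorem rank_qgMinus (m : ℕ) (k : ℕ) : PRankLE 2 k (QG (bMinus m)) ↔ m + 1 ≤ k := by
  refine qg_rank (ε := 1) (bMinus_nd m) le_rfl (by omega) (card_qgMinus m)
    (Fin.lastCases (Pi.single (.inr 0) 1) fun i => Pi.single (.inl (.inl i)) 1)
    (Fin.lastCases (Pi.single (.inr 1) 1) fun i => Pi.single (.inl (.inr i)) 1)
    (fun i j => ?_) (fun i j => ?_) (fun i j => ?_) (fun i => ?_) (fun i => ?_) k
  · induction i using Fin.lastCases <;> induction j using Fin.lastCases <;>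
      simp [bMinus_apply, two_add_self]
  · induction i using Fin.lastCases <;> induction j using Fin.lastCases <;>
      simp [bMinus_apply, two_add_self]
  · induction i using Fin.lastCases <;> induction j using Fin.lastCases <;>
      simp [bMinus_apply, Pi.single_apply, eq_comm, Fin.castSucc_ne_last, (Fin.castSucc_ne_last _).symm]
  · induction i using Fin.lastCases with
    | last => simp [bMinus_apply]
    | cast i => simp [bMinus_apply, i.2.ne]
  · induction i using Fin.lastCases with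
    | last => simp [bMinus_apply]
    | cast i => simp [bMinus_apply, i.2.ne]

theorem es_qgPlus {n : ℕ} (hn : 1 ≤ n) : IsExtraspecial 2 (QG (bPlus n)) := by
  have : Nonempty (Fin n ⊕ Fin n) := ⟨.inl ⟨0, hn⟩⟩
  exact QG.isExtraspecial (bPlus_nd n)

theorem es_qgMinus (m : ℕ) : IsExtraspecial 2 (QG (bMinus m)) := QG.isExtraspecial (bMinus_nd m)

theorem exists_elem_of_rank {G : Type*} [Group G] [Finite G] {p r : ℕ} [hp : Fact p.Prime]
    (h1 : PRankLE p (r + 1) G) (h2 : ¬ PRankLE p r G) :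
    ∃ A : Subgroup G, IsElementaryAbelian p A ∧ Nat.card A = p ^ (r + 1) := by
  simp only [PRankLE, not_forall, not_le] at h2
  obtain ⟨A, hA, hA', hc⟩ := h2
  have hpA : IsPGroup p A := fun g => ⟨1, Subtype.ext (by simpa using hA' g g.2)⟩
  obtain ⟨k, hk⟩ := IsPGroup.iff_card.1 hpA
  have h3 := h1 A hA hA'
  rw [hk] at h3 hc
  have h4 := (Nat.pow_le_pow_iff_right hp.out.one_lt).1 h3
  have h5 := (Nat.pow_lt_pow_iff_right hp.out.one_lt).1 hc
  exact ⟨A, ⟨hA, hA'⟩, by rw [hk]; congr 1; omega⟩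

variable {E : Type*} [Group E] [Finite E]

theorem es_rank_plus (hE : IsExtraspecial 2 E) {n : ℕ} (hc : Nat.card E = 2 ^ (2 * n + 1))
    (hp : ∃ A : Subgroup E, IsElementaryAbelian 2 A ∧ Nat.card A = 2 ^ (n + 1)) (k : ℕ) :
    PRankLE 2 k E ↔ n + 1 ≤ k := by
  obtain ⟨z, m, x, y, ε, e, hm, hz, b, c, d, r⟩ := Cfsg.Agent.S3763.aux hE
  obtain rfl : n = m := by
    have := Nat.pow_right_injective le_rfl (hc.symm.trans c)
    omega
  obtain ⟨A, hA, hAc⟩ := hp
  obtain rfl : ε = 0 := by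
    by_contra h
    have h1 := (r n).2 (by omega) A hA.1 hA.2
    rw [hAc] at h1
    have := (Nat.pow_le_pow_iff_right (by norm_num : 1 < 2)).1 h1
    omega
  exact r k

theorem es_rank_minus (hE : IsExtraspecial 2 E) {n : ℕ} (hc : Nat.card E = 2 ^ (2 * n + 1))
    (hp : ¬ ∃ A : Subgroup E, IsElementaryAbelian 2 A ∧ Nat.card A = 2 ^ (n + 1)) (k : ℕ) :
    PRankLE 2 k E ↔ n ≤ k := by
  obtain ⟨z, m, x, y, ε, e, hm, hz, b, c, d, r⟩ := Cfsg.Agent.S3763.aux hE
  obtain rfl : n = m := by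
    have := Nat.pow_right_injective le_rfl (hc.symm.trans c)
    omega
  obtain rfl : ε = 1 := by
    by_contra h
    exact hp (exists_elem_of_rank ((r _).2 (by omega)) (by rw [r]; omega))
  exact r k

theorem es_equiv_plus (hE : IsExtraspecial 2 E) {n : ℕ} (hn : 1 ≤ n)
    (hc : Nat.card E = 2 ^ (2 * n + 1))
    (hp : ∃ A : Subgroup E, IsElementaryAbelian 2 A ∧ Nat.card A = 2 ^ (n + 1)) :
    Nonempty (E ≃* QG (bPlus n)) :=
  (Cfsg.Agent.S3763.result hE n hc).2 _ (es_qgPlus hn) ((card_qgPlus n).trans hc.symm) fun k => by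
    rw [es_rank_plus hE hc hp, rank_qgPlus hn]

theorem es_equiv_minus (hE : IsExtraspecial 2 E) {m : ℕ}
    (hc : Nat.card E = 2 ^ (2 * (m + 1) + 1))
    (hp : ¬ ∃ A : Subgroup E, IsElementaryAbelian 2 A ∧ Nat.card A = 2 ^ (m + 1 + 1)) :
    Nonempty (E ≃* QG (bMinus m)) :=
  (Cfsg.Agent.S3763.result hE _ hc).2 _ (es_qgMinus m) ((card_qgMinus m).trans hc.symm) fun k => by
    rw [es_rank_minus hE hc hp, rank_qgMinus]

theorem es_out_plus (hE : IsExtraspecial 2 E) {n : ℕ} (hn : 1 ≤ n)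
    (hc : Nat.card E = 2 ^ (2 * n + 1))
    (hp : ∃ A : Subgroup E, IsElementaryAbelian 2 A ∧ Nat.card A = 2 ^ (n + 1)) :
    Nonempty (Out E ≃* isometryGroup (ZMod 2) (quadFormPlus n (ZMod 2))) := by
  obtain ⟨e⟩ := es_equiv_plus hE hn hc hp
  obtain ⟨f⟩ := out_congr e
  obtain ⟨g⟩ := QG.out_equiv (bPlus_nd n) (quadFormPlus n (ZMod 2)) fun _ => rfl
  exact ⟨f.trans g⟩

theorem es_out_minus (hE : IsExtraspecial 2 E) {m : ℕ}
    (hc : Nat.card E = 2 ^ (2 * (m + 1) + 1))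
    (hp : ¬ ∃ A : Subgroup E, IsElementaryAbelian 2 A ∧ Nat.card A = 2 ^ (m + 1 + 1)) :
    Nonempty (Out E ≃* isometryGroup (ZMod 2) (quadFormMinus m (ZMod 2) 1 1)) := by
  obtain ⟨e⟩ := es_equiv_minus hE hc hp
  obtain ⟨f⟩ := out_congr e
  obtain ⟨g⟩ := QG.out_equiv (bMinus_nd m) (quadFormMinus m (ZMod 2) 1 1) fun _ => by
    rw [bMinus_apply, quadFormMinus]; ring
  exact ⟨f.trans g⟩

end H12
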