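import Cfsg.Agent.H12.BG2
import Cfsg.Agent.H1.PSolv
import Cfsg.Agent.H22.Linear
import Cfsg.Agent.S0618
import Cfsg.Agent.S0609

/-! Primes dividing automizers of `p`-subgroups are seen on normal subgroups of a Sylow
subgroup. -/

set_option autoImplicit false

namespace H12.AZ

open Subgroup Cfsg H16 H12.BG
open H15 hiding card_cj cent_anti cent_bot cent_comm cent_le_cent1 cent_le_norm cent_sup cent_zpowers cj_bot cj_cent cj_cj_inv cj_comm cj_eq_bot cj_eq_iff cj_eq_top cj_inf cj_inj cj_inv_cj cj_le_cj cj_le_iff cj_le_of_mem cj_lt_cj cj_mono cj_norm cj_one cj_sup cj_top comm_le_left comm_le_right comm_of_cyclic comm_of_le comm_sup le_cj_iff mem_cent mem_cent1 mem_cj mem_norm_of_cj_le norm_bot norm_top relIndex_cj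
open scoped commutatorElement

universe u

variable {G : Type*} [Group G] {G' : Type*} [Group G'] {A B H K N M S P Y T D L : Subgroup G}
  {p q : ℕ} {π : Set ℕ}

/-- Hall `{p, q}`-subgroups of `p`-solvable groups -/
theorem hall_pq [hp : Fact p.Prime] [hq : Fact q.Prime] (n : ℕ) : ∀ (G : Type u) [Group G]
    [Finite G], Nat.card G = n → IsPSolvable p G → ∃ L : Subgroup G, Hl[{p, q}] L ⊤ := by
  induction n using Nat.strong_induction_on with
  | _ n ih =>
  intro G _ _ hn hs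
  by_cases htop : (⊤ : Subgroup G) = ⊥
  · exact ⟨⊤, hl_self (htop ▸ isPi_bot _)⟩
  obtain ⟨N, hN, h0, -, hmin⟩ := H1.exists_minimal_normal_le (⊤ : Subgroup G) htop
  have hsj := QuotientGroup.mk'_surjective N
  obtain ⟨L', hL'⟩ := ih _ (hn ▸ H1.card_quotient_lt h0) (G ⧸ N) rfl
    (H1.IsPSolvable.quotient hs N)
  have hpi : Pi[{p, q}] N → ∃ L : Subgroup G, Hl[{p, q}] L ⊤ := fun h => by
    have := H1.IsPiHallOf.comap hsj hL' (by rw [QuotientGroup.ker_mk']; exact h)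
    exact ⟨_, by rwa [comap_top] at this⟩
  rcases H1.IsPSolvable.minimal_normal (H1.IsPSolvable.subgroup hs N) hmin with h | h
  · exact hpi ((pg_iff.2 h).mono (by simp))
  set M := L'.comap (QuotientGroup.mk' N) with hM
  have hNM : N ≤ M := by
    have := ker_le_comap (QuotientGroup.mk' N) L'
    rwa [QuotientGroup.ker_mk'] at this
  have hMi : H1.IsPiNat ({p, q} : Set ℕ)ᶜ (M.relIndex ⊤) := by
    have := hl_idx hL'
    rwa [relIndex_top_right, hM, index_comap_of_surjective _ hsj, ← relIndex_top_right]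
  obtain ⟨Q, hQ⟩ := sy_exists q N
  have hQi : H1.IsPiNat ({p, q} : Set ℕ)ᶜ (Q.relIndex N) := by
    intro r hr hd hm
    rcases hm with rfl | rfl
    · exact (Nat.Prime.coprime_iff_not_dvd hr).1 h.symm (hd.trans (relIndex_dvd_card _ _))
    · exact sy_not_dvd hQ hr hd
  by_cases hT : M ⊓ N[Q] = ⊤
  · have hQn : Q.Normal := normal_of_top (hT.ge.trans inf_le_right)
    rcases hmin Q hQn hQ.1 with rfl | rfl
    · have hM' : M = ⊤ := top_le_iff.1 (hT.ge.trans inf_le_left)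
      rw [relIndex_bot_left] at hQi
      have hi : H1.IsPiNat ({p, q} : Set ℕ) N.index := by
        have h1 := H1.card_comap_mk' N L'
        rw [← hM, hM', card_top, ← N.index_mul_card] at h1
        rw [Nat.eq_of_mul_eq_mul_right (card_pos' N) h1]
        exact hl_pi hL'
      obtain ⟨L, hL⟩ := exists_right_complement'_of_coprime (N := N) (hi.coprime hQi).symm
      refine ⟨L, hl_mk le_top ?_ ?_⟩
      · have := hL.symm.index_eq_card
        rw [this] at hi; exact hi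
      · rw [relIndex_top_right, hL.index_eq_card]; exact hQi
    · exact hpi ((hl_pi hQ).mono (by simp))
  · obtain ⟨L, hL⟩ := ih _ (hn ▸ H1.card_lt_card_of_ne_top hT) ↥(M ⊓ N[Q]) rfl
      (H1.IsPSolvable.subgroup hs _)
    refine ⟨_, hl_of_idx (hl_of_idx (H1.isPiHallOf_map_subtype.2 (hl_top_iff.1 hL)) inf_le_left ?_)
      le_top hMi⟩
    have e := sy_frattini_sup hQ hNM (le_norm_normal _)
    refine hQi.of_dvd ?_
    conv_lhs => congr; rfl; rw [← e]
    rw [relIndex_sup_r (Or.inl (le_norm_normal _))]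
    exact relIndex_dvd_of_le_left _ (le_inf (hQ.1.trans hNM) (le_norm Q))

/-- `{p, q}`-groups are Thompson factorizable unless `{p, q} = {2, 3}` -/
theorem tf_pq [Finite G] [hp : Fact p.Prime]
    (h23 : ¬ ((p = 2 ∧ q = 3) ∨ (p = 3 ∧ q = 2))) (hs : IsPSolvable p G)
    (hπ : H1.IsPiNat {p, q} (Nat.card G)) : IsThompsonFactorizable p G := by
  rw [Cfsg.Agent.S0609.result]
  by_contra h
  obtain ⟨h2, E, -, -, -, hn, ⟨e⟩⟩ := Cfsg.Agent.S0618.result
    (H1.IsPSolvable.quotient hs _) (H1.pPrimeCore_quotient_pPrimeCore p) h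
  have h1 := (H1.card_quotient_dvd _).trans ((card_subgroup_dvd_card E).trans
    (H1.card_quotient_dvd _)) |> (Nat.card_congr e.toEquiv ▸ ·)
  have h6 : 6 ∣ Nat.card G := by
    refine Dvd.dvd.trans ?_ h1
    rw [H22.card_SL_two, ZMod.card]
    rcases h2 with rfl | rfl <;> norm_num
  have a2 := hπ 2 Nat.prime_two (Dvd.dvd.trans (by norm_num) h6)
  have a3 := hπ 3 Nat.prime_three (Dvd.dvd.trans (by norm_num) h6)
  simp only [Set.mem_insert_iff, Set.mem_singleton_iff] at a2 a3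
  omega

def Good (p q : ℕ) (H : Subgroup G) : Prop :=
  Pg[p] H ∧ ∃ Y : Subgroup G, Pg[q] Y ∧ Y ≤ N[H] ∧ ¬ Y ≤ C[H]

def PS (p : ℕ) (G : Type*) [Group G] : Prop :=
  ∀ H : Subgroup G, Pg[p] H → IsPSolvable p (N[H] ⧸ (C[H]).subgroupOf N[H])

theorem Good.ne_bot (h : Good p q H) : H ≠ ⊥ := by
  rintro rfl
  obtain ⟨-, Y, -, -, h⟩ := h
  exact h (by rw [cent_bot]; exact le_top)

theorem cent_map_le (f : G →* G') (h : A ≤ C[H]) : A.map f ≤ C[H.map f] := by
  rw [← comm_eq_bot] at h ⊢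
  rw [← Subgroup.map_commutator, h, Subgroup.map_bot]

theorem cent_of_map {f : G →* G'} (hf : Function.Injective f) (h : A.map f ≤ C[H.map f]) :
    A ≤ C[H] := by
  rw [← comm_eq_bot] at h ⊢
  rwa [← Subgroup.map_commutator, map_eq_bot_iff_of_injective _ hf] at h

theorem Good.map {f : G →* G'} (hf : Function.Injective f) (h : Good p q H) :
    Good p q (H.map f) := by
  obtain ⟨h1, Y, h2, h3, h4⟩ := h
  exact ⟨h1.map f, Y.map f, h2.map f, H1.le_normalizer_map h3 f, fun h => h4 (cent_of_map hf h)⟩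

theorem norm_comap {f : G →* G'} {X Z : Subgroup G'} (h : X ≤ N[Z]) :
    X.comap f ≤ N[Z.comap f] := (comap_mono h).trans (le_normalizer_comap f)

theorem Good.comap [Finite G] [Finite G'] (hq : q.Prime) {f : G →* G'}
    (hf : Function.Surjective f) (hk : Pg[p] f.ker) {K : Subgroup G'} (h : Good p q K) :
    Good p q (K.comap f) := by
  obtain ⟨h1, Y, h2, h3, h4⟩ := h
  obtain ⟨Y', h5, rfl⟩ := lift_pg hq hf h2
  refine ⟨?_, Y', h5, (le_comap_map f Y').trans (norm_comap h3), fun h => h4 ?_⟩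
  · have := H1.IsPiNat.mul h1 hk
    rwa [← H1.card_comap_of_surjective K hf] at this
  · have := cent_map_le f h
    rwa [map_comap_eq_self_of_surjective hf] at this

theorem PS.sub [Finite G] [Fact p.Prime] (h : PS p G) (M : Subgroup G) : PS p M := by
  intro H hH
  let f : N[H] →* N[H.map M.subtype] :=
    (M.subtype.comp (N[H]).subtype).codRestrict _ fun x =>
      H1.le_normalizer_map le_rfl M.subtype (mem_map_of_mem _ x.2)
  have hf : (C[H]).subgroupOf N[H] = ((C[H.map M.subtype]).subgroupOf _).comap f := by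
    ext x
    simp only [mem_subgroupOf, mem_comap, mem_cent]
    constructor
    · rintro h _ ⟨y, hy, rfl⟩
      exact congrArg Subtype.val (h y hy)
    · intro h y hy
      exact Subtype.ext (h _ (mem_map_of_mem _ hy))
  refine H1.IsPSolvable.of_injective (h _ (hH.map _)) (QuotientGroup.map _ _ f hf.le) ?_
  rw [injective_iff_map_eq_one]
  intro x hx
  obtain ⟨x, rfl⟩ := QuotientGroup.mk_surjective x
  rw [QuotientGroup.map_mk, QuotientGroup.eq_one_iff] at hx
  rw [QuotientGroup.eq_one_iff, hf]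
  exact hx

theorem PS.push [Finite G] [Fact p.Prime] (h : PS p G) {f : G →* G'}
    (hf : Function.Surjective f) (hk : Pg[p] f.ker) : PS p G' := by
  intro H hH
  have h1 : Pg[p] (H.comap f) := by
    have := H1.IsPiNat.mul hH hk
    rwa [← H1.card_comap_of_surjective H hf] at this
  have e := comap_normalizer_eq_of_surjective H hf
  let g : N[H.comap f] →* N[H] :=
    (f.comp (N[H.comap f]).subtype).codRestrict _ fun x => (e.ge x.2)
  have hg : (C[H.comap f]).subgroupOf N[H.comap f] ≤ ((C[H]).subgroupOf _).comap g := by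
    intro x hx
    simp only [mem_subgroupOf, mem_comap, mem_cent] at hx ⊢
    intro y hy
    obtain ⟨y, rfl⟩ := hf y
    have := congrArg f (hx y hy)
    rwa [map_mul, map_mul] at this
  refine H1.IsPSolvable.of_surjective (h _ h1) (QuotientGroup.map _ _ g hg) ?_
  intro x
  obtain ⟨⟨x, hx⟩, rfl⟩ := QuotientGroup.mk_surjective x
  obtain ⟨y, rfl⟩ := hf x
  exact ⟨((⟨y, e.le hx⟩ : N[H.comap f]) : _ ⧸ _), rfl⟩

theorem le_of_cover [Finite G] (hn : M ≤ N[D]) (hT : D ⊔ T = M) (hY : Y ≤ M) (hq : Pg[q] Y)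
    (h : Sy[q] S T) (hS : S ≤ D) : Y ≤ D := by
  refine le_of_cop_idx hY hn hq ?_
  rw [← hT, relIndex_sup_l ((hT ▸ le_sup_right : T ≤ M).trans hn)]
  exact (hl_idx h).of_dvd (relIndex_dvd_of_le_left _ hS)

theorem le_of_sup [Finite G] (hpq : p ≠ q) (hP : Pg[p] P) (hn : P ≤ N[D]) (hY : Y ≤ D ⊔ P)
    (hq : Pg[q] Y) : Y ≤ D := by
  refine le_of_cop_idx hY (sup_le (le_norm D) hn) hq ?_
  rw [relIndex_sup_l hn]
  exact (hP.compl_of_ne hpq).relIndex D

theorem fact [Finite G] [hp : Fact p.Prime] (h : IsThompsonFactorizable p L) (hP : Sy[p] P L) :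
    L ≤ Op[{p}ᶜ] L ⊔ (L ⊓ C[Om[p] (P ⊓ C[P])]) ⊔ (L ⊓ N[thompsonSubgroupOf p P]) := by
  obtain ⟨S, rfl⟩ := sylow_of_sy hP
  intro g hg
  obtain ⟨x, hx, c, hc, n, hn, e⟩ := h S ⟨g, hg⟩
  have e' : g = x * c * n := congrArg Subtype.val e
  rw [e']
  refine mul_mem (mem_sup_left (mul_mem (mem_sup_left ?_) (mem_sup_right ⟨c.2, ?_⟩)))
    (mem_sup_right ⟨n.2, ?_⟩)
  · rw [← pPrimeCore_map_subtype]; exact mem_map_of_mem _ hx
  · have := cent_map_le L.subtype (A := zpowers c) (zpowers_le.2 hc)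
      (mem_map_of_mem _ (mem_zpowers c))
    rwa [H4.map_omegaOne_of_injective _ L.subtype_injective, H4.map_inf_centralizer _
      (H4.inf_ker_eq_bot_of_injective _ L.subtype_injective) le_rfl] at this
  · have := H1.le_normalizer_map (A := zpowers n) (zpowers_le.2 hn) L.subtype
      (mem_map_of_mem _ (mem_zpowers n))
    rwa [H4.map_thompsonOf_of_injective _ L.subtype_injective] at this

theorem thompson_ne_bot [Finite G] (hp : p.Prime) (hP : Pg[p] P) (h0 : P ≠ ⊥) :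
    thompsonSubgroupOf p P ≠ ⊥ := by
  obtain ⟨A, hA⟩ := H4.maxAb_nonempty p P
  obtain ⟨X, hX, hc⟩ := exists_card_prime hp (hP.dvd_of_ne_bot h0)
  have := H4.maxAb_card_le hA hX (ea_of_card hp hc)
  refine ne_bot_of_le ?_ (H4.le_thompsonOf hA)
  rintro rfl
  rw [card_bot, hc] at this
  exact absurd hp.one_lt (by omega)

theorem main [hp : Fact p.Prime] [hq : Fact q.Prime] (hpq : p ≠ q)
    (h23 : ¬ ((p = 2 ∧ q = 3) ∨ (p = 3 ∧ q = 2))) (n : ℕ) : ∀ (G : Type u) [Group G]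
    [Finite G], Nat.card G = n → PS p G → ∀ H : Subgroup G, Good p q H →
    ∃ K P : Subgroup G, Sy[p] P ⊤ ∧ K ≤ P ∧ P ≤ N[K] ∧ Good p q K := by
  induction n using Nat.strong_induction_on with
  | _ n ih =>
  intro G _ _ hn hps H0 hH0
  obtain ⟨P0, ⟨hP0, H1', g1, g2, g3⟩, hmax⟩ := Set.exists_max_image
    {P0 : Subgroup G | Pg[p] P0 ∧ ∃ H, Good p q H ∧ H ≤ P0 ∧ P0 ≤ N[H]}
    (fun P0 => Nat.card P0) (Set.toFinite _) ⟨H0, hH0.1, H0, hH0, le_rfl, le_norm H0⟩
  replace hmax : ∀ X K : Subgroup G, Pg[p] X → Good p q K → K ≤ X → X ≤ N[K] →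
      Nat.card X ≤ Nat.card P0 := fun X K a b c d => hmax X ⟨a, K, b, c, d⟩
  obtain ⟨H, -, ⟨hH, hHP, hPH⟩, hHm⟩ := exists_max_of
    (C := fun H : Subgroup G => Good p q H ∧ H ≤ P0 ∧ P0 ≤ N[H]) ⟨g1, g2, g3⟩
  have hS : Sy[p] P0 N[H] := by
    obtain ⟨X, hX, hle⟩ := sy_exists_ge hPH hP0
    rwa [eq_of_le_of_card hle (hmax X H (hl_pi hX) hH (hHP.trans hle) hX.1)]
  obtain ⟨P, hP, hP0P⟩ := sy_exists_ge (M := ⊤) le_top hP0
  rcases hP0P.eq_or_lt with rfl | hlt
  · exact ⟨H, P0, hP, hHP, hPH, hH⟩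
  exfalso
  have hlt2 := lt_sy_norm hP hlt
  have hH' := hH
  obtain ⟨hHp, Y, hY, hYN, hYC⟩ := hH'
  have hCN : N[H] ≤ N[C[H]] := norm_cent le_rfl
  -- every Sylow `q`-subgroup of a supplement acts
  have cover : ∀ T S : Subgroup G, (C[H] ⊔ H) ⊔ T = N[H] → Sy[q] S T → ¬ S ≤ C[H] := by
    intro T S hT hS' h
    exact hYC (le_of_sup hpq hHp ((le_norm H).trans hCN) (le_of_cover
      (norm_sup hCN le_rfl) hT hYN hY hS' (h.trans le_sup_left)) hY)
  have hD : C[H] ⊔ H ≤ N[H] := sup_le (cent_le_norm H) (le_norm H)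
  have step1 : P0 ⊓ C[H] ≤ H := by
    have h1 : Sy[p] (P0 ⊓ (C[H] ⊔ H)) (C[H] ⊔ H) := hl_inf hS hD (hPH.trans (norm_sup hCN le_rfl))
    have h2 := sy_frattini_sup h1 hD (norm_sup hCN le_rfl)
    obtain ⟨S, hS'⟩ := sy_exists q (N[H] ⊓ N[(P0 ⊓ (C[H] ⊔ H) : Subgroup G)])
    have h3 : H ≤ P0 ⊓ (C[H] ⊔ H) := le_inf hHP le_sup_right
    exact (inf_le_inf_left P0 le_sup_left).trans (hHm _ ⟨⟨hl_pi h1, S, hl_pi hS',
      hS'.1.trans inf_le_right, fun h => cover _ S h2 hS' (h.trans (cent_anti h3))⟩, inf_le_left,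
      norm_inf (le_norm P0) (hPH.trans (norm_sup hCN le_rfl))⟩ h3).le
  have step2 : IsPSolvable p N[H] := by
    refine H1.IsPSolvable.of_normal_quotient ((C[H]).subgroupOf N[H]) ?_ (hps H hHp)
    refine H1.IsPSolvable.subgroupOf (H := C[H]) ?_ N[H]
    have h1 : Sy[p] (P0 ⊓ C[H]) C[H] := hl_inf hS (cent_le_norm H) (hPH.trans hCN)
    haveI : ((P0 ⊓ C[H]).subgroupOf C[H]).Normal :=
      (normal_subgroupOf_iff_le_normalizer inf_le_right).2 (norm_of_cent (cent_anti step1))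
    refine H1.IsPSolvable.of_normal_quotient ((P0 ⊓ C[H]).subgroupOf C[H])
      (H1.IsPSolvable.subgroupOf (H1.isPSolvable_of_isPGroup (sy_pg h1)) _)
      (H1.isPSolvable_of_not_dvd (sy_not_dvd h1 hp.out))
  obtain ⟨L, hL, hP0L⟩ : ∃ L, Hl[{p, q}] L N[H] ∧ P0 ≤ L := by
    obtain ⟨L, hL⟩ := hall_pq (q := q) _ N[H] rfl step2
    have hL' := H1.isPiHallOf_map_subtype.2 (hl_top_iff.1 hL)
    obtain ⟨X, hX⟩ := sy_exists p (L.map (N[H]).subtype)
    obtain ⟨g, hg, e⟩ := sy_conj (sy_trans hX hL' (by simp)) hS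
    exact ⟨_, hl_cj_mem hL' hg, e ▸ cj_mono g hX.1⟩
  have hSL : Sy[p] P0 L := hl_of_le hS hP0L hL.1
  have hfac := fact (tf_pq h23 (H1.IsPSolvable.of_le step2 hL.1) (hl_pi hL)) hSL
  have h00 : P0 ≠ ⊥ := ne_bot_of_le hH.ne_bot hHP
  have step4 : ∃ K Y1 : Subgroup G, K ≠ ⊥ ∧ K ≤ P0 ∧ N[P0] ≤ N[K] ∧ Pg[q] Y1 ∧ Y1 ≤ N[H] ∧
      Y1 ≤ N[K] ∧ ¬ Y1 ≤ C[H] := by
    by_contra hne
    push Not at hne
    have key : ∀ K T : Subgroup G, K ≠ ⊥ → K ≤ P0 → N[P0] ≤ N[K] → P0 ≤ T → T ≤ L → T ≤ N[K] →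
        T ≤ C[H] ⊔ P0 := by
      intro K T a b c d e f
      refine le_of_sy fun r hr hd => ?_
      rcases hl_pi hL r hr (hd.trans (card_dvd e)) with rfl | rfl
      · exact ⟨P0, hl_of_le hSL d e, le_sup_right⟩
      · obtain ⟨S, hS'⟩ := sy_exists r T
        exact ⟨S, hS', (hne K S a b c (hl_pi hS') (hS'.1.trans (e.trans hL.1))
          (hS'.1.trans f)).trans le_sup_left⟩
    have hLW : L ≤ C[H] ⊔ P0 := by
      refine hfac.trans (sup_le (sup_le ?_ ?_) ?_)
      · refine le_trans ?_ le_sup_left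
        exact le_cent_of_coprime ((hHP.trans hP0L).trans (le_norm_piCoreOf_self _ _))
          ((piCoreOf_le _ _).trans hL.1) ((isPi_piCoreOf _ _).coprime' hHp)
      · refine key (Om[p] (P0 ⊓ C[P0])) _ (om_ne_bot hp.out (hP0.inf_left.dvd_of_ne_bot
          (pg_inf_cent_ne_bot hp.out hP0 hP0 (le_norm P0) h00))) ((om_le _ _).trans inf_le_left)
          (norm_om (norm_inf le_rfl (norm_cent le_rfl)))
          (le_inf hP0L (cent_symm ((om_le _ _).trans inf_le_right))) inf_le_left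
          (inf_le_right.trans (cent_le_norm _))
      · exact key _ _ (thompson_ne_bot hp.out hP0 h00) (H4.thompsonOf_le _)
          (H4.normalizer_le_normalizer_thompsonOf _)
          (le_inf hP0L ((le_norm _).trans (H4.normalizer_le_normalizer_thompsonOf _)))
          inf_le_left inf_le_right
    obtain ⟨S, hS'⟩ := sy_exists q L
    exact cover N[H] S (sup_eq_right.2 hD) (sy_trans hS' hL (by simp))
      (le_of_sup hpq hP0 (hPH.trans hCN) (hS'.1.trans hLW) (hl_pi hS'))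
  obtain ⟨K, Y1, k0, k1, k2, k3, k4, k5, k6⟩ := step4
  have hP2 : Pg[p] (P ⊓ N[P0] : Subgroup G) := (hl_pi hP).inf_left
  have hKp : Pg[p] K := hP0.of_le k1
  have k7 : Y1 ≤ C[K] := by
    by_contra h
    exact absurd (hmax _ K hP2 ⟨hKp, Y1, k3, k5, h⟩ (k1.trans hlt2.le) (inf_le_right.trans k2))
      (not_le.2 (card_lt hlt2))
  have hP0K : P0 ≤ N[K] := (le_norm P0).trans k2
  have hKH : K ≤ H := by
    exact le_sup_right.trans (hHm (H ⊔ K) ⟨⟨hP0.of_le (sup_le hHP k1), Y1, k3, norm_sup k4 k5,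
      fun h => k6 (h.trans (cent_anti le_sup_left))⟩, sup_le hHP k1, norm_sup hPH hP0K⟩
      le_sup_left).le
  set M := N[K] with hM
  haveI hKn : (K.subgroupOf M).Normal := normal_in_normalizer
  have hsj := QuotientGroup.mk'_surjective (K.subgroupOf M)
  have hker : Pg[p] (QuotientGroup.mk' (K.subgroupOf M)).ker := by
    rw [QuotientGroup.ker_mk']; exact hKp.subgroupOf M
  have hHM : H ≤ M := hHP.trans hP0K
  have hlt3 : Nat.card (M ⧸ K.subgroupOf M) < n := by
    refine hn ▸ lt_of_lt_of_le (H1.card_quotient_lt ?_) (Subgroup.card_le_card_group M)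
    intro h
    apply k0
    rw [← map_subgroupOf_eq_of_le (le_norm K), h, Subgroup.map_bot]
  obtain ⟨K1, P1, c1, c2, c3, c4⟩ := ih _ hlt3 _ rfl ((hps.sub M).push hsj hker)
    ((H.subgroupOf M).map (QuotientGroup.mk' _)) ⟨(hHp.subgroupOf M).map _,
      (Y1.subgroupOf M).map (QuotientGroup.mk' _), (k3.subgroupOf M).map _,
      H1.le_normalizer_map (H1.le_normalizer_subgroupOf k4 M) _, fun h => k6 (by
        refine cop_cent_of_comm_cent k4 (k3.coprime (hHp.compl_of_ne hpq))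
          (le_trans ?_ (cent_symm k7))
        have h1 := comm_eq_bot.2 (cent_symm h)
        rw [← Subgroup.map_commutator, Subgroup.map_eq_bot_iff, QuotientGroup.ker_mk'] at h1
        have h2 := map_mono (f := M.subtype) h1
        rwa [Subgroup.map_commutator, map_subgroupOf_eq_of_le hHM, map_subgroupOf_eq_of_le k5,
          map_subgroupOf_eq_of_le (le_norm K)] at h2)⟩
  have d1 := H1.IsPiHallOf.comap hsj c1 hker
  rw [comap_top] at d1
  have d2 := H1.isPiHallOf_map_subtype.2 (hl_top_iff.1 d1)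
  have d3 := hmax _ _ (hl_pi d2) ((c4.comap hq.out hsj hker).map M.subtype_injective)
    (map_mono (comap_mono c2)) (H1.le_normalizer_map (norm_comap c3) _)
  have d4 := Nat.le_of_dvd (card_pos' _) (hl_card_dvd d2 (inf_le_right.trans k2) hP2)
  exact absurd (card_lt hlt2) (by omega)

theorem good_iff [Finite G] [hq : Fact q.Prime] (hH : Pg[p] H) :
    Good p q H ↔ q ∣ ((C[H]).subgroupOf N[H]).index := by
  constructor
  · rintro ⟨-, Y, h1, h2, h3⟩
    by_contra h
    exact h3 (le_of_cop_idx h2 (norm_cent le_rfl) h1 fun r _ hd hr => h (hr ▸ hd))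
  · intro h
    obtain ⟨Y, hY⟩ := sy_exists q N[H]
    exact ⟨hH, Y, hl_pi hY, hY.1, fun h1 =>
      sy_not_dvd hY hq.out (h.trans (relIndex_dvd_of_le_left _ h1))⟩

end H12.AZ
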