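import Cfsg.Agent.H10.Cores
import Cfsg.Agent.H3.Extraspecial
import Cfsg.Agent.H8.Orb3

/-! The centraliser of a translation in the affine group over the field with two elements. -/

set_option autoImplicit false
open Cfsg Subgroup Module
open scoped commutatorElement

namespace H12

/-- The data of a split extension of `F × W` by the stabiliser of `(1, 0)` in `GL (F × W)`. -/
structure AffC (F W H : Type*) [Field F] [AddCommGroup W] [Module F W] [Group H] where
  two : ∀ a : F, a = 0 ∨ a = 1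
  ι : Multiplicative (F × W) →* H
  inj : Function.Injective ι
  ρ : H →* End F (F × W)
  conj : ∀ g v, ι (.ofAdd (ρ g v)) = g * ι (.ofAdd v) * g⁻¹
  fix : ∀ g, ρ g (1, 0) = (1, 0)
  ker : ∀ g, ρ g = 1 → g ∈ ι.range
  M : Subgroup H
  disj : ∀ m ∈ M, m ∈ ι.range → m = 1
  full : ∀ h : (F × W) ≃ₗ[F] (F × W), h (1, 0) = (1, 0) → ∃ m ∈ M, ρ m = h.toLinearMap

namespace AffC
variable {F W H : Type*} [Field F] [AddCommGroup W] [Module F W] [Group H] (A : AffC F W H)

theorem add_self (A : AffC F W H) {X : Type*} [AddCommGroup X] [Module F X] (x : X) : x + x = 0 := by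
  rcases A.two (1 + 1) with h | h
  · rw [← one_smul F x, ← add_smul, h, zero_smul]
  · exact absurd h (by simp)

theorem rho_eq (g : H) (a : F) (w : W) :
    A.ρ g (a, w) = (a + (A.ρ g (0, w)).1, (A.ρ g (0, w)).2) := by
  have : (a, w) = a • ((1 : F), (0 : W)) + (0, w) := by simp
  rw [this, map_add, map_smul, A.fix]; ext <;> simp

theorem rho_iota (v : Multiplicative (F × W)) : A.ρ (A.ι v) = 1 := LinearMap.ext fun u => by
  have := A.conj (A.ι v) u
  rw [← map_inv, ← map_mul, ← map_mul, mul_inv_cancel_comm] at this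
  exact A.inj this

/-- action on the quotient -/
def κ₀ : H →* End F W where
  toFun g := LinearMap.snd F F W ∘ₗ A.ρ g ∘ₗ LinearMap.inr F F W
  map_one' := by ext; simp
  map_mul' g h := LinearMap.ext fun w => by
    show (A.ρ (g * h) (0, w)).2 = (A.ρ g (0, (A.ρ h (0, w)).2)).2
    rw [map_mul, End.mul_apply, ← Prod.mk.eta (p := A.ρ h (0, w)), A.rho_eq]

/-- action on the quotient, as units -/
def κ : H →* (End F W)ˣ := A.κ₀.toHomUnits

theorem mem_ker {g : H} : g ∈ A.κ.ker ↔ ∀ w, (A.ρ g (0, w)).2 = w := by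
  rw [MonoidHom.mem_ker, Units.ext_iff]; exact LinearMap.ext_iff

theorem iota_mem (v : Multiplicative (F × W)) : A.ι v ∈ A.κ.ker :=
  A.mem_ker.2 fun w => by rw [A.rho_iota]; rfl

/-- the central involution -/
def z : H := A.ι (.ofAdd (1, 0))

theorem z_central : A.z ∈ center H := mem_center_iff.2 fun g => by
  have := A.conj g (1, 0)
  rw [A.fix] at this
  exact (mul_inv_eq_iff_eq_mul.1 this.symm)

theorem iota_sq (v : Multiplicative (F × W)) : A.ι v ^ 2 = 1 := by
  rw [← map_pow, sq]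
  exact (congrArg A.ι (A.add_self v.toAdd)).trans (map_one _)

theorem orderOf_z : orderOf A.z = 2 := orderOf_eq_prime (A.iota_sq _) fun e => by
  simpa using A.inj (e.trans (map_one _).symm)

theorem iota_mem_zpowers (a : F) : A.ι (.ofAdd (a, 0)) ∈ zpowers A.z := by
  rcases A.two a with rfl | rfl
  · exact (show A.ι (.ofAdd (0, 0)) = 1 from map_one _) ▸ one_mem _
  · exact mem_zpowers _

/-- The linear functional attached to an element of the kernel. -/
def μ : A.κ.ker →* Multiplicative (Dual F W) where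
  toFun g := .ofAdd (LinearMap.fst F F W ∘ₗ A.ρ g ∘ₗ LinearMap.inr F F W)
  map_one' := by ext; simp
  map_mul' g h := Multiplicative.toAdd.injective (LinearMap.ext fun w => by
    show (A.ρ (g * h) (0, w)).1 = (A.ρ g (0, w)).1 + (A.ρ h (0, w)).1
    rw [map_mul, End.mul_apply, ← Prod.mk.eta (p := A.ρ h (0, w)), A.rho_eq, A.mem_ker.1 h.2,
      add_comm])

theorem rho_eq_one {g : H} (h1 : ∀ w, (A.ρ g (0, w)).1 = 0) (h2 : ∀ w, (A.ρ g (0, w)).2 = w) :
    A.ρ g = 1 := LinearMap.ext fun v => by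
  rw [← Prod.mk.eta (p := v), A.rho_eq, h1, h2, add_zero]; rfl

theorem exists_M (l : Dual F W) (h : W ≃ₗ[F] W) :
    ∃ m ∈ A.M, ∀ w, A.ρ m (0, w) = (l w, h w) := by
  obtain ⟨m, hm, e⟩ := A.full (((LinearEquiv.prodComm F F W).trans
    (h.skewProd (LinearEquiv.refl F F) l)).trans (LinearEquiv.prodComm F W F)) (by simp)
  exact ⟨m, hm, fun w => by rw [e]; simp⟩

theorem mu_surj : Function.Surjective A.μ := fun l => by
  obtain ⟨m, -, e⟩ := A.exists_M l.toAdd (LinearEquiv.refl F W)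
  exact ⟨⟨m, A.mem_ker.2 fun w => by rw [e]; rfl⟩,
    Multiplicative.toAdd.injective (LinearMap.ext fun w => congrArg Prod.fst (e w))⟩

theorem mu_ker : A.μ.ker = A.ι.range.subgroupOf A.κ.ker := by
  ext g
  constructor
  · intro h
    exact A.ker _ (A.rho_eq_one (fun w => LinearMap.congr_fun (congrArg Multiplicative.toAdd h) w)
      (A.mem_ker.1 g.2))
  · rintro ⟨v, hv⟩
    refine Multiplicative.toAdd.injective (LinearMap.ext fun w => ?_)
    show (A.ρ g (0, w)).1 = 0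
    rw [← show A.ι v = g from hv, A.rho_iota]; rfl

theorem card_F (A : AffC F W H) : Nat.card F = 2 :=
  Nat.card_eq_two_iff.2 ⟨0, 1, zero_ne_one, Set.eq_univ_of_forall A.two⟩

theorem card_ker [Finite W] {n : ℕ} (hn : finrank F W = n) : Nat.card A.κ.ker = 2 ^ (2 * n + 1) := by
  have : Finite F := Nat.finite_of_card_ne_zero (by rw [A.card_F]; norm_num)
  have h1 := A.μ.ker.card_mul_index
  rw [index_ker, MonoidHom.range_eq_top.2 A.mu_surj, card_top, A.mu_ker,
    Nat.card_congr (subgroupOfEquivOfLe (by rintro _ ⟨v, rfl⟩; exact A.iota_mem v)).toEquiv,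
    ← Nat.card_congr (MonoidHom.ofInjective A.inj).toEquiv] at h1
  rw [← h1]
  show Nat.card (F × W) * Nat.card (Dual F W) = _
  rw [Nat.card_prod, Module.natCard_eq_pow_finrank (K := F) (V := W),
    Module.natCard_eq_pow_finrank (K := F) (V := Dual F W), Subspace.dual_finrank_eq, hn, A.card_F]
  ring

theorem sq_mem {g : H} (hg : g ∈ A.κ.ker) : g ^ 2 ∈ zpowers A.z := by
  obtain ⟨m, hm, e⟩ := A.exists_M (A.μ ⟨g, hg⟩).toAdd (LinearEquiv.refl F W)
  have hmk : m ∈ A.κ.ker := A.mem_ker.2 fun w => by rw [e]; rfl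
  have h1 : A.μ ⟨m, hmk⟩ = A.μ ⟨g, hg⟩ :=
    Multiplicative.toAdd.injective (LinearMap.ext fun w => by
      have := congrArg Prod.fst (e w)
      exact this)
  obtain ⟨v, hv⟩ : (⟨g, hg⟩ * ⟨m, hmk⟩⁻¹ : A.κ.ker) ∈ A.ι.range.subgroupOf A.κ.ker := by
    rw [← A.mu_ker, MonoidHom.mem_ker, map_mul, map_inv, h1, mul_inv_cancel]
  have h2 : m * m = 1 := A.disj _ (mul_mem hm hm) (by
    have : (⟨m, hmk⟩ * ⟨m, hmk⟩ : A.κ.ker) ∈ A.ι.range.subgroupOf A.κ.ker := by
      rw [← A.mu_ker, MonoidHom.mem_ker, map_mul]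
      exact Multiplicative.toAdd.injective (A.add_self _)
    exact this)
  have h3 : g = A.ι v * m := eq_mul_of_mul_inv_eq hv.symm
  have h4 : g ^ 2 = A.ι v * (m * A.ι (.ofAdd v.toAdd) * m⁻¹) := by
    rw [h3, sq, inv_eq_of_mul_eq_one_right h2]; simp [mul_assoc]
  rw [h4, ← A.conj, ← map_mul, ← Prod.mk.eta (p := v.toAdd), A.rho_eq, A.mem_ker.1 hmk]
  convert A.iota_mem_zpowers (A.ρ m (0, v.toAdd.2)).1 using 2
  refine Multiplicative.toAdd.injective (Prod.ext ?_ (A.add_self _))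
  show v.toAdd.1 + (v.toAdd.1 + _) = _
  rw [← add_assoc, A.add_self, zero_add]; rfl

theorem cent {g : H} (h : ∀ b ∈ A.κ.ker, g * b = b * g) : g ∈ zpowers A.z := by
  obtain ⟨v, rfl⟩ := A.ker g (LinearMap.ext fun u => A.inj ((A.conj g u).trans (by
    rw [h _ (A.iota_mem _), mul_inv_cancel_right]; rfl)))
  by_cases hv : v.toAdd.2 = 0
  · convert A.iota_mem_zpowers v.toAdd.1 using 2
    exact Multiplicative.toAdd.injective (Prod.ext rfl hv)
  obtain ⟨l, hl⟩ := Module.Projective.exists_dual_ne_zero F hv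
  obtain ⟨m, -, e⟩ := A.exists_M l (LinearEquiv.refl F W)
  have h1 := A.conj m v.toAdd
  rw [ofAdd_toAdd, ← h m (A.mem_ker.2 fun w => by rw [e]; rfl), mul_inv_cancel_right,
    ← Prod.mk.eta (p := v.toAdd), A.rho_eq, e] at h1
  have h2 : v.toAdd.1 + l v.toAdd.2 = v.toAdd.1 :=
    congrArg (fun x => (Multiplicative.toAdd x).1) (A.inj h1)
  exact absurd (add_eq_left.1 h2) hl

theorem isES : H3.IsES 2 A.z A.κ.ker where
  ord := A.orderOf_z
  central := A.z_central
  mem := A.iota_mem _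
  comm a ha b hb := by
    have h1 := H3.commute_of_mem_zpowers_central A.z_central (A.sq_mem ha) b
    have : ⁅a, b⁆ = (a * b) ^ 2 * (b ^ 2)⁻¹ * (a ^ 2)⁻¹ := by
      rw [mul_assoc, ← mul_inv_rev, sq b, ← mul_assoc, ← h1.eq, commutatorElement_def, sq, sq]
      group
    rw [this]
    exact mul_mem (mul_mem (A.sq_mem (mul_mem ha hb)) (inv_mem (A.sq_mem hb))) (inv_mem (A.sq_mem ha))
  pow _ ha := A.sq_mem ha
  cent _ _ h := A.cent h

theorem isExtraspecial [Finite H] [Nontrivial W] : IsExtraspecial 2 A.κ.ker := by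
  have hm : ∀ a : A.κ.ker, (a : H) ∈ zpowers A.z → a ∈ zpowers (⟨A.z, A.isES.mem⟩ : A.κ.ker) := by
    rintro a ⟨k, hk⟩; exact ⟨k, Subtype.ext hk⟩
  refine H3.IsES.isExtraspecial (z := ⟨A.z, A.isES.mem⟩) ⟨by rw [← orderOf_coe]; exact A.orderOf_z,
    mem_center_iff.2 fun g => Subtype.ext (mem_center_iff.1 A.z_central g), trivial,
    fun a _ b _ => hm _ (A.isES.comm _ a.2 _ b.2), fun a _ => hm _ (A.sq_mem a.2),
    fun a _ h => hm _ (A.cent fun b hb => congrArg Subtype.val (h ⟨b, hb⟩ trivial))⟩ fun e => ?_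
  obtain ⟨w, hw⟩ := exists_ne (0 : W)
  obtain ⟨k, hk⟩ := e.ge (mem_top (⟨_, A.iota_mem (.ofAdd (0, w))⟩ : A.κ.ker))
  have h1 : A.ι (.ofAdd (1, 0) ^ k) = A.ι (.ofAdd (0, w)) :=
    (map_zpow _ _ _).trans (congrArg Subtype.val hk)
  have h2 := congrArg (fun x => (Multiplicative.toAdd x).2) (A.inj h1)
  exact hw (by simpa using h2.symm)

/-- The complement. -/
def K : Subgroup H where
  carrier := {m | m ∈ A.M ∧ ∀ w, (A.ρ m (0, w)).1 = 0}
  one_mem' := ⟨one_mem _, by simp⟩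
  mul_mem' {a b} ha hb := ⟨mul_mem ha.1 hb.1, fun w => by
    rw [map_mul, End.mul_apply, ← Prod.mk.eta (p := A.ρ b (0, w)), A.rho_eq, ha.2, hb.2, add_zero]⟩
  inv_mem' {a} ha := ⟨inv_mem ha.1, fun w => by
    have h1 : A.ρ a (A.ρ a⁻¹ (0, w)) = (0, w) := by
      rw [← End.mul_apply, ← map_mul, mul_inv_cancel, map_one]; rfl
    rw [← Prod.mk.eta (p := A.ρ a⁻¹ (0, w)), A.rho_eq, ha.2, add_zero] at h1
    exact congrArg Prod.fst h1⟩

theorem ker_inf_K : A.κ.ker ⊓ A.K = ⊥ := eq_bot_iff.2 fun g hg =>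
  A.disj g hg.2.1 (A.ker g (A.rho_eq_one hg.2.2 (A.mem_ker.1 hg.1)))

theorem exists_K (h : (End F W)ˣ) : ∃ m ∈ A.K, A.κ m = h := by
  obtain ⟨m, hm, e⟩ := A.exists_M 0 (LinearMap.GeneralLinearGroup.toLinearEquiv h)
  exact ⟨m, ⟨hm, fun w => by rw [e]; rfl⟩,
    Units.ext (LinearMap.ext fun w => congrArg Prod.snd (e w))⟩

theorem ker_sup_K : A.κ.ker ⊔ A.K = ⊤ := eq_top_iff.2 fun g _ => by
  obtain ⟨m, hm, e⟩ := A.exists_K (A.κ g)
  rw [← inv_mul_cancel_right g m]
  exact mul_mem_sup (by simp [e]) hm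

theorem K_equiv : Nonempty (A.K ≃* (End F W)ˣ) :=
  ⟨MulEquiv.ofBijective (A.κ.comp A.K.subtype) ⟨(injective_iff_map_eq_one _).2 fun g hg =>
    Subtype.ext (A.ker_inf_K.le ⟨hg, g.2⟩), fun h => by
      obtain ⟨m, hm, e⟩ := A.exists_K h
      exact ⟨⟨m, hm⟩, e⟩⟩⟩

theorem pCore_eq [Finite H] [Finite W] : pCore 2 H = A.κ.ker := by
  have : Finite F := Nat.finite_of_card_ne_zero (by rw [A.card_F]; norm_num)
  refine le_antisymm (fun g hg => A.mem_ker.2 fun w => ?_)
    (H10.le_pCore' (IsPGroup.of_card (A.card_ker rfl)))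
  by_cases hw : w = 0
  · rw [hw]; exact congrArg Prod.snd (map_zero (A.ρ g))
  let _ : MulAction (pCore 2 H) W := MulAction.compHom W (A.κ₀.comp (pCore 2 H).subtype)
  obtain ⟨u, hu, hu0⟩ := (H10.isPGroup_pCore' (p := 2) (G := H)).exists_fixed_point_of_prime_dvd_card_of_fixed_point W
    (by
      rw [Module.natCard_eq_pow_finrank (K := F), A.card_F]
      have : Nontrivial W := ⟨_, _, hw⟩
      exact dvd_pow_self _ finrank_pos.ne') (a := 0) (fun g => map_zero (A.κ₀ g))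
  obtain ⟨e, he⟩ := H8.exists_linearEquiv_apply_eq_of_card (K := F) rfl hu0.symm hw
  obtain ⟨m, -, hm⟩ := A.exists_K (LinearMap.GeneralLinearGroup.ofLinearEquiv e)
  have h1 : A.κ₀ m u = w := (LinearMap.congr_fun (congrArg Units.val hm) u).trans he
  have h2 : A.κ₀ (m⁻¹ * g * m) u = u := hu ⟨_, Normal.conj_mem' inferInstance g hg m⟩
  show A.κ₀ g w = w
  rw [← h1, ← End.mul_apply, ← map_mul]
  nth_rw 2 [← h2]
  rw [← End.mul_apply, ← map_mul]; simp [mul_assoc]

end AffC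
end H12
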