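import Cfsg.Agent.H12.AffC
import Cfsg.Agent.H7.Heisen
import Cfsg.Prelude.Def_MonsterType

/-! Ambient form of `AffC`. -/

set_option autoImplicit false
open Cfsg Subgroup Module

namespace H12.AffC
variable {F G : Type*} [Field F] [Group G] [Finite G] {C : Subgroup G} {n : ℕ}
  (A : AffC F (Fin n → F) C)
include A

theorem amb_finite : Finite F := Nat.finite_of_card_ne_zero (by rw [A.card_F]; norm_num)

theorem amb_eq : pCoreOf 2 C = A.κ.ker.map C.subtype := by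
  have := A.amb_finite
  rw [← A.pCore_eq]; rfl

theorem amb_es (hn : 1 ≤ n) : IsExtraspecial 2 (pCoreOf 2 C) := by
  have : Nonempty (Fin n) := ⟨⟨0, hn⟩⟩
  rw [A.amb_eq]
  exact H7.isExtraspecial_of_equiv A.isExtraspecial (equivMapOfInjective _ _ C.subtype_injective)

theorem amb_card : Nat.card (pCoreOf 2 C) = 2 ^ (2 * n + 1) := by
  have := A.amb_finite
  rw [A.amb_eq, card_map_of_injective C.subtype_injective]
  exact A.card_ker (by simp)

theorem amb_iota (v : Multiplicative (F × (Fin n → F))) : (A.ι v : G) ∈ pCoreOf 2 C :=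
  A.amb_eq ▸ ⟨_, A.iota_mem v, rfl⟩

theorem amb_elem : ∃ E : Subgroup G, E ≤ pCoreOf 2 C ∧ IsElementaryAbelian 2 E ∧
    Nat.card E = 2 ^ (n + 1) := by
  refine ⟨(C.subtype.comp A.ι).range, by rintro _ ⟨v, rfl⟩; exact A.amb_iota v, ⟨⟨⟨?_⟩⟩, ?_⟩, ?_⟩
  · rintro ⟨_, u, rfl⟩ ⟨_, v, rfl⟩
    exact Subtype.ext ((Commute.all u v).map (C.subtype.comp A.ι))
  · rintro _ ⟨v, rfl⟩
    exact congrArg Subtype.val (A.iota_sq v)
  · rw [← Nat.card_congr (MonoidHom.ofInjective (f := C.subtype.comp A.ι)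
      (C.subtype_injective.comp A.inj)).toEquiv]
    show Nat.card (F × (Fin n → F)) = _
    rw [Nat.card_prod, Nat.card_fun, A.card_F, pow_succ']; simp

theorem amb_cent {g : G} (hg : g ∈ C) (h : g ∈ centralizer (pCoreOf 2 C : Set G)) :
    g ∈ zpowers (A.z : G) := by
  obtain ⟨k, hk⟩ := A.cent (g := ⟨g, hg⟩) fun b hb =>
    Subtype.ext (h b (A.amb_eq ▸ ⟨b, hb, rfl⟩)).symm
  exact ⟨k, congrArg Subtype.val hk⟩

theorem amb_charP : C ⊓ centralizer (pCoreOf 2 C : Set G) ≤ pCoreOf 2 C := fun _ hg =>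
  zpowers_le.2 (A.amb_iota _) (A.amb_cent hg.1 hg.2)

theorem amb_center : (center (pCoreOf 2 C)).map (pCoreOf 2 C).subtype = zpowers (A.z : G) := by
  apply le_antisymm
  · rintro _ ⟨g, hg, rfl⟩
    exact A.amb_cent (H10.pCoreOf_le C g.2) fun b hb =>
      congrArg Subtype.val (mem_center_iff.1 hg ⟨b, hb⟩)
  · exact zpowers_le.2 ⟨⟨_, A.amb_iota _⟩, mem_center_iff.2 fun g => Subtype.ext (by
      have := congrArg Subtype.val (mem_center_iff.1 A.z_central ⟨g, H10.pCoreOf_le C g.2⟩)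
      exact this), rfl⟩

theorem amb_large (hn : 1 ≤ n) (hC : centralizer (zpowers (A.z : G) : Set G) = C)
    (h : ∀ K : Subgroup G, Odd (Nat.card K) → pCoreOf 2 C ≤ normalizer (K : Set G) → K = ⊥) :
    IsLargeExtraspecial (pCoreOf 2 C) := by
  refine ⟨A.amb_es hn, ?_, ?_, h⟩ <;> rw [A.amb_center]
  · refine le_antisymm (fun g hg => A.amb_cent (hC.le ?_) hg) (zpowers_le.2 fun g hg =>
      congrArg Subtype.val (mem_center_iff.1 A.z_central ⟨g, H10.pCoreOf_le C hg⟩))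
    exact centralizer_le (zpowers_le.2 (A.amb_iota _)) hg
  · rw [hC]; exact H10.le_NN_pCoreOf C

theorem amb_K : ∃ K : Subgroup G, K ≤ C ∧ pCoreOf 2 C ⊓ K = ⊥ ∧ pCoreOf 2 C ⊔ K = C ∧
    Nonempty (K ≃* Matrix.GeneralLinearGroup (Fin n) F) := by
  obtain ⟨e⟩ := A.K_equiv
  refine ⟨A.K.map C.subtype, map_subtype_le _, ?_, ?_,
    ⟨((equivMapOfInjective _ _ C.subtype_injective).symm.trans e).trans
      Matrix.GeneralLinearGroup.toLin.symm⟩⟩
  · rw [A.amb_eq, ← map_inf _ _ _ C.subtype_injective, A.ker_inf_K, Subgroup.map_bot]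
  · rw [A.amb_eq, ← Subgroup.map_sup, A.ker_sup_K, ← MonoidHom.range_eq_map, range_subtype]

end H12.AffC
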