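import Cfsg.Agent.H12.AffD
import Cfsg.Agent.H6.SE

/-! The centraliser of a transvection over the field with two elements. -/

set_option autoImplicit false
open Cfsg Subgroup Module

namespace H12

variable {F X G : Type*} [Field F] [AddCommGroup X] [Module F X] [Group G]

theorem comm_tv (two : ∀ a : F, a = 0 ∨ a = 1) {f : Dual F X} {x₁ u : X} (h1 : f x₁ = 1)
    (hu : u ≠ 0) {g t : X ≃ₗ[F] X} (ht : ∀ x, t x = x + f x • u) :
    t * g = g * t ↔ g u = u ∧ ∀ x, f (g x) = f x := by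
  have : t * g = g * t ↔ ∀ x, f (g x) • u = f x • g u := by
    simp only [LinearEquiv.ext_iff, LinearEquiv.mul_apply, ht, map_add, map_smul, add_right_inj]
  rw [this]
  constructor
  · intro h
    have h2 := h x₁
    rw [h1, one_smul] at h2
    rcases two (f (g x₁)) with h3 | h3
    · rw [h3, zero_smul] at h2
      exact absurd (g.map_eq_zero_iff.1 h2.symm) hu
    · rw [h3, one_smul] at h2
      exact ⟨h2.symm, fun x => smul_left_injective F hu (by simpa [← h2] using h x)⟩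
  · rintro ⟨h2, h3⟩ x
    rw [h2, h3]

theorem exists_affC [FiniteDimensional F X] (two : ∀ a : F, a = 0 ∨ a = 1) (Φ : G ≃* (X ≃ₗ[F] X))
    {f : Dual F X} {x₀ x₁ : X} (h0 : f x₀ = 0) (hx : x₀ ≠ 0) (h1 : f x₁ = 1) {n : ℕ}
    (hn : finrank F X = n + 2) {z : G} (hz : ∀ x, Φ z x = x + f x • x₀) :
    ∃ A : AffC F (Fin n → F) (centralizer ({z} : Set G)), (A.z : G) = z ∧
      (∀ v, ∃ u, f u = 0 ∧ ∀ x, Φ (A.ι v) x = x + f x • u) ∧
      ∀ u, f u = 0 → ∃ v, ∀ x, Φ (A.ι v) x = x + f x • u := by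
  have hF : Nat.card F = 2 := Nat.card_eq_two_iff.2 ⟨0, 1, zero_ne_one, Set.eq_univ_of_forall two⟩
  have : Finite F := Nat.finite_of_card_ne_zero (by rw [hF]; norm_num)
  have : Finite X := Module.finite_of_finite F
  have hC : ∀ g : G, g ∈ centralizer ({z} : Set G) ↔ Φ g x₀ = x₀ ∧ ∀ x, f (Φ g x) = f x := fun g => by
    rw [mem_centralizer_singleton_iff, ← comm_tv two h1 hx hz, ← map_mul, ← map_mul,
      Φ.injective.eq_iff, eq_comm]
  have hk : finrank F (LinearMap.ker f) = n + 1 := by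
    have := f.finrank_ker_add_one_of_ne_zero (fun e => by simp [e] at h1)
    omega
  obtain ⟨e, he⟩ := H8.exists_linearEquiv_apply_eq_of_card (K := F)
    (V := F × (Fin n → F)) (W := LinearMap.ker f) (v := (1, 0)) (w := ⟨x₀, h0⟩)
    (by rw [Module.natCard_eq_pow_finrank (K := F), Module.natCard_eq_pow_finrank (K := F)
      (V := LinearMap.ker f), hk]; simp [add_comm]) (by simp)
    fun h => hx (congrArg Subtype.val h)
  have hfe : ∀ v, f (e v) = 0 := fun v => (e v).2
  let ι : Multiplicative (F × (Fin n → F)) →* centralizer ({z} : Set G) := MonoidHom.mk'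
    (fun v => ⟨Φ.symm (LinearEquiv.transvection (hfe v.toAdd)), (hC _).2 (by
      simp [LinearMap.transvection.apply, h0, hfe])⟩) fun u v => Subtype.ext (Φ.injective (by
      ext x
      simp [LinearMap.transvection.apply, hfe, add_comm, add_left_comm]))
  have hι : ∀ v x, Φ (ι v) x = x + f x • (e v.toAdd : X) := fun v x => by
    simp [ι, LinearMap.transvection.apply]
  have hmap : ∀ g : centralizer ({z} : Set G), ∀ x ∈ LinearMap.ker f,
      (Φ g).toLinearMap x ∈ LinearMap.ker f := fun g x hx => (((hC g).1 g.2).2 x).trans hx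
  let ρ : centralizer ({z} : Set G) →* End F (F × (Fin n → F)) :=
    { toFun := fun g => e.symm.toLinearMap ∘ₗ (Φ g).toLinearMap.restrict (hmap g) ∘ₗ e.toLinearMap
      map_one' := LinearMap.ext fun v => e.injective (Subtype.ext (by simp))
      map_mul' := fun g h => LinearMap.ext fun v => e.injective (Subtype.ext (by simp)) }
  have hρ : ∀ g v, (e (ρ g v) : X) = Φ g (e v) := fun g v => by simp [ρ]
  have inj : ∀ u v, (e u : X) = e v → u = v := fun u v h => e.injective (Subtype.ext h)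
  have ext : ∀ g h : centralizer ({z} : Set G), (∀ x, Φ g x = Φ h x) → g = h := fun g h e =>
    Subtype.ext (Φ.injective (LinearEquiv.ext e))
  refine ⟨⟨two, ι, fun u v h => inj u v ?_, ρ, fun g v => ?_, fun g => inj _ _ ?_, fun g hg => ?_,
    (MulAction.stabilizer (X ≃ₗ[F] X) x₁).comap (Φ.toMonoidHom.comp (Subgroup.subtype _)), ?_,
    fun h hh => ?_⟩, Φ.injective (LinearEquiv.ext fun x => ?_), fun v => ⟨_, hfe _, hι v⟩,
    fun u hu => ⟨.ofAdd (e.symm ⟨u, hu⟩), fun x => by rw [hι]; simp⟩⟩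
  · have := hι u x₁
    rw [h, hι, h1, one_smul, one_smul, add_right_inj] at this
    exact this.symm
  · rw [eq_mul_inv_iff_mul_eq]
    refine ext _ _ fun x => ?_
    simp only [coe_mul, map_mul, LinearEquiv.mul_apply, hι, toAdd_ofAdd, hρ, map_add, map_smul,
      ((hC g).1 g.2).2]
  · rw [hρ, he]; exact ((hC g).1 g.2).1
  · have h2 : ∀ y, f y = 0 → Φ g y = y := fun y hy => by
      have := hρ g (e.symm ⟨y, hy⟩)
      rw [hg] at this
      simpa using this.symm
    refine ⟨.ofAdd (e.symm ⟨Φ g x₁ - x₁, by simp [((hC g).1 g.2).2]⟩), ext _ _ fun x => ?_⟩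
    have := h2 (x - f x • x₁) (by simp [h1])
    rw [map_sub, map_smul] at this
    rw [hι]
    simp only [toAdd_ofAdd, LinearEquiv.apply_symm_apply, smul_sub]
    rw [sub_eq_iff_eq_add.1 this]
    abel
  · rintro _ hm ⟨v, rfl⟩
    have h2 : Φ (ι v) x₁ = x₁ := hm
    rw [hι, h1, one_smul, add_eq_left] at h2
    rw [show v = 1 from inj v.toAdd 0 (by simpa using h2), map_one]
  · let p : X →ₗ[F] LinearMap.ker f :=
      (LinearMap.id - f.smulRight x₁).codRestrict _ fun x => by simp [h1]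
    let L : X →ₗ[F] X := (LinearMap.ker f).subtype ∘ₗ ((e.symm.trans h).trans e).toLinearMap ∘ₗ p +
      f.smulRight x₁
    have hL : ∀ x, L x = e (h (e.symm (p x))) + f x • x₁ := fun _ => rfl
    have hfL : ∀ x, f (L x) = f x := fun x => by simp [hL, hfe, h1]
    have hp0 : ∀ x, (p x : X) = x - f x • x₁ := fun _ => rfl
    have hp : ∀ v, p (e v) = e v := fun v => Subtype.ext (by rw [hp0]; simp [hfe])
    have hLe : ∀ v, L (e v) = e (h v) := fun v => by rw [hL, hp]; simp [hfe]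
    have hinj : Function.Injective L := (injective_iff_map_eq_zero _).2 fun x hx => by
      have h2 : f x = 0 := by rw [← hfL, hx, map_zero]
      obtain ⟨v, hv⟩ := e.surjective ⟨x, h2⟩
      obtain rfl : (e v : X) = x := congrArg Subtype.val hv
      rw [hLe] at hx
      simpa using hx
    let g := LinearEquiv.ofInjectiveEndo L hinj
    have hg : ∀ x, Φ (Φ.symm g) x = L x := fun x => by simp [g]
    refine ⟨⟨Φ.symm g, (hC _).2 ⟨?_, fun x => by rw [hg, hfL]⟩⟩, ?_,
      LinearMap.ext fun v => inj _ _ (by rw [hρ, hg, hLe]; rfl)⟩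
    · have := hLe (1, 0)
      rw [hh, he] at this
      exact (hg _).trans this
    · show Φ (Φ.symm g) x₁ = x₁
      have : p x₁ = 0 := Subtype.ext (by rw [hp0]; simp [h1])
      rw [hg, hL, this]; simp [h1]
  · exact (hι _ x).trans (by rw [hz]; simp [he])

theorem exists_affC_large [Finite G] [FiniteDimensional F X] (two : ∀ a : F, a = 0 ∨ a = 1)
    (Φ : G ≃* (X ≃ₗ[F] X)) {f : Dual F X} {x₀ x₁ : X} (h0 : f x₀ = 0) (hx : x₀ ≠ 0) (h1 : f x₁ = 1)
    {n : ℕ} (hn1 : 1 ≤ n) (hn : finrank F X = n + 2) {z : G} (hz : ∀ x, Φ z x = x + f x • x₀) :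
    ∃ _ : AffC F (Fin n → F) (centralizer ({z} : Set G)),
      IsLargeExtraspecial (pCoreOf 2 (centralizer ({z} : Set G))) := by
  obtain ⟨A, hA, h2, h3⟩ := exists_affC two Φ h0 hx h1 hn hz
  refine ⟨A, A.amb_large hn1 (by rw [hA, zpowers_eq_closure, centralizer_closure]) fun K hK hN => ?_⟩
  set Q := pCoreOf 2 (centralizer ({z} : Set G))
  have hd : K ⊓ Q = ⊥ := (disjoint_of_coprime_natCard (by
    rw [A.amb_card]; exact (Nat.coprime_two_right.2 hK).pow_right _)).eq_bot
  have key : ∀ k ∈ K, ∀ w ∈ Q, k * w * k⁻¹ ∈ Q → k * w = w * k := fun k hk w hw h => by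
    have h1 : k * (w * k⁻¹ * w⁻¹) = 1 := hd.le ⟨mul_mem hk
      ((mem_normalizer_iff.1 (hN hw) _).1 (inv_mem hk)), by
        have := mul_mem h (inv_mem hw)
        simp only [mul_assoc] at this ⊢
        exact this⟩
    calc k * w = k * (w * k⁻¹ * w⁻¹) * (w * k) := by group
      _ = _ := by rw [h1, one_mul]
  have hz1 : ∀ k ∈ K, k ∈ centralizer ({z} : Set G) → k = 1 := fun k hk hc =>
    hd.le ⟨hk, A.amb_charP ⟨hc, fun w hw => (key k hk w hw
      ((mem_normalizer_iff.1 (H10.le_NN_pCoreOf _ hc) _).1 hw)).symm⟩⟩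
  have fpf : ∀ v, v ≠ 1 → ∀ k ∈ K, Commute (A.ι v : G) k → k = 1 := fun v hv k hk hc => by
    obtain ⟨u, hu, hu'⟩ := h2 v
    have hu0 : u ≠ 0 := fun e => hv (A.inj (Subtype.ext (Φ.injective (LinearEquiv.ext fun x => by
      rw [hu', e]; simp))))
    have h4 := ((comm_tv two h1 hu0 hu').1 (hc.map Φ)).2
    obtain ⟨v', hv'⟩ := h3 (Φ k x₀) ((h4 _).trans h0)
    refine hz1 k hk (mem_centralizer_singleton_iff.2 (key k hk z (hA ▸ A.amb_iota _) ?_))
    have : k * z * k⁻¹ = A.ι v' := by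
      rw [mul_inv_eq_iff_eq_mul]
      refine Φ.injective (LinearEquiv.ext fun x => ?_)
      simp only [map_mul, LinearEquiv.mul_apply, hz, hv', map_add, map_smul, h4]
    exact this ▸ A.amb_iota _
  have inv : ∀ v, v ≠ 1 → ∀ k ∈ K, (A.ι v : G) * k * (A.ι v : G)⁻¹ = k⁻¹ := fun v hv =>
    H6.inverts_of_fpf (by rw [← sq]; exact congrArg Subtype.val (A.iota_sq v))
      (fun d hd => (mem_normalizer_iff.1 (hN (A.amb_iota v)) _).1 hd) (fpf v hv)
  have : Nonempty (Fin n) := ⟨⟨0, hn1⟩⟩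
  obtain ⟨w, hw⟩ := exists_ne (0 : Fin n → F)
  refine eq_bot_iff.2 fun k hk => fpf (.ofAdd (1, 0) * .ofAdd (0, w)) (by simp [← ofAdd_add]) k hk ?_
  have h4 := inv (.ofAdd (1, 0)) (by simp) k⁻¹ (inv_mem hk)
  rw [inv_inv, ← inv (.ofAdd (0, w)) (by simp [hw]) k hk] at h4
  show _ * _ = _ * _
  rw [map_mul, coe_mul, ← mul_inv_eq_iff_eq_mul]
  refine Eq.trans ?_ h4
  group

/-- Over the field with two elements `SL = GL`. -/
theorem sl_equiv_gl (two : ∀ a : F, a = 0 ∨ a = 1) (ι : Type*) [Fintype ι] [DecidableEq ι] :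
    Function.Bijective (Matrix.SpecialLinearGroup.toGL : Matrix.SpecialLinearGroup ι F →*
      Matrix.GeneralLinearGroup ι F) :=
  ⟨Matrix.SpecialLinearGroup.toGL_injective, fun g => ⟨⟨g, (two _).resolve_left
    (Matrix.GeneralLinearGroup.det_ne_zero g)⟩, Units.ext rfl⟩⟩

theorem exists_sl_equiv (two : ∀ a : F, a = 0 ∨ a = 1) (ι : Type*) [Fintype ι] [DecidableEq ι] :
    ∃ Φ : Matrix.SpecialLinearGroup ι F ≃* ((ι → F) ≃ₗ[F] (ι → F)),
      ∀ g x, Φ g x = (g : Matrix ι ι F).mulVec x :=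
  ⟨((MulEquiv.ofBijective _ (sl_equiv_gl two ι)).trans Matrix.GeneralLinearGroup.toLin).trans
    (LinearMap.GeneralLinearGroup.generalLinearEquiv F _), fun _ _ => rfl⟩

theorem exists_affC_sl [Finite F] (two : ∀ a : F, a = 0 ∨ a = 1) {n : ℕ} (hn : 1 ≤ n)
    {i j : Fin (n + 2)} (hij : i ≠ j) {z : Matrix.SpecialLinearGroup (Fin (n + 2)) F}
    (hz : (z : Matrix _ _ F) = Matrix.transvection i j 1) :
    ∃ _ : AffC F (Fin n → F) (centralizer ({z} : Set _)),
      IsLargeExtraspecial (pCoreOf 2 (centralizer ({z} : Set _))) := by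
  obtain ⟨Φ, hΦ⟩ := exists_sl_equiv two (Fin (n + 2))
  refine exists_affC_large two Φ (f := LinearMap.proj j) (x₀ := Pi.single i 1) (x₁ := Pi.single j 1)
    (by simp [hij.symm]) (by simp) (by simp) hn (by simp) fun x => ?_
  rw [hΦ, hz, Matrix.transvection, Matrix.add_mulVec, Matrix.one_mulVec, Matrix.single_mulVec]
  ext k
  by_cases h : k = i <;> simp [h]

end H12
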