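import Cfsg.Agent.H7.AutAlt
/-! An automorphism fixing `t` acts on `C(t) = 2·A₁₁` as an inner one or as an odd permutation. -/
namespace H12.Aut1
open Subgroup Equiv

theorem aut1 {G : Type*} [Group G] [Finite G] {t : G} (ht : orderOf t = 2) (π : G → Perm (Fin 11))
    (hm : ∀ a b, Commute a t → Commute b t → π (a * b) = π a * π b)
    (hk : ∀ c, Commute c t → (π c = 1 ↔ c = 1 ∨ c = t))
    (hr : ∀ p, Perm.sign p = 1 ↔ ∃ c, Commute c t ∧ π c = p)
    (ρ : Perm (Fin 11)) (hρ : Perm.sign ρ = -1) (α : MulAut G) (hα : α t = t) :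
    ∃ k, Commute k t ∧ ((∀ c, Commute c t → k * α c * k⁻¹ = c) ∨
      ∀ c, Commute c t → π (k * α c * k⁻¹) = ρ * π c * ρ⁻¹) := by
  have t2 : t * t = 1 := by rw [← pow_two, ← ht, pow_orderOf_eq_one]
  have p1 : π 1 = 1 := (hk 1 (Commute.one_left t)).2 (Or.inl rfl)
  have pinv : ∀ a, Commute a t → π a⁻¹ = (π a)⁻¹ := fun a ha => by
    rw [eq_inv_iff_mul_eq_one, ← hm _ _ ha.inv_left ha, inv_mul_cancel, p1]
  have hαc : ∀ c, Commute c t → Commute (α c) t := fun c hc => by
    have := hc.map α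
    rwa [hα] at this
  have hC : ∀ c : centralizer ({t} : Set G), Commute (c : G) t := fun c => mem_centralizer_singleton_iff.1 c.2
  let σ : centralizer ({t} : Set G) →* alternatingGroup (Fin 11) :=
    MonoidHom.mk' (fun c => ⟨π c, Perm.mem_alternatingGroup.2 ((hr _).2 ⟨c, hC c, rfl⟩)⟩)
      fun a b => Subtype.ext (hm _ _ (hC a) (hC b))
  have hσ : ∀ c, (σ c : Perm (Fin 11)) = π c := fun _ => rfl
  have hs : Function.Surjective σ := fun p => by
    obtain ⟨c, hc, e⟩ := (hr p).1 (Perm.mem_alternatingGroup.1 p.2)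
    exact ⟨⟨c, mem_centralizer_singleton_iff.2 hc⟩, Subtype.ext e⟩
  let αC : centralizer ({t} : Set G) →* centralizer ({t} : Set G) :=
    MonoidHom.mk' (fun c => ⟨α c, mem_centralizer_singleton_iff.2 (hαc _ (hC c))⟩)
      fun a b => Subtype.ext (map_mul α _ _)
  have hαC : ∀ c, (αC c : G) = α c := fun _ => rfl
  have hker : ∀ c, σ (αC c) = 1 ↔ σ c = 1 := fun c => by
    rw [Subtype.ext_iff, Subtype.ext_iff, hσ, hσ, OneMemClass.coe_one, hk _ (hC _), hk _ (hC _), hαC,
      map_eq_one_iff α α.injective]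
    refine or_congr Iff.rfl ⟨fun h => α.injective (h.trans hα.symm), fun h => by rw [h, hα]⟩
  let φ0 : alternatingGroup (Fin 11) →* alternatingGroup (Fin 11) :=
    σ.liftOfRightInverse (Function.surjInv hs) (Function.rightInverse_surjInv hs)
      ⟨σ.comp αC, fun c hc => (hker c).2 hc⟩
  have hφ : ∀ c, φ0 (σ c) = σ (αC c) := fun c => MonoidHom.liftOfRightInverse_comp_apply _ _ _ _ c
  have hinj : Function.Injective φ0 := (injective_iff_map_eq_one φ0).2 fun x hx => by
    obtain ⟨c, rfl⟩ := hs x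
    rw [hφ] at hx
    exact (hker c).1 hx
  obtain ⟨r, hr'⟩ := H7.exists_conj_of_aut (α := Fin 11) (by simp) (by simp)
    (MulEquiv.ofBijective φ0 (Finite.injective_iff_bijective.1 hinj))
  have key : ∀ c, Commute c t → π (α c) = r * π c * r⁻¹ := fun c hc => by
    have := hr' (σ ⟨c, mem_centralizer_singleton_iff.2 hc⟩)
    rw [MulEquiv.ofBijective_apply, hφ] at this
    exact this
  have key2 : ∀ k c, Commute k t → Commute c t → π (k * α c * k⁻¹) = π k * r * π c * (π k * r)⁻¹ :=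
    fun k c h1 h2 => by
      rw [hm _ _ (h1.mul_left (hαc c h2)) h1.inv_left, hm _ _ h1 (hαc c h2), pinv k h1, key c h2]; group
  rcases Int.units_eq_one_or (Perm.sign r) with hs1 | hs1
  · obtain ⟨k, hkt, ek⟩ := (hr r⁻¹).1 (by rw [Perm.sign_inv, hs1])
    refine ⟨k, hkt, Or.inl ?_⟩
    have cm : ∀ c, Commute c t → Commute (k * α c * k⁻¹) t := fun c hc =>
      (hkt.mul_left (hαc c hc)).mul_left hkt.inv_left
    have h1 : ∀ c, Commute c t → k * α c * k⁻¹ = c ∨ k * α c * k⁻¹ = t * c := fun c hc => by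
      have : π (k * α c * k⁻¹ * c⁻¹) = 1 := by
        rw [hm _ _ (cm c hc) hc.inv_left, key2 k c hkt hc, ek, pinv c hc]; group
      rcases (hk _ ((cm c hc).mul_left hc.inv_left)).1 this with h | h
      · exact Or.inl (mul_inv_eq_one.1 h)
      · exact Or.inr (mul_inv_eq_iff_eq_mul.1 h)
    have hmul : ∀ a b, k * α (a * b) * k⁻¹ = (k * α a * k⁻¹) * (k * α b * k⁻¹) := fun a b => by
      rw [map_mul]; group
    have hsq : ∀ c, Commute c t → k * α (c * c) * k⁻¹ = c * c := fun c hc => by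
      rw [hmul]
      rcases h1 c hc with h | h
      · rw [h]
      · rw [h, mul_assoc, ← mul_assoc c, hc.eq, mul_assoc, ← mul_assoc, t2, one_mul]
    have htt : k * α t * k⁻¹ = t := by rw [hα, hkt.eq, mul_inv_cancel_right]
    have hall : ∀ p ∈ closure {p : Perm (Fin 11) | p.IsThreeCycle},
        ∃ c, Commute c t ∧ k * α c * k⁻¹ = c ∧ π c = p := by
      intro p hp
      induction hp using closure_induction with
      | mem x hx =>
        obtain ⟨c, hc, e⟩ := (hr (x * x)).1 (by rw [map_mul, Perm.IsThreeCycle.sign hx, mul_one])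
        refine ⟨c * c, hc.mul_left hc, hsq c hc, ?_⟩
        have x3 : x ^ 3 = 1 := by rw [← Perm.IsThreeCycle.orderOf hx, pow_orderOf_eq_one]
        rw [hm _ _ hc hc, e]
        calc x * x * (x * x) = x ^ 3 * x := by simp only [pow_succ, pow_zero, one_mul, mul_assoc]
          _ = x := by rw [x3, one_mul]
      | one => exact ⟨1, Commute.one_left t, by simp, p1⟩
      | mul x y _ _ hx hy =>
        obtain ⟨a, ha, ea, rfl⟩ := hx
        obtain ⟨b, hb, eb, rfl⟩ := hy
        exact ⟨a * b, ha.mul_left hb, by rw [hmul, ea, eb], hm _ _ ha hb⟩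
      | inv x _ hx =>
        obtain ⟨a, ha, ea, rfl⟩ := hx
        refine ⟨a⁻¹, ha.inv_left, ?_, pinv a ha⟩
        rw [map_inv]
        calc k * (α a)⁻¹ * k⁻¹ = (k * α a * k⁻¹)⁻¹ := by group
          _ = a⁻¹ := by rw [ea]
    intro c hc
    obtain ⟨a, ha, ea, e⟩ := hall (π c) (by
      rw [Perm.closure_three_cycles_eq_alternating]
      exact Perm.mem_alternatingGroup.2 ((hr _).2 ⟨c, hc, rfl⟩))
    have : π (c * a⁻¹) = 1 := by rw [hm _ _ hc ha.inv_left, pinv a ha, e, mul_inv_cancel]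
    rcases (hk _ (hc.mul_left ha.inv_left)).1 this with h | h
    · rw [mul_inv_eq_one.1 h, ea]
    · rw [mul_inv_eq_iff_eq_mul.1 h, hmul, htt, ea]
  · obtain ⟨k, hkt, ek⟩ := (hr (ρ * r⁻¹)).1 (by rw [map_mul, Perm.sign_inv, hs1, hρ]; rfl)
    refine ⟨k, hkt, Or.inr fun c hc => ?_⟩
    rw [key2 k c hkt hc, ek, inv_mul_cancel_right]

end H12.Aut1
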