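import Cfsg.Agent.H7.Bh
/-! The centralizer of a Sylow 3-subgroup of `N`. -/
set_option autoImplicit false
set_option linter.unusedSectionVars false
open Subgroup H7B Cfsg Cfsg.Spor
open scoped commutatorElement
namespace H12.B3
variable {C : Type*} [Group C] [Finite C] {Q N M : Subgroup C} [N.Normal]

theorem inf_bot (h : St Q N M) {P : Subgroup C} (h3 : Nat.card P = 3) : P ⊓ Q = ⊥ :=
  disjoint_iff.1 (disjoint_of_coprime_natCard (by rw [h3, h.hcard]; norm_num))

theorem b3 (h : St Q N M) (P : Subgroup C) (hP : P ≤ N) (h3 : Nat.card P = 3) : M ≤ centralizer (P : Set C) ⊔ Q ∧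
    P ≤ ⁅M ⊓ centralizer (P : Set C), M ⊓ centralizer (P : Set C)⁆ := by
  haveI := h.nQ
  haveI := h.nM
  haveI : Fact (Nat.Prime 3) := ⟨Nat.prime_three⟩
  have pq := inf_bot h h3
  have cN : Nat.card N = 3 * 2 ^ 13 := by rw [h.hN, h.hcard]
  have cP : Nat.card (P.subgroupOf N) = 3 ^ (Nat.card N).factorization 3 := by
    rw [Nat.card_congr (subgroupOfEquivOfLe hP).toEquiv, h3, cN,
      Nat.factorization_eq_of_coprime_left (by norm_num) (by simp), Nat.prime_three.factorization_self, pow_one]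
  have fr := Sylow.normalizer_sup_eq_top (N := N) (Sylow.ofCard _ cP)
  rw [Sylow.coe_ofCard, subgroupOf_map_subtype, inf_eq_left.2 hP] at fr
  have PQ : N = P ⊔ Q := by
    refine (eq_of_le_of_card_ge (sup_le hP h.hQN) ?_).symm
    rw [cN]
    exact Nat.le_of_dvd Nat.card_pos (Nat.Coprime.mul_dvd_of_dvd_of_dvd (by norm_num)
      (h3 ▸ card_dvd_of_le le_sup_left) (h.hcard ▸ card_dvd_of_le le_sup_right))
  have nc : ∀ n ∈ M, n ∈ normalizer (P : Set C) → n ∈ centralizer (P : Set C) := fun n m hn p hp => by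
    have h1 : n * p * n⁻¹ * p⁻¹ ∈ P ⊓ Q := ⟨P.mul_mem ((mem_normalizer_iff.1 hn p).1 hp) (P.inv_mem hp),
      h.hcent (commutator_mem_commutator m (hP hp))⟩
    rw [pq, mem_bot, mul_inv_eq_one, mul_inv_eq_iff_eq_mul] at h1
    exact h1.symm
  have dec : ∀ m ∈ M, ∃ y ∈ M ⊓ centralizer (P : Set C), ∃ q ∈ Q, y * q = m := fun m hm => by
    have : m ∈ normalizer (P : Set C) ⊔ Q := by
      have e : normalizer (P : Set C) ⊔ Q = ⊤ := by
        rw [← fr, PQ, ← sup_assoc, sup_eq_left.2 (le_normalizer (H := P))]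
      rw [e]; trivial
    obtain ⟨n, hn, q, hq, rfl⟩ := mem_sup_of_normal_right.1 this
    have nM : n ∈ M := by simpa using mul_mem hm (inv_mem (h.hNM (h.hQN hq)))
    exact ⟨n, ⟨nM, nc n nM hn⟩, q, hq, rfl⟩
  refine ⟨fun m hm => ?_, fun p hp => ?_⟩
  · obtain ⟨y, hy, q, hq, rfl⟩ := dec m hm
    exact mul_mem (mem_sup_left hy.2) (mem_sup_right hq)
  · set Y := M ⊓ centralizer (P : Set C) with hY
    have MM : ⁅M, M⁆ ≤ ⁅Y, Y⁆ ⊔ Q := by
      rw [commutator_le]
      intro a ha b hb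
      obtain ⟨y, hy, q, hq, rfl⟩ := dec a ha
      obtain ⟨z, hz, r, hr, rfl⟩ := dec b hb
      refine mem_sup_of_normal_right.2 ⟨_, commutator_mem_commutator hy hz, ⁅y, z⁆⁻¹ * ⁅y * q, z * r⁆, ?_, by group⟩
      rw [← QuotientGroup.eq_one_iff]
      simp [commutatorElement_def, (QuotientGroup.eq_one_iff q).2 hq, (QuotientGroup.eq_one_iff r).2 hr]
      group
    obtain ⟨d, hd, q, hq, e⟩ := mem_sup_of_normal_right.1 ((h.hperf.trans (sup_le MM le_sup_right)) (h.hNM (hP hp)))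
    have dY : d ∈ Y := (commutator_le.2 fun a ha b hb => mul_mem (mul_mem (mul_mem ha hb) (inv_mem ha)) (inv_mem hb) : ⁅Y, Y⁆ ≤ Y) hd
    have dp : Commute p d := dY.2 p hp
    have e' : q = d⁻¹ * p := by rw [← e]; group
    have q1 : q ^ 2 ^ 13 = 1 := by rw [← h.hcard]; exact congrArg Subtype.val (pow_card_eq_one' (x := (⟨q, hq⟩ : Q)))
    have p3 : p ^ 3 = 1 := by rw [← h3]; exact congrArg Subtype.val (pow_card_eq_one' (x := (⟨p, hp⟩ : P)))
    rw [e', dp.symm.inv_left.mul_pow, inv_pow, inv_mul_eq_one] at q1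
    have : p = (d ^ 2 ^ 13) ^ 2 := by
      rw [q1, ← pow_mul, show 2 ^ 13 * 2 = 3 * 5461 + 1 by norm_num, pow_succ, pow_mul, p3, one_pow, one_mul]
    rw [this]; exact pow_mem (pow_mem hd _) _

end H12.B3
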