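import Cfsg.Agent.H7.Bh
/-! The fixed points of a Sylow 3-subgroup of `N` on `Q`. -/
set_option autoImplicit false
set_option linter.unusedSectionVars false
open Subgroup H7B Cfsg Cfsg.Spor
open scoped commutatorElement
namespace H12.B4

theorem nine {Y : Type*} [Group Y] [Finite Y] {p : Y} (c : ∀ y, y * p = p * y) (p3 : p ^ 3 = 1)
    (d : p ∈ commutator Y) (H : Subgroup Y) (hp : p ∉ H) : 9 ∣ H.index := by
  haveI : Fact (Nat.Prime 3) := ⟨Nat.prime_three⟩
  have cz : ∀ z ∈ zpowers p, ∀ y, Commute y z := by rintro _ ⟨k, rfl⟩ y; exact (show Commute y p from c y).zpow_right k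
  haveI : (zpowers p).Normal := ⟨fun z hz y => by rwa [(cz z hz y).eq, mul_inv_cancel_right]⟩
  let K := H ⊔ zpowers p
  have dec : ∀ k : K, ∃ h ∈ H, ∃ z ∈ zpowers p, h * z = k := fun k => mem_sup_of_normal_right.1 k.2
  haveI : (H.subgroupOf K).Normal := ⟨fun a ha k => by
    obtain ⟨h, hh, z, hz, e⟩ := dec k
    show (k : Y) * a * (k : Y)⁻¹ ∈ H
    rw [← e, mul_assoc h, ← (cz z hz a).eq, show h * (a * z) * (h * z)⁻¹ = h * a * h⁻¹ by group]
    exact H.mul_mem (H.mul_mem hh ha) (H.inv_mem hh)⟩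
  letI : CommGroup (K ⧸ H.subgroupOf K) := { (inferInstance : Group (K ⧸ H.subgroupOf K)) with
    mul_comm := fun a b => by
      obtain ⟨a, rfl⟩ := QuotientGroup.mk_surjective a
      obtain ⟨b, rfl⟩ := QuotientGroup.mk_surjective b
      obtain ⟨h, hh, z, hz, e⟩ := dec a
      obtain ⟨l, hl, w, hw, f⟩ := dec b
      refine QuotientGroup.eq.2 ?_
      show ((a : Y) * b)⁻¹ * (b * a) ∈ H
      have e1 : (a : Y) * b = h * l * (z * w) := by rw [← e, ← f, mul_assoc, ← mul_assoc z, ← (cz z hz l).eq]; group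
      have e2 : (b : Y) * a = (z * w) * (l * h) := by
        rw [← (cz _ (mul_mem hz hw) (l * h)).eq, ← (cz z hz w).eq, ← e, ← f, mul_assoc, ← mul_assoc w, ← (cz w hw h).eq]; group
      rw [e1, e2, (cz _ (mul_mem hz hw) (h * l)).eq, show (z * w * (h * l))⁻¹ * (z * w * (l * h)) = (h * l)⁻¹ * (l * h) by group]
      exact H.mul_mem (H.inv_mem (H.mul_mem hh hl)) (H.mul_mem hl hh) }
  have t := MonoidHom.transfer_eq_pow (QuotientGroup.mk' (H.subgroupOf K)) p (fun k g _ => by
    rw [(cz _ (npow_mem_zpowers p k) g⁻¹).eq]; group)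
  rw [MonoidHom.mem_ker.1 (Abelianization.commutator_subset_ker _ d), eq_comm, QuotientGroup.mk'_apply,
    QuotientGroup.eq_one_iff] at t
  have o : orderOf p = 3 := orderOf_eq_prime p3 fun e => hp (e ▸ H.one_mem)
  have key : ∀ n, p ^ n ∈ H → 3 ∣ n := fun n hn => by
    by_contra h3
    obtain ⟨m, hm⟩ := exists_pow_eq_self_of_coprime (x := p) (n := n)
      (o ▸ ((Nat.Prime.coprime_iff_not_dvd Nat.prime_three).2 h3).symm)
    exact hp (hm ▸ H.pow_mem hn m)
  rw [← relIndex_mul_index (le_sup_left : H ≤ K)]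
  exact Nat.mul_dvd_mul (key _ ((H.subgroupOf K).pow_index_mem ⟨p, mem_sup_right (mem_zpowers p)⟩)) (key _ t)

theorem orb {Y X : Type*} [Group Y] [MulAction Y X] [Finite X] (n : ℕ)
    (h : ∀ x : X, n ∣ (MulAction.stabilizer Y x).index) : n ∣ Nat.card X := by
  classical
  haveI := Fintype.ofFinite (MulAction.orbitRel.Quotient Y X)
  rw [Nat.card_congr (MulAction.selfEquivSigmaOrbits Y X), Nat.card_sigma]
  exact Finset.dvd_sum fun ω _ => by rw [Nat.card_coe_set_eq, ← MulAction.index_stabilizer]; exact h _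

variable {C : Type*} [Group C] [Finite C]

theorem cnt (Y D E : Subgroup C) (n : ℕ) (hD : Y ≤ normalizer (D : Set C)) (hE : Y ≤ normalizer (E : Set C))
    (h : ∀ x ∈ D, x ∉ E → n ∣ ((centralizer ({x} : Set C)).subgroupOf Y).index) :
    Nat.card ↥(D ⊓ E) ≡ Nat.card D [MOD n] := by
  letI : MulAction Y ↥((D : Set C) \ (D ⊓ E : Subgroup C)) :=
    { smul := fun y x => ⟨y * x * (y : C)⁻¹, (mem_normalizer_iff.1 (hD y.2) _).1 x.2.1,
        fun e => x.2.2 ⟨x.2.1, (mem_normalizer_iff.1 (hE y.2) _).2 e.2⟩⟩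
      one_smul := fun x => Subtype.ext (by show ((1 : Y) : C) * x * ((1 : Y) : C)⁻¹ = x; simp)
      mul_smul := fun a b x => Subtype.ext (by
        show ((a * b : Y) : C) * x * ((a * b : Y) : C)⁻¹ = a * (b * x * (b : C)⁻¹) * (a : C)⁻¹
        rw [coe_mul]; group) }
  have := orb (Y := Y) (X := ↥((D : Set C) \ (D ⊓ E : Subgroup C))) n fun x => by
    have e : MulAction.stabilizer Y x = (centralizer ({(x : C)} : Set C)).subgroupOf Y := by
      ext y
      rw [MulAction.mem_stabilizer_iff, mem_subgroupOf, mem_centralizer_singleton_iff, Subtype.ext_iff]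
      exact mul_inv_eq_iff_eq_mul
    rw [e]; exact h x x.2.1 fun e => x.2.2 ⟨x.2.1, e⟩
  rw [Nat.card_coe_set_eq, Set.ncard_sdiff (fun _ h => h.1)] at this
  exact (Nat.modEq_iff_dvd' (card_le_of_le inf_le_left)).2 this

theorem ar : ∀ c : ℕ, c < 13 → ∀ j : ℕ, j < 13 → ∀ i : ℕ, i ≤ j → 2 ^ c % 9 = 2 ^ 13 % 9 → 2 ^ i % 11 = 2 ^ c % 11 →
    2 ^ j % 11 = 2 ^ 13 % 11 → c = 1 := by
  intro c hc j hj i hi h1 h2 h3
  have : j = 3 := by interval_cases j <;> simp_all
  subst this
  interval_cases c <;> interval_cases i <;> simp_all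

theorem core {Q M : Subgroup C} [Q.Normal] (hcard : Nat.card Q = 2 ^ 13) (h2c : centralizer (Q : Set C) ≤ Q)
    (P : Subgroup C) (hP : P ≤ M) (h3 : Nat.card P = 3) (g : C) (o : orderOf g = 11) (gP : g ∈ centralizer (P : Set C))
    (d : P ≤ ⁅M ⊓ centralizer (P : Set C), M ⊓ centralizer (P : Set C)⁆) :
    Nat.card ↥(Q ⊓ centralizer (P : Set C)) = 2 := by
  haveI : Fact (Nat.Prime 3) := ⟨Nat.prime_three⟩
  have nQ : ∀ Y : Subgroup C, Y ≤ normalizer (Q : Set C) := fun Y => by rw [normalizer_eq_top]; exact le_top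
  have pw : ∀ (E : Subgroup C) (u : C), (orderOf u).Coprime 2 → u ≠ 1 → (∀ e ∈ E, e * u = u * e) →
      ∃ c < 13, Nat.card ↥(Q ⊓ E) = 2 ^ c := fun E u co u1 hu => by
    obtain ⟨c, hc, e⟩ := (Nat.dvd_prime_pow Nat.prime_two).1 (hcard ▸ card_dvd_of_le (inf_le_left : Q ⊓ E ≤ Q))
    refine ⟨c, lt_of_le_of_ne hc fun f => u1 ?_, e⟩
    have : Q ⊓ E = Q := eq_of_le_of_card_ge inf_le_left (by rw [e, f, hcard])
    have uQ : u ∈ Q := h2c fun q hq => hu q (inf_eq_left.1 this hq)
    exact orderOf_eq_one_iff.1 (Nat.eq_one_of_dvd_coprimes (co.pow_right 13) dvd_rfl (hcard ▸ orderOf_dvd_natCard _ uQ))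
  obtain ⟨p, op⟩ := exists_prime_orderOf_dvd_card' (G := P) 3 (h3 ▸ dvd_rfl)
  have op' : orderOf (p : C) = 3 := by rw [orderOf_coe, op]
  have zp : zpowers (p : C) = P := eq_of_le_of_card_ge (zpowers_le.2 p.2) (by rw [Nat.card_zpowers, op', h3])
  have cp : ∀ x : C, x * p = p * x → x ∈ centralizer (P : Set C) := fun x e a ha => by
    rw [← zp] at ha
    obtain ⟨k, rfl⟩ := ha
    exact ((show Commute x (p : C) from e).zpow_right k).symm
  obtain ⟨c, c13, hc⟩ := pw (centralizer (P : Set C)) p (by rw [op']; norm_num)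
    (fun e => by rw [e, orderOf_one] at op'; omega) (fun e he => (he p p.2).symm)
  obtain ⟨j, j13, hj⟩ := pw (centralizer {g}) g (by rw [o]; norm_num)
    (fun e => by rw [e, orderOf_one] at o; omega) (fun e he => mem_centralizer_singleton_iff.1 he)
  obtain ⟨i, ij, hi⟩ := (Nat.dvd_prime_pow Nat.prime_two).1 (hj ▸ card_dvd_of_le
    (inf_le_inf_right _ inf_le_left : Q ⊓ centralizer (P : Set C) ⊓ centralizer {g} ≤ Q ⊓ centralizer {g}))
  have pY : (p : C) ∈ M ⊓ centralizer (P : Set C) := ⟨hP p.2, cp _ rfl⟩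
  have k9 := cnt (M ⊓ centralizer (P : Set C)) Q (centralizer (P : Set C)) 9 (nQ _) (inf_le_right.trans le_normalizer)
    fun x _ hx => nine (p := ⟨p, pY⟩) (fun y => Subtype.ext (y.2.2 p p.2).symm)
      (Subtype.ext (by rw [← op']; exact pow_orderOf_eq_one (p : C)))
      (by
        have := d p.2
        rw [← map_subtype_commutator] at this
        obtain ⟨u, hu, e⟩ := this
        rwa [show u = ⟨p, pY⟩ from Subtype.ext e] at hu) _
      fun e => hx (cp x (mem_centralizer_singleton_iff.1 e).symm)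
  have k11 : ∀ D : Subgroup C, zpowers g ≤ normalizer (D : Set C) →
      Nat.card ↥(D ⊓ centralizer {g}) ≡ Nat.card D [MOD 11] := fun D hD =>
    cnt (zpowers g) D _ 11 hD ((zpowers_le.2 (mem_centralizer_singleton_iff.2 rfl)).trans le_normalizer) fun x _ hx => by
      have := index_dvd_card ((centralizer ({x} : Set C)).subgroupOf (zpowers g))
      rw [Nat.card_zpowers, o] at this
      rcases (Nat.dvd_prime (by norm_num)).1 this with e | e
      · have : (⟨g, mem_zpowers g⟩ : zpowers g) ∈ (centralizer ({x} : Set C)).subgroupOf (zpowers g) := by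
          rw [index_eq_one.1 e]; trivial
        exact absurd (mem_centralizer_singleton_iff.2 (mem_centralizer_singleton_iff.1 this).symm) hx
      · rw [e]
  have k1 := k11 Q (nQ _)
  have k2 := k11 (Q ⊓ centralizer (P : Set C)) (zpowers_le.2 (mem_normalizer_iff.2 fun x => and_congr
    (mem_normalizer_iff.1 (nQ ⊤ (mem_top g)) x) (mem_normalizer_iff.1 (le_normalizer gP) x)))
  rw [hc, hcard] at k9
  rw [hj, hcard] at k1
  rw [hi, hc] at k2
  rw [hc, ar c c13 j j13 i ij k9 k2 k1, pow_one]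

theorem b4' {Q N M : Subgroup C} [N.Normal] (c22 : Nat.card M22 = 443520) (h : St Q N M) (P : Subgroup C) (hP : P ≤ N)
    (h3 : Nat.card P = 3) (y : M ≤ centralizer (P : Set C) ⊔ Q)
    (d : P ≤ ⁅M ⊓ centralizer (P : Set C), M ⊓ centralizer (P : Set C)⁆) :
    Nat.card ↥(Q ⊓ centralizer (P : Set C)) = 2 := by
  haveI := h.nQ
  haveI : Fact (Nat.Prime 11) := ⟨by norm_num⟩
  obtain ⟨e⟩ := h.hM22
  have d11 : 11 ∣ Nat.card M := Dvd.dvd.trans (by rw [Nat.card_congr e.toEquiv, c22]; norm_num)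
    (card_quotient_dvd_card (N.subgroupOf M))
  obtain ⟨m, om⟩ := exists_prime_orderOf_dvd_card' (G := M) 11 d11
  have om' : orderOf (m : C) = 11 := by rw [orderOf_coe, om]
  obtain ⟨c, hc, q, hq, cq⟩ := mem_sup_of_normal_right.1 (y m.2)
  have e1 : QuotientGroup.mk' Q c = QuotientGroup.mk' Q m := by
    rw [← cq, map_mul, QuotientGroup.mk'_apply Q q, (QuotientGroup.eq_one_iff q).2 hq, mul_one]
  have o1 : orderOf (QuotientGroup.mk' Q m) = 11 := orderOf_eq_prime (by rw [← map_pow, ← om', pow_orderOf_eq_one, map_one])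
    fun f => by
      have := orderOf_dvd_natCard _ ((QuotientGroup.eq_one_iff _).1 f)
      rw [om', h.hcard] at this
      norm_num at this
  have d2 : 11 ∣ Nat.card (zpowers c) := by rw [Nat.card_zpowers, ← o1, ← e1]; exact orderOf_map_dvd _ c
  obtain ⟨g, og⟩ := exists_prime_orderOf_dvd_card' (G := zpowers c) 11 d2
  exact core h.hcard h.h2c P (hP.trans h.hNM) h3 g (by rw [orderOf_coe, og]) (zpowers_le.2 hc g.2) d

end H12.B4
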