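import Cfsg.Agent.H16.Not
import Cfsg.Agent.H1.Fitting
import Cfsg.Agent.H1.Frattini
import Cfsg.Agent.H1.HallTop
import Cfsg.Agent.H1.Prim
import Cfsg.Agent.H2.Frob
import Cfsg.Agent.H3.PComp
import Cfsg.Agent.H4.Thompson
import Cfsg.Agent.S0012
import Cfsg.Agent.S0117

/-! Normal subgroups whose non-central elements have maximal centralizers. -/

set_option autoImplicit false
set_option linter.unusedSectionVars false

open Subgroup Cfsg H16
open scoped commutatorElement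

namespace H12.CM

variable {G : Type*} [Group G] [Finite G] {N M A T : Subgroup G} {a b x y : G}

/-- a prime power element outside `T` whose `p`-th power lies in `T`. -/
theorem exists_pp (h : ¬ A ≤ T) :
    ∃ p : ℕ, p.Prime ∧ ∃ a ∈ A, a ∉ T ∧ a ^ p ∈ T ∧ ∃ k, orderOf a = p ^ k := by
  classical
  have hex : ∃ n, ∃ a ∈ A, a ∉ T ∧ orderOf a = n := by
    obtain ⟨a, h1, h2⟩ := SetLike.not_le_iff_exists.1 h
    exact ⟨_, a, h1, h2, rfl⟩
  obtain ⟨a, h1, h2, h3⟩ := Nat.find_spec hex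
  have hm : ∀ r : ℕ, r.Prime → r ∣ orderOf a → a ^ r ∈ T := fun r hr hd => by
    by_contra hn
    refine Nat.find_min hex ?_ ⟨a ^ r, pow_mem h1 r, hn, rfl⟩
    rw [← h3, orderOf_pow_of_dvd hr.ne_zero hd]
    exact Nat.div_lt_self (orderOf_pos a) hr.one_lt
  have ha1 : orderOf a ≠ 1 := fun e => h2 (by rw [orderOf_eq_one_iff.1 e]; exact one_mem _)
  obtain ⟨p, hp, hd⟩ := Nat.exists_prime_and_dvd ha1
  refine ⟨p, hp, a, h1, h2, hm p hp hd, _, Nat.eq_prime_pow_of_unique_prime_dvd (orderOf_pos a).ne' fun {r} hr hrd => ?_⟩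
  by_contra hne
  apply h2
  have hc : (r : ℤ).gcd p = 1 := by
    rw [Int.gcd_natCast_natCast]; exact (Nat.coprime_primes hr hp).2 hne
  have e := Int.gcd_eq_gcd_ab (r : ℤ) p
  rw [hc] at e
  have : a = (a ^ r) ^ ((r : ℤ).gcdA p) * (a ^ p) ^ ((r : ℤ).gcdB p) := by
    rw [← zpow_natCast, ← zpow_natCast, ← zpow_mul, ← zpow_mul, ← zpow_add, ← e]; simp
  rw [this]
  exact mul_mem (zpow_mem (hm r hr hrd) _) (zpow_mem (hm p hp hd) _)

theorem mem_of_pow {n : ℕ} (h : a ^ n ∈ T) (hc : (orderOf a).Coprime n) : a ∈ T := by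
  obtain ⟨m, hm⟩ := exists_pow_eq_self_of_coprime hc.symm
  rw [← hm]; exact pow_mem h m

theorem mem_zp_mul (hab : a * b = b * a) (hc : (orderOf a).Coprime (orderOf b)) : a ∈ zpowers (a * b) := by
  refine mem_of_pow (n := orderOf b) ?_ hc
  have : a ^ orderOf b = (a * b) ^ orderOf b := by
    rw [Commute.mul_pow hab, pow_orderOf_eq_one, mul_one]
  rw [this]; exact pow_mem (mem_zpowers _) _

theorem c1_le (h : a ∈ zpowers b) : C1[b] ≤ C1[a] := by
  rw [← cent_zpowers b]; exact cent_le_cent1 h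

/-- the hypothesis. -/
def Hy (N : Subgroup G) : Prop := ∀ x : G, x ∈ N → x ∉ C[N] → IsCoatom C1[x]

theorem c1_ne (ha : a ∈ N) (ha' : a ∉ C[N]) : ¬ N ≤ C1[a] := fun e => ha' (le_cent1.1 e)

theorem Hy.eq (h : Hy N) (hb : b ∈ N) (hb' : b ∉ C[N]) (hle : C1[b] ≤ C1[a]) (ha : ¬ N ≤ C1[a]) : C1[a] = C1[b] := by
  by_contra hne
  exact ha (by rw [(h b hb hb').2 _ (lt_of_le_of_ne hle (Ne.symm hne))]; exact le_top)

theorem Hy.cop (h : Hy N) (ha : a ∈ N) (ha' : a ∉ C[N]) (hb : b ∈ N) (hb' : b ∉ C[N]) (hab : a * b = b * a)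
    (hc : (orderOf a).Coprime (orderOf b)) : C1[a] = C1[b] := by
  have h1 := mem_zp_mul hab hc
  have h2 := mem_zp_mul hab.symm hc.symm
  rw [← hab] at h2
  have h3 : a * b ∉ C[N] := fun e => ha' ((zpowers_le.2 e) h1)
  rw [h.eq (mul_mem ha hb) h3 (c1_le h1) (c1_ne ha ha'), h.eq (mul_mem ha hb) h3 (c1_le h2) (c1_ne hb hb')]

theorem chief (hM : IsCoatom M) [T.Normal] (h1 : A ⊓ M ≤ T) (h2 : T ≤ A) (h3 : ¬ T ≤ M) : A ≤ T := by
  have e : T ⊔ M = ⊤ := hM.2 _ (right_lt_sup.2 h3)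
  intro a ha
  have : a ∈ T ⊔ M := by rw [e]; trivial
  obtain ⟨t, ht, m, hm, rfl⟩ := (mem_sup_l (le_normalizer_of_normal)).1 this
  exact mul_mem ht (h1 ⟨by simpa using mul_mem (inv_mem (h2 ht)) ha, hm⟩)

theorem cop_pp {p q i j : ℕ} (hp : p.Prime) (hq : q.Prime) (hne : p ≠ q) (ha : orderOf a = p ^ i)
    (hb : orderOf b = q ^ j) : (orderOf a).Coprime (orderOf b) := by
  rw [ha, hb]; exact Nat.Coprime.pow _ _ ((Nat.coprime_primes hp hq).2 hne)

/-! ### The centre-free case -/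

/-- centre-free hypothesis with no normal centralizer. -/
def Fr (N : Subgroup G) : Prop := ∀ x ∈ N, x ≠ 1 → IsCoatom C1[x] ∧ ¬ N ≤ C1[x] ∧ ¬ (C1[x]).Normal

theorem Fr.nc (h : Fr N) (hx : x ∈ N) (h1 : x ≠ 1) : x ∉ C[N] := fun e => (h x hx h1).2.1 (le_cent1.2 e)

theorem Fr.hy (h : Fr N) : Hy N := fun x hx h1 => (h x hx fun e => h1 (e ▸ one_mem _)).1

theorem Fr.noab [N.Normal] (h : Fr N) : ∀ V : Subgroup G, V.Normal → V ≤ N → V ≤ C[V] → V = ⊥ := by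
  intro V hV hVN hab
  by_contra h0
  obtain ⟨x, hx, hx1⟩ := exists_ne_one h0
  obtain ⟨hM, hNM, hn⟩ := h x (hVN hx) hx1
  have hVM : V ≤ C1[x] := hab.trans (cent_le_cent1 hx)
  have key : N ≤ N[C1[x]] := fun n hn => by
    by_cases hc : n ∈ C[V]
    · exact le_norm _ (cent_le_cent1 hx hc)
    have hn1 : n ≠ 1 := fun e => hc (e ▸ one_mem _)
    have h3 : ¬ V ≤ C1[n] := fun e => hc (le_cent1.1 e)
    have e : V ⊔ C1[n] = ⊤ := (h n hn hn1).1.2 _ (right_lt_sup.2 h3)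
    refine mem_norm_of_cj_le (cj_le_forall.2 fun m hm => ?_)
    have : m ∈ V ⊔ C1[n] := by rw [e]; trivial
    obtain ⟨v, hv, c, hc, rfl⟩ := (mem_sup_l (le_normalizer_of_normal)).1 this
    have e2 : n * (v * c) * n⁻¹ = (n * v * n⁻¹ * v⁻¹) * (v * c) := by
      have := mem_cent1.1 hc
      calc n * (v * c) * n⁻¹ = n * v * (c * n⁻¹) := by group
        _ = n * v * (n⁻¹ * c) := by
          rw [show c * n⁻¹ = n⁻¹ * c by rw [eq_inv_mul_iff_mul_eq, ← mul_assoc, ← this]; group]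
        _ = _ := by group
    rw [e2]
    exact mul_mem (hVM (mul_mem (hV.conj_mem _ hv _) (inv_mem hv))) hm
  apply hn
  rw [← normalizer_eq_top_iff]
  exact hM.2 _ (lt_of_le_of_ne (le_norm _) fun e => hNM (e ▸ key))

theorem Fr.pw (h : Fr N) (hx : x ∈ N) {n : ℕ} (h1 : x ^ n ≠ 1) : C1[x ^ n] = C1[x] :=
  have h0 : x ≠ 1 := fun e => h1 (by rw [e, one_pow])
  h.hy.eq hx (h.nc hx h0) (c1_le (pow_mem (mem_zpowers _) _)) (h _ (pow_mem hx n) h1).2.1

theorem Fr.dich (h : Fr N) {q k : ℕ} (hq : q.Prime) (hy : y ∈ N) (h1 : y ≠ 1) (ho : orderOf y = q ^ k) :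
    IsPGroup q ↥(N ⊓ C1[y]) ∨ ∀ z ∈ N ⊓ C1[y], z ≠ 1 → C1[z] = C1[y] := by
  haveI : Fact q.Prime := ⟨hq⟩
  by_cases hp : IsPGroup q ↥(N ⊓ C1[y])
  · exact Or.inl hp
  right
  obtain ⟨r, hr, hrq, hd⟩ : ∃ r : ℕ, r.Prime ∧ r ≠ q ∧ r ∣ Nat.card ↥(N ⊓ C1[y]) := by
    by_contra hn
    push Not at hn
    exact hp (IsPGroup.of_card (Nat.eq_prime_pow_of_unique_prime_dvd (card_ne_zero _) fun {r} hr hd => by
      by_contra hne; exact hn r hr hne hd))
  obtain ⟨w, hw, hwo⟩ := exists_orderOf hr hd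
  have hw1 : w ≠ 1 := fun e => hr.one_lt.ne (by rw [← hwo, e, orderOf_one])
  have e1 : C1[w] = C1[y] := h.hy.cop hw.1 (h.nc hw.1 hw1) hy (h.nc hy h1) (mem_cent1.1 hw.2)
    (cop_pp (i := 1) hr hq hrq (by rw [hwo, pow_one]) ho)
  intro z hz hz1
  obtain ⟨s, hs, hd⟩ := Nat.exists_prime_and_dvd (fun e => hz1 (orderOf_eq_one_iff.1 e) : orderOf z ≠ 1)
  have ho' : orderOf (z ^ (orderOf z / s)) = s := orderOf_pow_orderOf_div (orderOf_pos z).ne' hd
  have hz' : z ^ (orderOf z / s) ≠ 1 := fun e => hs.one_lt.ne (by rw [← ho', e, orderOf_one])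
  rw [← h.pw hz.1 hz']
  have hm := pow_mem hz (orderOf z / s)
  by_cases hsq : s = q
  · rw [← e1]
    exact h.hy.cop hm.1 (h.nc hm.1 hz') hw.1 (h.nc hw.1 hw1) (mem_cent1.1 (e1 ▸ hm.2))
      (cop_pp (i := 1) (j := 1) hs hr (hsq ▸ hrq.symm) (by rw [ho', pow_one]) (by rw [hwo, pow_one]))
  · exact h.hy.cop hm.1 (h.nc hm.1 hz') hy (h.nc hy h1) (mem_cent1.1 hm.2)
      (cop_pp (i := 1) hs hq hsq (by rw [ho', pow_one]) ho)

theorem Fr.syl [N.Normal] (h : Fr N) {q : ℕ} [hq : Fact q.Prime] {Q : Subgroup G} (hQ : IsPiHallOf {q} Q N)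
    (h0 : Q ≠ ⊥) : ∃ y ∈ Q, y ≠ 1 ∧ Q ≤ C1[y] ∧ Group.IsNilpotent ↥(N ⊓ C1[y]) ∧
      ∀ W ≤ N, W ≠ ⊥ → W ≤ C[W] → N[Q] ≤ N[W] → N[W] = C1[y] := by
  obtain ⟨hQN, hQp, hi⟩ := H1.isPiHallOf_singleton_iff.1 hQ
  obtain ⟨y, hy, hy1⟩ := exists_ne_one (H1.inf_centralizer_ne_bot_of_isPGroup hQp hQp (le_norm _) h0)
  have hQy : Q ≤ C1[y] := le_cent1.2 hy.2
  obtain ⟨k, hk⟩ := IsPGroup.iff_orderOf.1 hQp ⟨y, hy.1⟩
  rw [← orderOf_coe] at hk
  have hd := h.dich hq.out (hQN hy.1) hy1 hk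
  have hM := (h y (hQN hy.1) hy1).1
  have hab : (∀ z ∈ N ⊓ C1[y], z ≠ 1 → C1[z] = C1[y]) → C1[y] ≤ C[N ⊓ C1[y]] := fun hd g hg =>
    mem_cent.2 fun z hz => by
      by_cases hz1 : z = 1
      · simp [hz1]
      · exact (mem_cent1.1 (hd z hz hz1 ▸ hg)).symm
  refine ⟨y, hy.1, hy1, hQy, ?_, fun W hW hW0 hWc hn => ?_⟩
  · rcases hd with hd | hd
    · exact hd.isNilpotent
    · exact nil_of_comm (comm_iff.2 (inf_le_right.trans (hab hd)))
  · have h1 : C1[y] ≤ N[Q] := by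
      rcases hd with hd | hd
      · have : Q = N ⊓ C1[y] := by
          have h2 : Q ≤ N ⊓ C1[y] := le_inf hQN hQy
          obtain ⟨j, hj⟩ := IsPGroup.iff_card.1 hd
          have h3 : Q.relIndex (N ⊓ C1[y]) ∣ q ^ j := hj ▸ Dvd.intro_left _ (card_mul_relIndex h2)
          obtain ⟨i, -, h4⟩ := (Nat.dvd_prime_pow hq.out).1 h3
          rcases i with _ | i
          · exact le_antisymm h2 (relIndex_eq_one.1 h4)
          · exact absurd ((h4 ▸ dvd_pow_self q i.succ_ne_zero).trans (relIndex_dvd_of_le_right h2 inf_le_left)) hi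
        rw [this]
        exact norm_inf le_normalizer_of_normal (le_norm _)
      · exact norm_of_cent ((hab hd).trans (cent_anti (le_inf hQN hQy)))
    by_contra hne
    have := hM.2 _ (lt_of_le_of_ne (h1.trans hn) (Ne.symm hne))
    exact hW0 (h.noab W (normalizer_eq_top_iff.1 this) hW hWc)

theorem Fr.notp [N.Normal] (h : Fr N) (h0 : N ≠ ⊥) {p : ℕ} [Fact p.Prime] : ¬ IsPGroup p N := fun hp => by
  obtain ⟨y, hy, hy1⟩ := exists_ne_one (H1.inf_centralizer_ne_bot_of_isPGroup hp hp (le_norm _) h0)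
  exact h.nc hy.1 hy1 hy.2

theorem Fr.bot [N.Normal] (h : Fr N) : N = ⊥ := by
  by_contra h0
  obtain ⟨p, hp, hp2, hd⟩ : ∃ r : ℕ, r.Prime ∧ r ≠ 2 ∧ r ∣ Nat.card N := by
    by_contra hn
    push Not at hn
    exact h.notp h0 (p := 2) (IsPGroup.of_card (Nat.eq_prime_pow_of_unique_prime_dvd (card_ne_zero _)
      fun {r} hr hd => by by_contra hne; exact hn r hr hne hd))
  haveI : Fact p.Prime := ⟨hp⟩
  obtain ⟨S⟩ : Nonempty (Sylow p N) := inferInstance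
  have hP := H1.isPiHallOf_sylow S
  set P := (S : Subgroup N).map N.subtype with hPd
  obtain ⟨hPN, hPp, hi⟩ := H1.isPiHallOf_singleton_iff.1 hP
  have hP0 : P ≠ ⊥ := fun e => hi (by rw [e, relIndex_bot_left]; exact hd)
  obtain ⟨x, hx, hx1, hPx, hnil, hW⟩ := h.syl hP hP0
  have e1 := hW (centerThompsonOf p P) ((H4.centerThompsonOf_le _).trans hPN) (H4.centerThompsonOf_ne_bot hPp hP0)
    (comm_iff.1 (H4.isMulCommutative_centerThompsonOf _)) (H4.normalizer_le_normalizer_centerThompsonOf _)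
  have hnpc : HasNormalPComplement p N := by
    refine (Cfsg.Agent.S0117.result hp2 S).2 ?_
    have e2 : N[centerThompsonOf p (S : Subgroup N)] ≤ (N ⊓ C1[x]).subgroupOf N := fun g hg => by
      refine mem_subgroupOf.2 ⟨g.2, ?_⟩
      rw [← e1, ← H4.map_centerThompsonOf _ (by simp)]
      exact le_normalizer_map _ (mem_map_of_mem _ hg)
    refine H3.hasNormalPComplement_of_le e2 ((H3.hasNormalPComplement_subgroupOf inf_le_left).2 ?_)
    exact H1.hasNormalPComplement_of_isNilpotent hnil p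
  obtain ⟨K', hK', hc⟩ := (H3.hasNormalPComplement_iff_sylow S).1 hnpc
  set K := K'.map N.subtype with hKd
  have hKN : K ≤ N := map_subtype_le _
  have hnK : N ≤ N[K] := fun g hg => le_normalizer_map _ (mem_map.2 ⟨⟨g, hg⟩, le_normalizer_of_normal (mem_top _), rfl⟩)
  have cK : Nat.card K = Nat.card K' := card_map_of_injective (subtype_injective _)
  have cP : Nat.card P = Nat.card (S : Subgroup N) := card_map_of_injective (subtype_injective _)
  have iK : K.relIndex N = Nat.card P := by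
    rw [cP, ← hc.symm.index_eq_card, relIndex, hKd, subgroupOf, comap_map_eq_self_of_injective (subtype_injective _)]
  have hcop : (Nat.card P).Coprime (Nat.card K) := by
    rw [cP, cK, ← hc.index_eq_card]; exact S.card_coprime_index
  obtain ⟨j, hj⟩ := IsPGroup.iff_card.1 hPp
  have hKx : K ≤ C1[x] := H1.le_of_forall_sylowOf_le fun q _ hqd => by
    have hq : q.Prime := Fact.out
    obtain ⟨Q, hQ, hn⟩ := H1.exists_invariant_sylowOf q (hPN.trans hnK) hcop (Or.inl (sol_of_nil hPp.isNilpotent))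
    refine ⟨Q, hQ, ?_⟩
    obtain ⟨hQK, hQp, hiq⟩ := H1.isPiHallOf_singleton_iff.1 hQ
    have hqp : q ≠ p := fun e => by
      have h2 : q ∣ Nat.card P := by
        rw [hj, e]; exact dvd_pow_self p (fun e => hP0 (card_eq_one.1 (by rw [hj, e, pow_zero])))
      exact hq.one_lt.ne' (Nat.eq_one_of_dvd_coprimes hcop h2 hqd)
    have hQN : IsPiHallOf {q} Q N := H1.isPiHallOf_singleton_iff.2 ⟨hQK.trans hKN, hQp, fun hd => by
      rw [← relIndex_mul_relIndex Q K N hQK hKN, iK, hj] at hd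
      rcases (Nat.Prime.dvd_mul hq).1 hd with h2 | h2
      · exact hiq h2
      · exact hqp ((Nat.prime_dvd_prime_iff_eq hq hp).1 (hq.dvd_of_dvd_pow h2))⟩
    have hQ0 : Q ≠ ⊥ := fun e => hiq (by rw [e, relIndex_bot_left]; exact hqd)
    obtain ⟨y, hy, hy1, hQy, -, hW'⟩ := h.syl hQN hQ0
    have e3 := hW' (Q ⊓ C[Q]) (inf_le_left.trans (hQK.trans hKN))
      (H1.inf_centralizer_ne_bot_of_isPGroup hQp hQp (le_norm _) hQ0) (comm_iff.1 (comm_center _))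
      (norm_inf le_rfl (norm_cent le_rfl))
    have hxy : x ∈ C1[y] := e3 ▸ norm_inf le_rfl (norm_cent le_rfl) (hn hx)
    obtain ⟨k, hk⟩ := IsPGroup.iff_orderOf.1 hQp ⟨y, hy⟩
    obtain ⟨l, hl⟩ := IsPGroup.iff_orderOf.1 hPp ⟨x, hx⟩
    rw [← orderOf_coe] at hk hl
    rw [h.hy.cop (hPN hx) (h.nc (hPN hx) hx1) (hKN (hQK hy)) (h.nc (hKN (hQK hy)) hy1) (mem_cent1.1 hxy)
      (cop_pp hp hq hqp.symm hl hk)]
    exact hQy
  refine (h x (hPN hx) hx1).2.1 fun n hn => ?_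
  obtain ⟨⟨⟨k, hk⟩, ⟨s, hs⟩⟩, e, -⟩ := hc.existsUnique ⟨n, hn⟩
  have : n = (k : G) * (s : G) := (congrArg Subtype.val e).symm
  rw [this]
  exact mul_mem (hKx (mem_map_of_mem _ hk)) (hPx (mem_map_of_mem _ hs))

/-! ### The general case -/

/-- at least two primes occur outside the centre. -/
def Two (N : Subgroup G) : Prop :=
  ∀ p : ℕ, p.Prime → ∃ s : ℕ, s.Prime ∧ s ≠ p ∧ ∃ w ∈ N, w ∉ C[N] ∧ ∃ k, orderOf w = s ^ k

theorem Hy.z_le (h : Hy N) (h2 : Two N) : N ⊓ C[N] ≤ center G := by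
  by_contra hn
  obtain ⟨r, hr, z, hz, hz', -, k, hk⟩ := exists_pp hn
  obtain ⟨s, hs, hsr, w, hw, hw', l, hl⟩ := h2 r hr
  have hc : w * z = z * w := mem_cent.1 hz.2 w hw
  have hco := cop_pp hs hr hsr hl hk
  have h1 := mem_zp_mul hc hco
  have h3 := mem_zp_mul hc.symm hco.symm
  rw [← hc] at h3
  have h4 : w * z ∉ C[N] := fun e => hw' ((zpowers_le.2 e) h1)
  have hM := h _ (mul_mem hw hz.1) h4
  have h5 : C1[z] = ⊤ := hM.2 _ (lt_of_le_of_ne (c1_le h3) fun e => c1_ne (mul_mem hw hz.1) h4 (e ▸ le_cent1.2 hz.2))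
  exact hz' (mem_center_iff.2 fun g => mem_cent1.1 (h5 ▸ mem_top g))

theorem Hy.exists_normal [N.Normal] (h : Hy N) (h2 : Two N) : ∃ x ∈ N, x ∉ C[N] ∧ (C1[x]).Normal := by
  by_contra hn
  push Not at hn
  have hZ := h.z_le h2
  haveI : (N ⊓ C[N]).Normal := H1.normal_of_le_center hZ
  let π := QuotientGroup.mk' (N ⊓ C[N])
  have hπ : Function.Surjective π := QuotientGroup.mk'_surjective _
  have hk : π.ker = N ⊓ C[N] := QuotientGroup.ker_mk' _
  haveI : (N.map π).Normal := Normal.map inferInstance π hπ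
  have hF : Fr (N.map π) := by
    rintro _ ⟨x, hx, rfl⟩ hx1
    have hx' : x ∉ C[N] := fun e => hx1 ((QuotientGroup.eq_one_iff _).2 ⟨hx, e⟩)
    have hM := h x hx hx'
    have hle : π.ker ≤ C1[x] := hk.le.trans (inf_le_right.trans (cent_le_cent1 hx))
    have e : C1[x] = (C1[π x]).comap π := by
      have h1 : C1[x] ≤ (C1[π x]).comap π := fun g hg => mem_cent1.2 (by
        rw [← map_mul, ← map_mul, mem_cent1.1 hg])
      by_contra hne
      have h3 := hM.2 _ (lt_of_le_of_ne h1 hne)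
      refine hn x hx hx' ⟨fun m hm g => mem_cent1.2 ?_⟩
      have h4 : π g⁻¹ * π x = π x * π g⁻¹ := mem_cent1.1 (show g⁻¹ ∈ (C1[π x]).comap π from h3 ▸ mem_top _)
      have h5 : g⁻¹ * x * g * x⁻¹ ∈ center G := hZ (hk ▸ MonoidHom.mem_ker.2 (by
        rw [map_mul, map_mul, map_mul, h4]; simp))
      have h6 := mem_center_iff.1 h5 m
      have h7 := mem_cent1.1 hm
      calc g * m * g⁻¹ * x = g * (m * (g⁻¹ * x * g * x⁻¹)) * x * g⁻¹ := by group
        _ = g * (g⁻¹ * x * g * x⁻¹) * (m * x) * g⁻¹ := by rw [h6]; group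
        _ = _ := by rw [h7]; group
    have e2 : C1[π x] = (C1[x]).map π := by rw [e, map_comap_eq_self_of_surjective hπ]
    refine ⟨?_, fun h1 => c1_ne hx hx' (e ▸ map_le_iff_le_comap.1 h1), fun h1 => hn x hx hx' (e ▸ h1.comap π)⟩
    refine ⟨fun e3 => hM.1 (by rw [e, e3, comap_top]), fun L hL => ?_⟩
    have := hM.2 (L.comap π) (e ▸ (comap_lt_comap_of_surjective hπ).2 hL)
    rw [← map_comap_eq_self_of_surjective hπ L, this, map_top_of_surjective _ hπ]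
  obtain ⟨s, -, -, w, hw, hw', -⟩ := h2 2 Nat.prime_two
  have : w ∈ π.ker := (Subgroup.map_eq_bot_iff _).1 hF.bot hw
  exact hw' (hk ▸ this).2

theorem Hy.struct [N.Normal] (h : Hy N) (h2 : Two N) : ∃ (A : Subgroup G) (y : G) (p q : ℕ), p.Prime ∧ q.Prime ∧
    p ≠ q ∧ A.Normal ∧ A ≤ N ∧ A ≤ C[A] ∧ ¬ A ≤ C[N] ∧ (∀ a ∈ A, a ^ p ∈ C[N]) ∧ y ∈ N ∧ y ∉ C[N] ∧ y ^ q ∈ C[N] ∧
    (∀ n ∈ N, ∃ a ∈ A, ∃ i : ℕ, n = a * y ^ i) ∧ ∀ a ∈ A, a * y = y * a → a ∈ C[N] := by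
  obtain ⟨x, hx, hx', hMn⟩ := h.exists_normal h2
  have hM := h x hx hx'
  set M := C1[x] with hMd
  obtain ⟨q, hq, y, hy, hyM, hyq, k, hk⟩ := exists_pp (c1_ne hx hx')
  have hZM : C[N] ≤ M := cent_le_cent1 hx
  have hy' : y ∉ C[N] := fun e => hyM (hZM e)
  have hY := h y hy hy'
  have hZ := h.z_le h2
  set A := N ⊓ M ⊓ C[M] with hAd
  haveI hAn : A.Normal := inferInstance
  have hxA : x ∈ A := ⟨⟨hx, cent1_self x⟩, le_cent1.1 le_rfl⟩
  have hab : A ≤ C[A] := inf_le_right.trans (cent_anti (inf_le_left.trans inf_le_right))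
  have hAN : A ≤ N := inf_le_left.trans inf_le_left
  have hZA : N ⊓ C[N] ≤ A := le_inf (inf_le_inf_left _ hZM) (hZ.trans (center_le_centralizer _))
  have hA1 : ∀ a ∈ A, a ∉ C[N] → C1[a] = M := fun a ha ha' => h.eq hx hx' (le_cent1.2 ha.2) (c1_ne ha.1.1 ha')
  have hAy : ∀ a ∈ A, a * y = y * a → a ∈ C[N] := fun a ha e => by
    by_contra ha'
    exact hyM ((hA1 a ha ha').le (mem_cent1.2 e.symm))
  have hxy : x ∉ C1[y] := fun e => hyM (cent1_comm.1 e)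
  obtain ⟨p, hp, a, ha, ha', hap, l, hl⟩ := exists_pp (A := A) (T := C[N]) fun e => hx' (e hxA)
  have hpA : ∀ b ∈ A, b ^ p ∈ C[N] := by
    let T : Subgroup G :=
      { carrier := {b | b ∈ A ∧ b ^ p ∈ C[N]}
        one_mem' := ⟨one_mem _, by rw [one_pow]; exact one_mem _⟩
        mul_mem' := fun {b c} hb hc => ⟨mul_mem hb.1 hc.1, by
          rw [Commute.mul_pow (mem_cent.1 (hab hc.1) b hb.1)]; exact mul_mem hb.2 hc.2⟩
        inv_mem' := fun {b} hb => ⟨inv_mem hb.1, by rw [inv_pow]; exact inv_mem hb.2⟩ }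
    haveI : T.Normal := ⟨fun b hb g => ⟨hAn.conj_mem _ hb.1 _, by
      rw [conj_pow]; exact (inferInstance : (C[N]).Normal).conj_mem _ hb.2 _⟩⟩
    have := chief (A := A) (T := T) hY (fun b hb => ⟨hb.1, pow_mem (hAy b hb.1 (mem_cent1.1 hb.2)) _⟩)
      (fun b hb => hb.1) fun e => ha' (hAy a ha (mem_cent1.1 (e ⟨ha, hap⟩)))
    exact fun b hb => (this hb).2
  have hG : ∀ g : G, ∃ m ∈ M, ∃ i : ℕ, g = m * y ^ i := fun g => by
    have e : M ⊔ zpowers y = ⊤ := hM.2 _ (left_lt_sup.2 fun e => hyM (e (mem_zpowers y)))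
    have : g ∈ M ⊔ zpowers y := by rw [e]; trivial
    obtain ⟨m, hm, u, hu, rfl⟩ := (mem_sup_l (le_normalizer_of_normal)).1 this
    obtain ⟨i, rfl⟩ := (mem_powers_iff_mem_zpowers.2 hu)
    exact ⟨m, hm, i, rfl⟩
  have hGq : ∀ g : G, g ^ q ∈ M := fun g => by
    obtain ⟨m, hm, i, rfl⟩ := hG g
    rw [← QuotientGroup.eq_one_iff] at hm hyq ⊢
    rw [QuotientGroup.mk_pow] at hyq
    rw [QuotientGroup.mk_pow, QuotientGroup.mk_mul, hm, one_mul, QuotientGroup.mk_pow, ← pow_mul, mul_comm,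
      pow_mul, hyq, one_pow]
  have hpq : p ≠ q := by
    rintro rfl
    obtain ⟨s, hs, hsp, w, hw, hw', j, hj⟩ := h2 p hp
    have hc : (orderOf w).Coprime p := by rw [hj]; exact Nat.Coprime.pow_left _ ((Nat.coprime_primes hs hp).2 hsp)
    have hwM : w ∈ M := mem_of_pow (hGq w) hc
    have e := h.cop hw hw' (hAN ha) ha' (mem_cent.1 ha.2 w hwM) (cop_pp hs hp hsp hj hl)
    rw [hA1 a ha ha'] at e
    exact hw' (mem_of_pow (hpA w ⟨⟨hw, hwM⟩, le_cent1.1 e.ge⟩) hc)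
  have hC : N ⊓ M ⊓ C1[y] ≤ C[N] := by
    by_contra hn
    obtain ⟨r, hr, c, hc, hc', -, j, hj⟩ := exists_pp hn
    by_cases hrp : r = p
    · have e := h.cop hc.1.1 hc' hy hy' (mem_cent1.1 hc.2) (cop_pp hr hq (hrp ▸ hpq) hj hk)
      exact hxy (e ▸ cent1_comm.1 hc.1.2)
    · have e := h.cop hc.1.1 hc' (hAN ha) ha' (mem_cent.1 ha.2 c hc.1.2) (cop_pp hr hp hrp hj hl)
      rw [hA1 a ha ha'] at e
      exact hyM (e.le (cent1_comm.1 hc.2))
  have hNM : N ⊓ M ≤ A := fun n hn => by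
    have e : A ⊔ C1[y] = ⊤ := hY.2 _ (right_lt_sup.2 fun e => hxy (e hxA))
    have : n ∈ A ⊔ C1[y] := by rw [e]; trivial
    obtain ⟨b, hb, u, hu, rfl⟩ := (mem_sup_l (le_normalizer_of_normal)).1 this
    have h3 : u ∈ N ⊓ M := by simpa using (N ⊓ M).mul_mem (inv_mem (mem_inf.1 hb).1) hn
    exact mul_mem hb (hZA (mem_inf.2 ⟨h3.1, hC (mem_inf.2 ⟨h3, hu⟩)⟩))
  refine ⟨A, y, p, q, hp, hq, hpq, hAn, hAN, hab, fun e => hx' (e hxA), hpA, hy, hy',
    hC ⟨⟨pow_mem hy _, hyq⟩, pow_mem (cent1_self y) _⟩, fun n hn => ?_, hAy⟩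
  obtain ⟨m, hm, i, rfl⟩ := hG n
  exact ⟨m, hNM ⟨by simpa using mul_mem hn (N.inv_mem (pow_mem hy i)), hm⟩, i, rfl⟩

theorem Hy.one [N.Normal] (h : Hy N) (h2 : ¬ Two N) : ∃ p : ℕ, p.Prime ∧ (∀ a ∈ N, ∀ b ∈ N, ⁅a, b⁆ ∈ C[N]) ∧
    ∀ a ∈ N, a ^ p ∈ C[N] := by
  unfold Two at h2
  push Not at h2
  obtain ⟨p, hp, h2⟩ := h2
  haveI : Fact p.Prime := ⟨hp⟩
  let π := QuotientGroup.mk' C[N]
  have hπ : Function.Surjective π := QuotientGroup.mk'_surjective _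
  have hk : π.ker = C[N] := QuotientGroup.ker_mk' _
  haveI : (N.map π).Normal := Normal.map inferInstance π hπ
  have hP : IsPGroup p (N.map π) := by
    refine IsPGroup.of_card (Nat.eq_prime_pow_of_unique_prime_dvd (card_ne_zero _) fun {s} hs hd => ?_)
    obtain ⟨_, ⟨w, hw, rfl⟩, ho⟩ := exists_orderOf hs hd
    have h1 : ¬ zpowers w ≤ C[N] := fun e => hs.one_lt.ne (by
      rw [← ho, show π w = 1 from (QuotientGroup.eq_one_iff _).2 (e (mem_zpowers w)), orderOf_one])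
    obtain ⟨r, hr, c, hc, hc', hcr, j, hj⟩ := exists_pp h1
    by_contra hsp
    have hrp : r = p := by
      by_contra hne
      exact h2 r hr hne c ((zpowers_le.2 hw) hc) hc' j hj
    subst hrp
    have h3 : c ^ s ∈ C[N] := by
      obtain ⟨i, rfl⟩ := mem_zpowers_iff.1 hc
      rw [← hk, MonoidHom.mem_ker, map_pow, map_zpow, ← zpow_natCast, ← zpow_mul, mul_comm, zpow_mul, zpow_natCast,
        ← ho, pow_orderOf_eq_one, one_zpow]
    exact hc' (mem_of_pow h3 (by rw [hj]; exact Nat.Coprime.pow_left _ ((Nat.coprime_primes hr hs).2 (Ne.symm hsp))))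
  have key : ∀ a : N.map π, a ∈ frattini (N.map π) → ∀ b ∈ N, π b = a → b ∈ C[N] := fun a ha b hb e =>
    mem_cent.2 fun x hx => by
      by_cases hx' : x ∈ C[N]
      · exact (mem_cent.1 hx' b hb).symm
      have hM := h x hx hx'
      have hle : π.ker ≤ C1[x] := hk.le.trans (cent_le_cent1 hx)
      have hM' : IsCoatom ((C1[x]).map π) := by
        refine ⟨fun e3 => hM.1 (by rw [← comap_map_eq_self hle, e3, comap_top]), fun L hL => ?_⟩
        have := hM.2 (L.comap π) (by rw [← comap_map_eq_self hle]; exact (comap_lt_comap_of_surjective hπ).2 hL)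
        rw [← map_comap_eq_self_of_surjective hπ L, this, map_top_of_surjective _ hπ]
      have h1 : π b ∈ (C1[x]).map π :=
        frattini_le_coatom hM' (H1.frattiniOf_normal_le _ (mem_map.2 ⟨a, ha, e.symm⟩))
      have h3 : b ∈ C1[x] := by rw [← comap_map_eq_self hle]; exact h1
      exact (mem_cent1.1 h3).symm
  obtain ⟨k1, k2⟩ := Cfsg.Agent.S0012.result p hP
  refine ⟨p, hp, fun a ha b hb => key ⁅(⟨π a, mem_map_of_mem _ ha⟩ : N.map π), ⟨π b, mem_map_of_mem _ hb⟩⁆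
    (k1 (commutator_mem_commutator (mem_top _) (mem_top _))) _ ?_ ?_, fun a ha =>
      key _ (k2 ⟨π a, mem_map_of_mem _ ha⟩) _ (pow_mem ha _) (by simp)⟩
  · exact mul_mem (mul_mem (mul_mem ha hb) (inv_mem ha)) (inv_mem hb)
  · simp [commutatorElement_def]

theorem frob {K : Subgroup G} [hK : K.Normal] {p q : ℕ} (hp : p.Prime) (hq : q.Prime) (hpq : p ≠ q) (h0 : K ≠ ⊥)
    (hKp : ∀ k ∈ K, k ^ p = 1) (hy : orderOf y = q) (hg : ∀ g : G, ∃ k ∈ K, ∃ i : ℕ, g = k * y ^ i)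
    (hf : ∀ k ∈ K, k * y = y * k → k = 1) :
    K ⊓ zpowers y = ⊥ ∧ IsFrobeniusComplement (zpowers y) ∧ (K : Set G) = frobeniusKernel (zpowers y) := by
  have hc : Nat.card (zpowers y) = q := by rw [card_zpowers, hy]
  have hd : K ⊓ zpowers y = ⊥ := eq_bot_iff.2 fun k hk => mem_bot.2 (orderOf_eq_one_iff.1
    (Nat.eq_one_of_dvd_coprimes ((Nat.coprime_primes hp hq).2 hpq) (orderOf_dvd_of_pow_eq_one (hKp k hk.1))
      (hc ▸ orderOf_dvd_card hk.2)))
  have hF : IsFrobeniusComplement (zpowers y) := by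
    refine (H2.isFrob_iff _).2 ⟨ne_bot_of_card hq hc, fun e => h0 (by rwa [e, inf_top_eq] at hd), fun x hx hx1 g hg' => ?_⟩
    obtain ⟨k, hk, i, rfl⟩ := hg g
    have hi : y ^ i ∈ zpowers y := pow_mem (mem_zpowers y) i
    have h1 : k⁻¹ * x * k ∈ zpowers y := by
      have := mul_mem (mul_mem hi hg') ((zpowers y).inv_mem hi)
      rwa [show y ^ i * ((k * y ^ i)⁻¹ * x * (k * y ^ i)) * (y ^ i)⁻¹ = k⁻¹ * x * k by group] at this
    have h3 : k⁻¹ * (x * k * x⁻¹) = 1 := eq_one_of_mem_bot hd ⟨K.mul_mem (K.inv_mem hk) (hK.conj_mem _ hk _), by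
      rw [show k⁻¹ * (x * k * x⁻¹) = k⁻¹ * x * k * x⁻¹ by group]; exact (zpowers y).mul_mem h1 ((zpowers y).inv_mem hx)⟩
    have h4 : k ∈ C1[x] := mem_cent1.2 (by
      rw [inv_mul_eq_one, eq_mul_inv_iff_mul_eq] at h3; exact h3)
    rw [cent1_eq_of_prime (hc ▸ hq) hx hx1, cent_zpowers] at h4
    rw [hf k hk (mem_cent1.1 h4), one_mul]; exact hi
  refine ⟨hd, hF, Set.eq_of_subset_of_ncard_le (fun k hk => (H2.mem_frobKernel_iff _ _).2 ?_) ?_⟩
  · by_cases h1 : k = 1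
    · exact Or.inl h1
    refine Or.inr fun g hg' => h1 ?_
    have := eq_one_of_mem_bot hd ⟨by simpa using hK.conj_mem _ hk g⁻¹, hg'⟩
    have e : k = g * (g⁻¹ * k * g) * g⁻¹ := by group
    rw [e, this]; group
  · rw [← Nat.card_coe_set_eq, ← Nat.card_coe_set_eq, H2.card_frobKernel hF]
    have e : K ⊔ zpowers y = ⊤ := eq_top_iff.2 fun g _ => by
      obtain ⟨k, hk, i, rfl⟩ := hg g
      exact mul_mem (mem_sup_left hk) (mem_sup_right (pow_mem (mem_zpowers y) i))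
    have h1 := card_sup_of_inf_bot (H := K) (K := zpowers y) (Or.inr le_normalizer_of_normal) hd
    rw [e, card_top, ← (zpowers y).index_mul_card] at h1
    exact (Nat.eq_of_mul_eq_mul_right (card_pos' _) h1).le

theorem quot [hA : A.Normal] {p q : ℕ} (hp : p.Prime) (hq : q.Prime) (hpq : p ≠ q) (hab : A ≤ C[A])
    (h0 : ¬ A ≤ center G) (hAp : ∀ a ∈ A, a ^ p ∈ center G) (hy : y ∉ center G) (hyq : y ^ q ∈ center G)
    (hg : ∀ g : G, ∃ k ∈ A, ∃ i : ℕ, g = k * y ^ i) (hf : ∀ k ∈ A, k * y = y * k → k ∈ center G) :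
    ∃ (K : Subgroup (G ⧸ center G)), K.Normal ∧ K ≠ ⊥ ∧ IsElementaryAbelian p K ∧ orderOf (y : G ⧸ center G) = q ∧
      (∀ g, ∃ k ∈ K, ∃ i : ℕ, g = k * (y : G ⧸ center G) ^ i) ∧ ∀ k ∈ K, k * (y : G ⧸ center G) = y * k → k = 1 := by
  let π := QuotientGroup.mk' (center G)
  have hπ : Function.Surjective π := QuotientGroup.mk'_surjective _
  have hk : π.ker = center G := QuotientGroup.ker_mk' _
  haveI : Fact q.Prime := ⟨hq⟩
  refine ⟨A.map π, hA.map π hπ, fun e => h0 (hk ▸ (Subgroup.map_eq_bot_iff _).1 e), ⟨comm_iff.2 ?_, ?_⟩,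
    orderOf_eq_prime ((QuotientGroup.eq_one_iff _).2 hyq) fun e => hy ((QuotientGroup.eq_one_iff _).1 e), fun g => ?_, ?_⟩
  · rintro _ ⟨a, ha, rfl⟩
    refine mem_cent.2 ?_
    rintro _ ⟨b, hb, rfl⟩
    rw [← map_mul, ← map_mul, mem_cent.1 (hab ha) b hb]
  · rintro _ ⟨a, ha, rfl⟩
    exact (QuotientGroup.eq_one_iff _).2 (hAp a ha)
  · obtain ⟨g, rfl⟩ := hπ g
    obtain ⟨k, hk, i, rfl⟩ := hg g
    exact ⟨_, mem_map_of_mem _ hk, i, rfl⟩
  · rintro _ ⟨k, hkA, rfl⟩ e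
    refine (QuotientGroup.eq_one_iff _).2 (hf k hkA ?_)
    have hz : y * k * y⁻¹ * k⁻¹ ∈ center G := hk ▸ MonoidHom.mem_ker.2 (by
      have e' : π k * π y = π y * π k := e
      rw [map_mul, map_mul, map_mul, ← e']; simp)
    set z := y * k * y⁻¹ * k⁻¹ with hzd
    have hzc := mem_center_iff.1 hz
    have e1 : y * k * y⁻¹ = z * k := by rw [hzd]; group
    have h1 : z ^ p = 1 := by
      have h2 : y * k ^ p * y⁻¹ = z ^ p * k ^ p := by
        rw [← conj_pow, e1, Commute.mul_pow (hzc k).symm]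
      rw [mem_center_iff.1 (hAp k hkA) y, mul_inv_cancel_right] at h2
      exact right_eq_mul.1 h2
    have h2 : ∀ i : ℕ, y ^ i * k * (y ^ i)⁻¹ = z ^ i * k := fun i => by
      induction i with
      | zero => simp
      | succ i ih =>
        calc y ^ (i + 1) * k * (y ^ (i + 1))⁻¹ = y * (y ^ i * k * (y ^ i)⁻¹) * y⁻¹ := by group
          _ = z ^ i * (y * k * y⁻¹) := by
            rw [ih, ← mul_assoc, mem_center_iff.1 (pow_mem hz i) y]; group
          _ = _ := by rw [e1]; group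
    have h3 : z ^ q = 1 := by
      have := h2 q
      rw [← mem_center_iff.1 hyq k, mul_inv_cancel_right] at this
      exact right_eq_mul.1 this
    have h4 : z = 1 := orderOf_eq_one_iff.1 (Nat.eq_one_of_dvd_coprimes ((Nat.coprime_primes hp hq).2 hpq)
      (orderOf_dvd_of_pow_eq_one h1) (orderOf_dvd_of_pow_eq_one h3))
    rw [h4, one_mul, mul_inv_eq_iff_eq_mul] at e1
    exact e1.symm

theorem elem {p : ℕ} (h1 : ∀ a b : G, ⁅a, b⁆ ∈ center G) (h2 : ∀ a : G, a ^ p ∈ center G) :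
    IsElementaryAbelian p (⊤ : Subgroup (G ⧸ center G)) := by
  refine ⟨comm_iff.2 fun a _ => mem_cent.2 fun b _ => ?_, fun a _ => ?_⟩
  · obtain ⟨a, rfl⟩ := QuotientGroup.mk_surjective a
    obtain ⟨b, rfl⟩ := QuotientGroup.mk_surjective b
    rw [← commutatorElement_eq_one_iff_mul_comm]
    exact (QuotientGroup.eq_one_iff ⁅b, a⁆).2 (h1 b a)
  · obtain ⟨a, rfl⟩ := QuotientGroup.mk_surjective a
    exact (QuotientGroup.eq_one_iff (a ^ p)).2 (h2 a)

theorem mem_center_sub {a : N} : a ∈ center N ↔ (a : G) ∈ C[N] :=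
  mem_center_iff.trans ⟨fun h => mem_cent.2 fun b hb => congrArg Subtype.val (h ⟨b, hb⟩),
    fun h b => Subtype.ext (mem_cent.1 h b b.2)⟩

end H12.CM
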