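import Cfsg.Agent.H16.Misc
import Cfsg.Agent.H1.Solvable
import Cfsg.Agent.H12.CM

/-! Groups in which subgroups of equal order (of some kind) are conjugate: basics. -/

set_option autoImplicit false

namespace H12.BG

open Subgroup Cfsg H16
open H15 hiding card_cj cent_anti cent_bot cent_comm cent_le_cent1 cent_le_norm cent_sup cent_zpowers cj_bot cj_cent cj_cj_inv cj_comm cj_eq_bot cj_eq_iff cj_eq_top cj_inf cj_inj cj_inv_cj cj_le_cj cj_le_iff cj_le_of_mem cj_lt_cj cj_mono cj_norm cj_one cj_sup cj_top comm_le_left comm_le_right comm_of_cyclic comm_of_le comm_sup le_cj_iff mem_cent mem_cent1 mem_cj mem_norm_of_cj_le norm_bot norm_top relIndex_cj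
open scoped commutatorElement

universe u

/-- abelian subgroups of equal order are conjugate -/
def BB (G : Type*) [Group G] : Prop :=
  ∀ A B : Subgroup G, IsMulCommutative ↥A → IsMulCommutative ↥B → Nat.card ↥A = Nat.card ↥B →
    ∃ g : G, B = A :^ g

/-- subgroups of equal order are conjugate -/
def CC (G : Type*) [Group G] : Prop :=
  ∀ A B : Subgroup G, Nat.card ↥A = Nat.card ↥B → ∃ g : G, B = A :^ g

/-- `p`-subgroups of equal order are conjugate -/
def DD (G : Type*) [Group G] : Prop :=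
  ∀ p : ℕ, p.Prime → ∀ A B : Subgroup G, Pg[p] A → Nat.card ↥A = Nat.card ↥B → ∃ g : G, B = A :^ g

/-- abelian `p`-subgroups of equal order are conjugate -/
def AP (p : ℕ) (G : Type*) [Group G] : Prop :=
  ∀ A B : Subgroup G, Pg[p] A → IsMulCommutative ↥A → IsMulCommutative ↥B →
    Nat.card ↥A = Nat.card ↥B → ∃ g : G, B = A :^ g

/-- `p`-subgroups are cyclic for `p ≠ r` -/
def CY (r : ℕ) (G : Type*) [Group G] : Prop :=
  ∀ p : ℕ, p.Prime → p ≠ r → ∀ S : Subgroup G, Pg[p] S → IsCyclic S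

variable {G : Type*} [Group G] {G' : Type*} [Group G'] {A B H K N F M S : Subgroup G}
  {p : ℕ} {π : Set ℕ}

theorem BB.ap (h : BB G) (p : ℕ) : AP p G := fun A B _ h1 h2 h3 => h A B h1 h2 h3
theorem DD.ap (h : DD G) (hp : p.Prime) : AP p G := fun A B h0 _ _ h3 => h p hp A B h0 h3
theorem CC.bb (h : CC G) : BB G := fun A B _ _ h3 => h A B h3

theorem map_cj (f : G →* G') (A : Subgroup G) (g : G) :
    (A :^ g).map f = (A.map f) :^ (f g) := by
  rw [map_map, map_map]
  congr 1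
  ext x
  simp

theorem cj_normal [hN : N.Normal] (g : G) : N :^ g = N :=
  cj_norm (by rw [normalizer_eq_top]; trivial)

theorem le_norm_normal [hN : N.Normal] (A : Subgroup G) : A ≤ N[N] := by
  rw [normalizer_eq_top]; exact le_top

theorem pull (f : G →* G') (hA : f.ker ≤ A) (hB : f.ker ≤ B) {g : G}
    (h : B.map f = (A.map f) :^ (f g)) : B = A :^ g := by
  rw [← map_cj] at h
  have h2 : f.ker ≤ A :^ g := by
    rw [← cj_normal (N := f.ker) g]; exact cj_mono g hA
  rw [← comap_map_eq_self hB, h, comap_map_eq_self h2]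

theorem card_map_eq [Finite G] (f : G →* G') (hA : f.ker ≤ A) (hB : f.ker ≤ B)
    (h : Nat.card A = Nat.card B) : Nat.card (A.map f) = Nat.card (B.map f) := by
  have h1 := H1.card_map_mul_card_inf_ker A f
  have h2 := H1.card_map_mul_card_inf_ker B f
  rw [inf_eq_right.2 hA] at h1
  rw [inf_eq_right.2 hB] at h2
  exact Nat.eq_of_mul_eq_mul_right (card_pos' f.ker) (by rw [h1, h2, h])

theorem CC.pull [Finite G] {f : G →* G'} (hf : Function.Surjective f) (h : CC G')
    (hA : f.ker ≤ A) (hB : f.ker ≤ B) (hc : Nat.card A = Nat.card B) : ∃ g : G, B = A :^ g := by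
  obtain ⟨g', hg⟩ := h _ _ (card_map_eq f hA hB hc)
  obtain ⟨g, rfl⟩ := hf g'
  exact ⟨g, BG.pull f hA hB hg⟩

theorem CC.pullq [Finite G] [N.Normal] (h : CC (G ⧸ N)) (hA : N ≤ A) (hB : N ≤ B)
    (hc : Nat.card A = Nat.card B) : ∃ g : G, B = A :^ g :=
  CC.pull (f := QuotientGroup.mk' N) (QuotientGroup.mk'_surjective N) h
    (by rwa [QuotientGroup.ker_mk']) (by rwa [QuotientGroup.ker_mk']) hc

theorem CC.pulls [Finite G] [N.Normal] (h : CC (M ⧸ N.subgroupOf M)) (hA : N ≤ A) (hB : N ≤ B)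
    (hAM : A ≤ M) (hBM : B ≤ M) (hc : Nat.card A = Nat.card B) : ∃ g ∈ M, B = A :^ g := by
  obtain ⟨g, hg⟩ := CC.pullq (A := A.subgroupOf M) (B := B.subgroupOf M) h
    (subgroupOf_mono M hA) (subgroupOf_mono M hB)
    (by rw [H1.card_subgroupOf_of_le hAM, H1.card_subgroupOf_of_le hBM, hc])
  refine ⟨g, g.2, ?_⟩
  have := congrArg (Subgroup.map M.subtype) hg
  rwa [map_cj, map_subgroupOf_eq_of_le hAM, map_subgroupOf_eq_of_le hBM] at this

theorem CC.push [Finite G] {f : G →* G'} (hf : Function.Surjective f) (h : CC G) : CC G' := by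
  intro A B hc
  obtain ⟨g, hg⟩ := h (A.comap f) (B.comap f)
    (by rw [H1.card_comap_of_surjective A hf, H1.card_comap_of_surjective B hf, hc])
  refine ⟨f g, ?_⟩
  have := congrArg (Subgroup.map f) hg
  rwa [map_cj, map_comap_eq_self_of_surjective hf, map_comap_eq_self_of_surjective hf] at this

theorem hl_card_of_card {P Q : Subgroup G} (hP : Hl[π] P A) (hQ : Hl[π] Q B)
    (h : Nat.card A = Nat.card B) : Nat.card P = Nat.card Q := by
  apply Nat.dvd_antisymm
  · refine H1.isPiNat_dvd_of_dvd_mul (hl_pi hP) (hl_idx hQ) ?_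
    rw [card_mul_relIndex hQ.1, ← h]; exact card_dvd hP.1
  · refine H1.isPiNat_dvd_of_dvd_mul (hl_pi hQ) (hl_idx hP) ?_
    rw [card_mul_relIndex hP.1, h]; exact card_dvd hQ.1

theorem lift_sy [Finite G] [Finite G'] {f : G →* G'} (hf : Function.Surjective f) {S : Subgroup G'}
    (hS : Pg[p] S) {P : Subgroup G} (hP : Sy[p] P (S.comap f)) : P.map f = S := by
  have := H1.IsPiHallOf.map hP f
  rw [map_comap_eq_self_of_surjective hf] at this
  exact hl_eq_self this hS

theorem lift_pg [Finite G] [Finite G'] (hp : p.Prime) {f : G →* G'} (hf : Function.Surjective f)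
    {S : Subgroup G'} (hS : Pg[p] S) : ∃ P : Subgroup G, Pg[p] P ∧ P.map f = S := by
  haveI := Fact.mk hp
  obtain ⟨P, hP⟩ := sy_exists p (S.comap f)
  exact ⟨P, hl_pi hP, lift_sy hf hS hP⟩

theorem DD.push [Finite G] [Finite G'] {f : G →* G'} (hf : Function.Surjective f) (h : DD G) :
    DD G' := by
  intro p hp A B hA hc
  haveI := Fact.mk hp
  obtain ⟨P, hP⟩ := sy_exists p (A.comap f)
  obtain ⟨Q, hQ⟩ := sy_exists p (B.comap f)
  obtain ⟨g, hg⟩ := h p hp P Q (hl_pi hP) (hl_card_of_card hP hQ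
    (by rw [H1.card_comap_of_surjective A hf, H1.card_comap_of_surjective B hf, hc]))
  refine ⟨f g, ?_⟩
  rw [← lift_sy hf hA hP, ← lift_sy hf (hA.of_card_eq hc.symm) hQ, hg, map_cj]

theorem cyc_map (f : G →* G') (h : IsCyclic A) : IsCyclic (A.map f) := by
  obtain ⟨x, rfl⟩ := exists_gen h
  rw [MonoidHom.map_zpowers]; exact cyclic_zpowers _

theorem CY.push [Finite G] [Finite G'] {f : G →* G'} (hf : Function.Surjective f) {r : ℕ}
    (h : CY r G) : CY r G' := by
  intro p hp hr S hS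
  obtain ⟨P, hP, rfl⟩ := lift_pg hp hf hS
  exact cyc_map f (h p hp hr P hP)

theorem eq_of_cyc [Finite G] {Z : Subgroup G} (hZ : IsCyclic Z) (hA : A ≤ Z) (hB : B ≤ Z)
    (h : Nat.card A = Nat.card B) : A = B := H2.eq_of_card_eq_of_isCyclic hZ hA hB h

theorem dd_of_z [Finite G] (h : ∀ p : ℕ, p.Prime → ∀ S : Subgroup G, Pg[p] S → IsCyclic S) :
    DD G := by
  intro p hp A B hA hc
  haveI := Fact.mk hp
  obtain ⟨P, hP, hBP⟩ := sy_exists_ge (M := ⊤) (U := B) le_top (hA.of_card_eq hc.symm)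
  obtain ⟨g, -, hg⟩ := sy_conj_le hP (U := A) le_top hA
  exact ⟨g, eq_of_cyc (h p hp P (hl_pi hP)) hBP hg (by rw [card_cj, hc])⟩

theorem AP.mem [Finite G] (h : AP p G) [hN : N.Normal] {E : Subgroup G} (hE : E ≤ N)
    (hEp : Pg[p] E) (hc : IsMulCommutative E) {x : G} (ho : Nat.card E = orderOf x) : x ∈ N := by
  obtain ⟨g, hg⟩ := h E (zpowers x) hEp hc inferInstance (by rw [ho, Nat.card_zpowers])
  have : x ∈ E :^ g := hg ▸ mem_zpowers x
  have h2 := cj_mono g hE this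
  rwa [cj_normal] at h2

theorem AP.mem_prime [Finite G] (hp : p.Prime) (h : AP p G) [hN : N.Normal]
    (hd : p ∣ Nat.card N) {x : G} (ho : orderOf x = p) : x ∈ N := by
  obtain ⟨E, hE, hc⟩ := exists_card_prime hp hd
  exact h.mem hE (pg_of_card hp hc) (comm_of_cyclic (cyclic_of_prime (by rwa [hc]))) (by rw [hc, ho])

/-- a normal elementary abelian subgroup of order `> p` contains every `p`-subgroup -/
theorem AP.le [Finite G] (hp : p.Prime) (h : AP p G) [hN : N.Normal] (hE : EA[p] N)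
    (h0 : N ≠ ⊥) (h1 : Nat.card N ≠ p) (hS : Pg[p] S) : S ≤ N := by
  haveI := Fact.mk hp
  by_contra hle
  obtain ⟨q, hq, a, ha, ha1, ha2, k, hk⟩ := CM.exists_pp hle
  have hNp := ea_pg hE
  obtain ⟨n, hn⟩ := hNp.exists_card_eq
  have hqp : q = p := by
    by_contra hne
    apply ha1
    refine CM.mem_of_pow ha2 ?_
    obtain ⟨j, hj⟩ := (H1.isPiNat_singleton_iff hp (orderOf_pos a).ne').1 (hS.orderOf ha)
    rw [hj]
    exact ((Nat.coprime_primes hp hq).2 (Ne.symm hne)).pow_left _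
  subst hqp
  have hn2 : 2 ≤ n := by
    rcases n with _ | _ | n
    · exact absurd (eq_bot_of_card_eq N (by simpa using hn)) h0
    · exact absurd (by simpa using hn) h1
    · omega
  have h3 : a ^ q ^ 2 = 1 := by rw [sq, pow_mul]; exact hE.2 _ ha2
  obtain ⟨j, hj, e⟩ := (Nat.dvd_prime_pow hp).1 (orderOf_dvd_of_pow_eq_one h3)
  obtain ⟨E, hE1, hE2⟩ := exists_pg_card (k := j) hNp
    (by rw [hn]; exact Nat.pow_le_pow_right hp.pos (hj.trans hn2))
  exact ha1 (h.mem hE1 (hNp.of_le hE1) (comm_of_le hE.1 hE1) (by rw [hE2, e]))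

/-- the final step: two subgroups with the same product and intersection with a normal Hall
subgroup -/
theorem finish [Finite G] [hF : F.Normal] (hs : Group.IsSolvable ↥(F ⊔ H)) (hL : F ⊔ K = F ⊔ H)
    (hh : Hl[π] F (F ⊔ H)) (hU : K ⊓ F = H ⊓ F) (hn : F ≤ N[(H ⊓ F : Subgroup G)]) :
    ∃ g : G, K = H :^ g := by
  have aux : ∀ X : Subgroup G, F ⊔ X = F ⊔ H → ∃ X0, Hl[πᶜ] X0 (F ⊔ H) ∧ X = (X ⊓ F) ⊔ X0 := by
    intro X hX
    have hle : X ≤ F ⊔ H := hX ▸ le_sup_right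
    obtain ⟨X0, h0⟩ := hl_exists πᶜ (sol_of_le hs hle)
    refine ⟨X0, hl_of_idx h0 hle ?_, (hl_sup_compl (hl_inf_normal' hh hle (le_norm_normal _)) h0).symm⟩
    rw [← hX, compl_compl, relIndex_sup_r (Or.inl (le_norm_normal _))]
    exact (hl_pi hh).relIndex X
  obtain ⟨H0, h1, h2⟩ := aux H rfl
  obtain ⟨K0, h3, h4⟩ := aux K hL
  obtain ⟨g, hg, e⟩ := hl_conj hs h1 h3
  have hgU : g ∈ N[(H ⊓ F : Subgroup G)] :=
    (sup_le hn (norm_inf (le_norm H) (le_norm_normal H))) hg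
  refine ⟨g, ?_⟩
  rw [h4, hU, ← e]
  conv_rhs => rw [h2]
  rw [cj_sup, cj_norm hgU]

theorem card_sup_eq [Finite G] [N.Normal] (h : Nat.card H = Nat.card K)
    (h' : Nat.card ↥(H ⊓ N) = Nat.card ↥(K ⊓ N)) : Nat.card ↥(N ⊔ H) = Nat.card ↥(N ⊔ K) := by
  have h1 := card_sup_mul_inf (H := N) (K := H) (Or.inr (le_norm_normal _))
  have h2 := card_sup_mul_inf (H := N) (K := K) (Or.inr (le_norm_normal _))
  rw [inf_comm] at h1 h2
  refine Nat.eq_of_mul_eq_mul_right (card_pos' (H ⊓ N)) ?_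
  rw [h1, h', h2, h]

theorem trans_cj {g : G} (h : ∃ x : G, K = (H :^ g) :^ x) : ∃ x : G, K = H :^ x := by
  obtain ⟨x, hx⟩ := h
  exact ⟨x * g, by rw [hx, cj_cj]⟩

/-- reduction when the intersection with a normal subgroup is trivial or everything -/
theorem easy [Finite G] [Group.IsSolvable G] [N.Normal] (hp : p.Prime) (hNp : Pg[p] N)
    (hall : ∀ x : G, orderOf x = p → x ∈ N)
    (hC : CC (G ⧸ N)) (hc : Nat.card H = Nat.card K)
    (h : H ⊓ N = ⊥ ∨ (N ≤ H ∧ N ≤ K)) : ∃ g : G, K = H :^ g := by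
  rcases h with h | h
  · have hH : ¬ p ∣ Nat.card H := by
      intro hd
      obtain ⟨x, hx, ho⟩ := exists_orderOf hp hd
      have := eq_one_of_mem_bot h (mem_inf.2 ⟨hx, hall x ho⟩)
      rw [this, orderOf_one] at ho
      exact hp.one_lt.ne ho
    have hH' : Pg'[p] H := H15.isPi_compl_of_not_dvd hH
    have hK' : Pg'[p] K := hH'.of_card_eq hc.symm
    have hK : K ⊓ N = ⊥ := hK'.inf_eq_bot' hNp
    obtain ⟨g, hg⟩ := CC.pullq hC (A := N ⊔ H) (B := N ⊔ K) le_sup_left le_sup_left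
      (card_sup_eq hc (by rw [h, hK]))
    rw [cj_sup, cj_normal] at hg
    have h2 : H :^ g ⊓ N = ⊥ := (hH'.cj g).inf_eq_bot' hNp
    refine trans_cj (g := g) (finish (π := {p}) (F := N) inferInstance hg
      (hl_sup_left (le_norm_normal _) hNp (hH'.cj g)) (by rw [h2, hK]) ?_)
    rw [h2, norm_bot]; exact le_top
  · exact CC.pullq hC h.1 h.2 hc

/-- reduction when the normalizer of the intersection is good modulo the abelian Hall subgroup -/
theorem hard [Finite G] [Group.IsSolvable G] [F.Normal] (hh : Hl[π] F ⊤)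
    (hab : IsMulCommutative F) (hc : Nat.card H = Nat.card K) (hU : K ⊓ F = H ⊓ F)
    (hC : CC (N[(H ⊓ F : Subgroup G)] ⧸ F.subgroupOf N[(H ⊓ F : Subgroup G)])) :
    ∃ g : G, K = H :^ g := by
  have hF : F ≤ N[(H ⊓ F : Subgroup G)] := comm_norm hab le_rfl inf_le_right
  have hH : H ≤ N[(H ⊓ F : Subgroup G)] := norm_inf (le_norm H) (le_norm_normal H)
  have hK : K ≤ N[(H ⊓ F : Subgroup G)] := hU ▸ norm_inf (le_norm K) (le_norm_normal K)
  obtain ⟨g, hgM, hg⟩ := CC.pulls hC (A := F ⊔ H) (B := F ⊔ K) le_sup_left le_sup_left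
    (sup_le hF hH) (sup_le hF hK) (card_sup_eq hc (by rw [hU]))
  rw [cj_sup, cj_normal] at hg
  have h2 : H :^ g ⊓ F = H ⊓ F := by
    conv_lhs => rw [← cj_normal (N := F) g, ← cj_inf]
    exact cj_norm hgM
  refine trans_cj (g := g) (finish (π := π) (F := F) inferInstance hg
    (hl_of_le hh le_sup_left le_top) (by rw [h2, hU]) ?_)
  rw [h2]; exact hF

theorem inf_eq_sy_inf [Finite G] [Fact p.Prime] [N.Normal] (hNp : Pg[p] N) {P : Subgroup G}
    (hP : Sy[p] P H) : H ⊓ N = P ⊓ N := by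
  refine le_antisymm (le_inf ?_ inf_le_right) (inf_le_inf_right _ hP.1)
  exact le_hl_of_norm hP inf_le_left (hP.1.trans (norm_inf (le_norm H) (le_norm_normal H)))
    hNp.inf_right

theorem not_cyc_of_mid [Finite G] (hp : p.Prime) (hE : EA[p] N) (h1 : H ⊓ N ≠ ⊥) (h2 : ¬ N ≤ H) :
    Nat.card N ≠ p := by
  intro hc
  rcases inf_bot_or_le_of_prime (K := N) (by rwa [hc]) H with h | h
  · exact h1 (by rwa [inf_comm])
  · exact h2 h

theorem card_of_cyc [Finite G] (hp : p.Prime) (hE : EA[p] N) (h0 : N ≠ ⊥) (hc : IsCyclic N) :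
    Nat.card N = p := card_ea_of_prk1 hp hE h0 le_rfl (prk1_of_cyclic hp hc)

theorem z_quot [Finite G] [F.Normal]
    (h : ∀ q : ℕ, q.Prime → ∀ S : Subgroup G, S ≤ M → Pg[q] S → S ≤ F ∨ IsCyclic S) :
    ∀ q : ℕ, q.Prime → ∀ S : Subgroup (M ⧸ F.subgroupOf M), Pg[q] S → IsCyclic S := by
  intro q hq S hS
  obtain ⟨P, hP, rfl⟩ := lift_pg hq (QuotientGroup.mk'_surjective (F.subgroupOf M)) hS
  rcases h q hq (P.map M.subtype) (map_subtype_le _) (hP.map _) with h1 | h1
  · have : P.map (QuotientGroup.mk' (F.subgroupOf M)) = ⊥ := by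
      rw [Subgroup.map_eq_bot_iff, QuotientGroup.ker_mk']
      exact fun x hx => h1 (mem_map_of_mem _ hx)
    rw [this]; exact cyclic_bot
  · refine cyc_map _ ?_
    exact isCyclic_of_surjective (P.equivMapOfInjective M.subtype M.subtype_injective).symm
      (MulEquiv.surjective _)

theorem card_quot_lt [Finite G] [F.Normal] (h0 : F ≠ ⊥) (hFM : F ≤ M) :
    Nat.card (M ⧸ F.subgroupOf M) < Nat.card G := by
  refine lt_of_lt_of_le (H1.card_quotient_lt ?_) (Subgroup.card_le_card_group M)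
  intro h
  apply h0
  rw [← map_subgroupOf_eq_of_le hFM, h, Subgroup.map_bot]

theorem main_d (n : ℕ) : ∀ (G : Type u) [Group G] [Finite G] [Group.IsSolvable G],
    Nat.card G = n → DD G → ∀ r, CY r G → CC G := by
  induction n using Nat.strong_induction_on with
  | _ n ih =>
  intro G _ _ _ hn hD r hcy H K hc
  by_cases htop : (⊤ : Subgroup G) = ⊥
  · exact ⟨1, by rw [cj_one, eq_bot_of_le htop (le_top : K ≤ ⊤), eq_bot_of_le htop (le_top : H ≤ ⊤)]⟩
  obtain ⟨N, p, hN, h0, -, hp, hab, hpow, -, -⟩ :=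
    H1.exists_minimal_normal_elementary (⊤ : Subgroup G) inferInstance htop
  haveI := Fact.mk hp
  have hE : EA[p] N := ⟨hab, hpow⟩
  have hNp := ea_pg hE
  have hq : CC (G ⧸ N) := ih _ (hn ▸ H1.card_quotient_lt h0) _ rfl
    (hD.push (QuotientGroup.mk'_surjective N)) r (hcy.push (QuotientGroup.mk'_surjective N))
  have hall : ∀ x : G, orderOf x = p → x ∈ N := fun x hx =>
    (hD.ap hp).mem_prime hp (hNp.dvd_of_ne_bot h0) hx
  obtain ⟨P, hP⟩ := sy_exists p H
  obtain ⟨Q, hQ⟩ := sy_exists p K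
  obtain ⟨g, hg⟩ := hD p hp P Q (hl_pi hP) (hl_card_of_card hP hQ hc)
  have hU : K ⊓ N = H :^ g ⊓ N := by
    rw [inf_eq_sy_inf hNp hQ, inf_eq_sy_inf hNp (hl_cj hP g), hg]
  refine trans_cj (g := g) ?_
  have hc' : Nat.card (H :^ g) = Nat.card K := by rw [card_cj, hc]
  generalize H :^ g = H' at hU hc'
  by_cases h1 : H' ⊓ N = ⊥
  · exact easy hp hNp hall hq hc' (Or.inl h1)
  by_cases h2 : N ≤ H'
  · refine easy hp hNp hall hq hc' (Or.inr ⟨h2, ?_⟩)
    rw [inf_eq_right.2 h2] at hU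
    exact inf_eq_right.1 hU
  have h3 := not_cyc_of_mid hp hE h1 h2
  have hle : ∀ S : Subgroup G, Pg[p] S → S ≤ N := fun S hS => (hD.ap hp).le hp hE h0 h3 hS
  have hpr : p = r := by
    by_contra hne
    exact h3 (card_of_cyc hp hE h0 (hcy p hp hne N hNp))
  have hz := z_quot (F := N) (M := N[(H' ⊓ N : Subgroup G)]) (by
    intro q hq S _ hS
    by_cases hqp : q = p
    · subst hqp; exact Or.inl (hle S hS)
    · exact Or.inr (hcy q hq (hpr ▸ hqp) S hS))
  refine hard (π := {p}) (sy_of_max le_top hNp fun Q _ hQ hNQ => le_antisymm (hle Q hQ) hNQ)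
    hab hc' hU ?_
  exact ih _ (hn ▸ card_quot_lt h0 (comm_norm hab le_rfl inf_le_right)) _ rfl (dd_of_z hz) r
    (fun q hq _ S hS => hz q hq S hS)

theorem cc_of_z {G : Type u} [Group G] [Finite G] [Group.IsSolvable G]
    (h : ∀ p : ℕ, p.Prime → ∀ S : Subgroup G, Pg[p] S → IsCyclic S) : CC G :=
  main_d _ G rfl (dd_of_z h) 0 (fun q hq _ S hS => h q hq S hS)

end H12.BG
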