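import Cfsg.Agent.H12.BG1
import Cfsg.Agent.S0016

/-! Groups in which abelian subgroups of equal order are conjugate: quotients. -/

set_option autoImplicit false

namespace H12.BG

open Subgroup Cfsg H16
open H15 hiding card_cj cent_anti cent_bot cent_comm cent_le_cent1 cent_le_norm cent_sup cent_zpowers cj_bot cj_cent cj_cj_inv cj_comm cj_eq_bot cj_eq_iff cj_eq_top cj_inf cj_inj cj_inv_cj cj_le_cj cj_le_iff cj_le_of_mem cj_lt_cj cj_mono cj_norm cj_one cj_sup cj_top comm_le_left comm_le_right comm_of_cyclic comm_of_le comm_sup le_cj_iff mem_cent mem_cent1 mem_cj mem_norm_of_cj_le norm_bot norm_top relIndex_cj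
open scoped commutatorElement

universe u

variable {G : Type*} [Group G] {G' : Type*} [Group G'] {A B H K N F M S P Q : Subgroup G}
  {p : ℕ} {π : Set ℕ}

theorem BB.push_of [Finite G] {f : G →* G'} (hf : Function.Surjective f)
    (h : ∀ A B : Subgroup G, f.ker ≤ A → f.ker ≤ B → ⁅A, A⁆ ≤ f.ker → ⁅B, B⁆ ≤ f.ker →
      Nat.card A = Nat.card B → ∃ g : G, B = A :^ g) : BB G' := by
  intro A B hA hB hc
  have aux : ∀ X : Subgroup G', IsMulCommutative X → ⁅X.comap f, X.comap f⁆ ≤ f.ker := by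
    intro X hX
    rw [← Subgroup.map_eq_bot_iff, Subgroup.map_commutator, map_comap_eq_self_of_surjective hf]
    exact der_eq_bot.2 hX
  obtain ⟨g, hg⟩ := h (A.comap f) (B.comap f) (ker_le_comap f A) (ker_le_comap f B) (aux A hA)
    (aux B hB) (by rw [H1.card_comap_of_surjective A hf, H1.card_comap_of_surjective B hf, hc])
  refine ⟨f g, ?_⟩
  have := congrArg (Subgroup.map f) hg
  rwa [map_cj, map_comap_eq_self_of_surjective hf, map_comap_eq_self_of_surjective hf] at this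

theorem cop_cent [Finite G] [N.Normal] (hp : p.Prime) (hN : Nat.card N = p) (hNP : N < P)
    (hP : Pg[p] P) (hA : Pg'[p] A) (hc : ⁅P, A⁆ ≤ N) (h : IsCyclic P ∨ p = 2) : A ≤ C[P] := by
  refine cop_cent_of_comm_cent (norm_of_comm_le (hc.trans hNP.le)) (hA.coprime' hP) (hc.trans ?_)
  rcases h with h | rfl
  · obtain ⟨a, rfl⟩ := exists_gen h
    have h1 : a ^ p ≠ 1 := by
      intro h1
      have h2 := card_lt hNP
      rw [hN, Nat.card_zpowers] at h2
      exact absurd (Nat.le_of_dvd hp.pos (orderOf_dvd_of_pow_eq_one h1)) (by omega)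
    have hle : zpowers (a ^ p) ≤ zpowers a := zpowers_le.2 (pow_mem (mem_zpowers a) p)
    obtain ⟨X, hX, hXc⟩ := exists_card_prime hp ((hP.of_le hle).dvd_of_ne_bot (zpowers_ne_bot' h1))
    rw [eq_of_cyclic_prime hp h hNP.le (hX.trans hle) hN hXc]
    refine hX.trans (zpowers_le.2 (mem_cent.2 fun x hx => ?_))
    have hn : ⁅x, a⁆ ∈ N := by
      rw [← commutatorElement_inv]
      exact N.inv_mem (hc (commutator_mem_commutator (mem_zpowers a) hx))
    have hn1 : ⁅x, a⁆ ^ p = 1 := by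
      rw [← hN]; exact orderOf_dvd_iff_pow_eq_one.1 (orderOf_dvd_card hn)
    have hcm : Commute ⁅x, a⁆ a :=
      (mem_cent.1 (comm_iff.1 (comm_of_cyclic h) (mem_zpowers a)) _ (hNP.le hn))
    have e : x * a * x⁻¹ = ⁅x, a⁆ * a := by rw [commutatorElement_def]; group
    have e2 : x * a ^ p * x⁻¹ = a ^ p := by
      rw [← conj_pow, e, hcm.mul_pow, hn1, one_mul]
    rw [← mul_inv_eq_iff_eq_mul, e2]
  · intro x hx
    refine mem_cent.2 fun g _ => ?_
    by_cases h1 : x = 1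
    · simp [h1]
    have h2 : g * x * g⁻¹ ∈ N := (inferInstance : N.Normal).conj_mem x hx g
    have h3 : g * x * g⁻¹ ≠ 1 := fun h => h1 (H16.conj_eq_one_iff.1 h)
    obtain ⟨y, -, hy⟩ := (Nat.card_eq_two_iff' (1 : N)).1 hN
    have e1 := hy ⟨x, hx⟩ (fun h => h1 (congrArg Subtype.val h))
    have e2 := hy ⟨_, h2⟩ (fun h => h3 (congrArg Subtype.val h))
    have : g * x * g⁻¹ = x := congrArg Subtype.val (e2.trans e1.symm)
    rw [← mul_inv_eq_iff_eq_mul, this]

theorem BB.step [Finite G] (hB : BB G) [N.Normal] (hp : p.Prime) (hE : EA[p] N) (h0 : N ≠ ⊥)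
    (hyp : Nat.card N = p → ∀ S : Subgroup G, Pg[p] S → IsCyclic S ∨ (p = 2 ∧ Sy[p] S ⊤)) :
    BB (G ⧸ N) := by
  haveI := Fact.mk hp
  have hNp := ea_pg hE
  refine BB.push_of (QuotientGroup.mk'_surjective N) ?_
  rw [QuotientGroup.ker_mk']
  have aux : ∀ X : Subgroup G, N ≤ X → ⁅X, X⁆ ≤ N → ∃ P X0 : Subgroup G, Sy[p] P X ∧
      Hl[{p}ᶜ] X0 X ∧ N ≤ P ∧ IsMulCommutative X0 ∧ P ⊔ X0 = X ∧ ⁅P, X0⁆ ≤ N := by
    intro X h1 h2
    have hs : Group.IsSolvable X := by
      have h3 : Group.IsSolvable (X.map (QuotientGroup.mk' N)) := by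
        refine sol_of_comm (der_eq_bot.1 ?_)
        rw [← Subgroup.map_commutator, Subgroup.map_eq_bot_iff, QuotientGroup.ker_mk']
        exact h2
      exact sol_of_le (H1.isSolvable_comap h3 _ (by
        rw [QuotientGroup.ker_mk']; exact sol_of_comm hE.1)) (le_comap_map _ _)
    obtain ⟨P, hP⟩ := sy_exists p X
    obtain ⟨X0, hX⟩ := hl_exists {p}ᶜ hs
    refine ⟨P, X0, hP, hX, le_hl_of_norm hP h1 (le_norm_normal _) hNp, der_eq_bot.1 ?_,
      hl_sup_compl hP hX, (comm_le_der hP.1 hX.1).trans h2⟩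
    exact eq_bot_of_le ((hl_pi hX).inf_eq_bot' hNp)
      (le_inf (der_le X0) ((der_mono hX.1).trans h2))
  intro A B hA hB' hA' hB'' hc
  obtain ⟨P, A0, a1, a2, a3, a4, a5, a6⟩ := aux A hA hA'
  obtain ⟨Q, B0, b1, b2, b3, b4, b5, b6⟩ := aux B hB' hB''
  have hPQ := hl_card_of_card a1 b1 hc
  obtain ⟨g, hg⟩ := hB A0 B0 a4 b4 (hl_card_of_card a2 b2 hc)
  rcases a3.eq_or_lt with h | h
  · subst h
    have := eq_of_le_of_card b3 hPQ.ge
    subst this
    exact ⟨g, by rw [← a5, ← b5, cj_sup, cj_normal, hg]⟩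
  have hN : Nat.card N = p := by
    by_contra hne
    exact h.not_ge ((hB.ap p).le hp hE h0 hne (hl_pi a1))
  have h' : N < Q := lt_of_le_of_ne b3 (by
    rintro rfl
    exact absurd (card_lt h) (by omega))
  have c1 := hyp hN P (hl_pi a1)
  have c2 := hyp hN Q (hl_pi b1)
  have d1 : A0 ≤ C[P] := cop_cent hp hN h (hl_pi a1) (hl_pi a2) a6 (c1.imp id (·.1))
  have d2 : B0 ≤ C[Q] := cop_cent hp hN h' (hl_pi b1) (hl_pi b2) b6 (c2.imp id (·.1))
  by_cases hs : Sy[p] P ⊤
  · have hs' : Sy[p] Q ⊤ := hl_of_card hs le_top hPQ.symm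
    have e1 : P :^ g ≤ C[B0] := by rw [hg]; exact cent_cj_le (cent_symm d1) g
    obtain ⟨c, hc, e⟩ := sy_conj (hl_of_le (hl_cj_top hs g) e1 le_top)
      (hl_of_le hs' (cent_symm d2) le_top)
    exact ⟨c * g, by rw [← cj_cj, ← a5, ← b5, cj_sup, ← hg, cj_sup, e, cj_cent hc]⟩
  · have hs' : ¬ Sy[p] Q ⊤ := fun h => hs (hl_of_card h le_top hPQ)
    refine hB A B ?_ ?_ hc
    · rw [← a5]
      exact comm_sup (comm_of_cyclic (c1.resolve_right fun h => hs h.2)) a4 (cent_symm d1)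
    · rw [← b5]
      exact comm_sup (comm_of_cyclic (c2.resolve_right fun h => hs' h.2)) b4 (cent_symm d2)

theorem AP.prk1 [Finite G] (hp : p.Prime) (h : AP p G) [N.Normal] (hN : Nat.card N = p)
    (S : Subgroup G) : PRankLE p 1 S := by
  refine prk_iff.2 fun A _ hA => ?_
  rw [pow_one, ← hN]
  refine card_le fun x hx => ?_
  by_cases h1 : x = 1
  · rw [h1]; exact N.one_mem
  · exact h.mem_prime hp (by rw [hN]) (orderOf_of_pow hp (hA.2 x hx) h1)

theorem BB.of_ker_bot [Finite G] {f : G →* G'} (hf : Function.Surjective f) (hB : BB G)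
    (h : f.ker = ⊥) : BB G' := by
  refine BB.push_of hf fun A B _ _ h1 h2 hc => hB A B ?_ ?_ hc
  · exact der_eq_bot.1 (eq_bot_of_le h h1)
  · exact der_eq_bot.1 (eq_bot_of_le h h2)

theorem lift_surj [N.Normal] {f : G →* G'} (hf : Function.Surjective f) (h : N ≤ f.ker) :
    Function.Surjective (QuotientGroup.lift N f h) := by
  intro y
  obtain ⟨x, rfl⟩ := hf y
  exact ⟨x, rfl⟩

theorem push_odd (n : ℕ) : ∀ (G : Type u) [Group G] [Finite G], Nat.card G = n → BB G →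
    ∀ f : G →* G', Function.Surjective f → Group.IsSolvable f.ker → ¬ 2 ∣ Nat.card f.ker →
    BB G' := by
  induction n using Nat.strong_induction_on with
  | _ n ih =>
  intro G _ _ hn hB f hf hs ho
  by_cases hk : f.ker = ⊥
  · exact hB.of_ker_bot hf hk
  obtain ⟨N, p, hN, h0, hle, hp, hab, hpow, -, -⟩ :=
    H1.exists_minimal_normal_elementary f.ker hs hk
  haveI := Fact.mk hp
  have hE : EA[p] N := ⟨hab, hpow⟩
  have hp2 : p ≠ 2 := by
    rintro rfl
    exact ho (((ea_pg hE).dvd_of_ne_bot h0).trans (card_dvd hle))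
  have hq := hB.step hp hE h0 fun hc S hS =>
    Or.inl (cyclic_of_prk1 hp2 hS ((hB.ap p).prk1 hp hc S))
  refine ih _ (hn ▸ H1.card_quotient_lt h0) _ rfl hq (QuotientGroup.lift N f hle)
    (lift_surj hf hle) ?_ ?_
  · rw [QuotientGroup.ker_lift]; exact H1.isSolvable_map hs _
  · rw [QuotientGroup.ker_lift]
    exact fun h => ho (h.trans (card_map_dvd _ _))

/-- what is used of a generalized quaternion group -/
structure QF (Q : Subgroup G) : Prop where
  gen : ∀ R : Subgroup G, (∀ x ∈ Q, orderOf x = 4 → x ∈ R) → Q ≤ R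
  ex : ∃ u ∈ Q, ∃ b ∈ Q, orderOf u = 4 ∧ orderOf b = 4 ∧ (∀ y ∈ zpowers u, orderOf (y⁻¹ * b) = 4) ∧
    (∀ w ∈ Q, w ^ 2 ≠ b) ∧ (Nat.card Q = 8 ∨ ∃ y ∈ Q, y ^ 2 = u)
  ge : 8 ≤ Nat.card Q
  nc : ¬ IsMulCommutative Q

theorem uniq_of_prk1 [Finite G] (hp : p.Prime) (hQ : Pg[p] Q) (hr : PRankLE p 1 Q)
    (hA : A ≤ Q) (hB : B ≤ Q) (h1 : Nat.card A = p) (h2 : Nat.card B = p) : A = B := by
  have h0 : Q ≠ ⊥ := ne_bot_of_le (ne_bot_of_card hp h1) hA
  have hz := pg_inf_cent_ne_bot hp hQ hQ (le_norm Q) h0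
  obtain ⟨Z, hZ, hZc⟩ := exists_card_prime hp ((hQ.inf_left (K := C[Q])).dvd_of_ne_bot hz)
  have key : ∀ X : Subgroup G, X ≤ Q → Nat.card X = p → Z = X := by
    intro X hX hc
    by_contra hne
    exact (E2_sup hp hZc hc hne ((hZ.trans inf_le_right).trans (cent_anti hX))).not_prk hp
      (sup_le (hZ.trans inf_le_left) hX) hr
  rw [← key A hA h1, ← key B hB h2]

open QuaternionGroup in
theorem qf_of [Finite G] (hQ : Pg[2] Q) (hr : PRankLE 2 1 Q) (hc : ¬ IsCyclic Q) : QF Q := by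
  haveI : Fact (Nat.Prime 2) := ⟨Nat.prime_two⟩
  obtain h | ⟨-, n, ⟨e⟩⟩ := Cfsg.Agent.S0016.result (G := Q) 2 (pg_iff.1 hQ) (by
    intro H K h1 h2
    apply map_injective Q.subtype_injective
    exact uniq_of_prk1 Nat.prime_two hQ hr (map_subtype_le _) (map_subtype_le _)
      (by rw [card_map_of_injective Q.subtype_injective, h1])
      (by rw [card_map_of_injective Q.subtype_injective, h2]))
  · exact absurd h hc
  rcases n with _ | n
  · haveI : IsCyclic (QuaternionGroup (2 ^ 0)) := quaternionGroup_one_isCyclic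
    exact absurd (isCyclic_of_surjective e.symm e.symm.surjective) hc
  set m := 2 ^ (n + 1) with hm
  haveI : NeZero m := ⟨by positivity⟩
  let φ : QuaternionGroup m →* G := Q.subtype.comp e.symm.toMonoidHom
  have hφ : Function.Injective φ := Q.subtype_injective.comp e.symm.injective
  have hmem : ∀ y, φ y ∈ Q := fun y => (e.symm y).2
  have hsur : ∀ x ∈ Q, ∃ y, φ y = x := fun x hx => ⟨e ⟨x, hx⟩, by simp [φ]⟩
  have ho : ∀ y, orderOf (φ y) = orderOf y := fun y => orderOf_injective φ hφ y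
  have hcard : Nat.card Q = 4 * m := by
    rw [Nat.card_congr e.toEquiv, Nat.card_eq_fintype_card, QuaternionGroup.card]
  have hm2 : 2 ≤ m := by
    rw [hm, pow_succ]; have := Nat.one_le_two_pow (n := n); omega
  refine ⟨?_, ?_, by omega, ?_⟩
  · intro R hR x hx
    obtain ⟨y, rfl⟩ := hsur x hx
    have h1 : ∀ i, φ (xa i) ∈ R := fun i => hR _ (hmem _) (by rw [ho, orderOf_xa])
    rcases y with i | i
    · have : (a i : QuaternionGroup m) = xa 0 * xa (i - (m : ZMod (2 * m))) := by simp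
      rw [this, map_mul]
      exact R.mul_mem (h1 _) (h1 _)
    · exact h1 i
  · refine ⟨φ (a 1 ^ 2 ^ n), hmem _, φ (xa 0), hmem _, ?_, by rw [ho, orderOf_xa], ?_, ?_, ?_⟩
    · rw [ho, orderOf_pow, orderOf_a_one, hm,
        show 2 * 2 ^ (n + 1) = 2 ^ n * 4 by ring, Nat.gcd_mul_right_left,
        Nat.mul_div_cancel_left _ (by positivity)]
    · intro y hy
      have hy' : y⁻¹ ∈ zpowers (φ (a 1 ^ 2 ^ n)) := inv_mem hy
      obtain ⟨k, hk⟩ := (mem_powers_iff_mem_zpowers.2 hy')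
      simp only at hk
      rw [← hk, ← map_pow, ← pow_mul, a_one_pow, ← map_mul, ho, a_mul_xa, orderOf_xa]
    · intro w hw h
      obtain ⟨y, rfl⟩ := hsur w hw
      rw [← map_pow] at h
      have := hφ h
      rcases y with i | i
      · simp [sq] at this
      · simp [sq] at this
    · rcases n with _ | n
      · left; rw [hcard, hm]; norm_num
      · right
        exact ⟨φ (a 1 ^ 2 ^ n), hmem _, by rw [← map_pow, ← pow_mul, ← pow_succ]⟩
  · intro h
    have h1 := mem_cent.1 (comm_iff.1 h (hmem (a 1))) _ (hmem (xa 0))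
    rw [← map_mul, ← map_mul] at h1
    have h2 := hφ h1
    simp only [xa_mul_a, a_mul_xa, xa.injEq] at h2
    have h3 : ((2 : ℕ) : ZMod (2 * m)) = 0 := by
      push_cast; linear_combination h2
    rw [ZMod.natCast_eq_zero_iff] at h3
    exact absurd (Nat.le_of_dvd two_pos h3) (by omega)

theorem BB.conj [Finite G] (hB : BB G) {x y : G} (h : orderOf x = orderOf y) :
    ∃ g : G, ∃ z ∈ zpowers x, y = g * z * g⁻¹ := by
  obtain ⟨g, hg⟩ := hB (zpowers x) (zpowers y) inferInstance inferInstance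
    (by rw [Nat.card_zpowers, Nat.card_zpowers, h])
  have : y ∈ zpowers x :^ g := hg ▸ mem_zpowers y
  exact ⟨g, _, mem_cj.1 this, by group⟩

theorem BB.mem [Finite G] (hB : BB G) [hN : N.Normal] {x y : G} (hx : x ∈ N)
    (h : orderOf x = orderOf y) : y ∈ N := by
  obtain ⟨g, z, hz, rfl⟩ := hB.conj h
  exact hN.conj_mem _ (zpowers_le.2 hx hz) g

theorem normal_of_top (h : ⊤ ≤ N[N]) : N.Normal := normalizer_eq_top_iff.1 (top_le_iff.1 h)

theorem quat_normal [Finite G] [Group.IsSolvable G] (hB : BB G)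
    (hr : PRankLE 2 1 (⊤ : Subgroup G)) (hQ : Sy[2] Q ⊤) (hc : ¬ IsCyclic Q)
    (hO : ∀ r : ℕ, r.Prime → r ≠ 2 → IsCyclic (Op[{r}] (⊤ : Subgroup G))) :
    Q.Normal ∧ Nat.card Q = 8 := by
  haveI : Fact (Nat.Prime 2) := ⟨Nat.prime_two⟩
  have hq := qf_of (hl_pi hQ) (prk_of_le hr le_top) hc
  obtain ⟨u, hu, b, hb, ou, ob, h1, h2, h3⟩ := hq.ex
  set O := Op[{2}] (⊤ : Subgroup G) with hOdef
  haveI hOn : O.Normal := normal_of_top (le_norm_piCoreOf_self _ _)
  have hOQ : O ≤ Q := core_le_hl hQ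
  set D := ⁅(⊤ : Subgroup G), (⊤ : Subgroup G)⁆ with hD
  haveI hDn : D.Normal := normal_of_top (norm_der_self _)
  have hbD : b ∈ D := by
    obtain ⟨g, z, hz, e⟩ := hB.conj (ou.trans ob.symm)
    refine hB.mem (x := z⁻¹ * b) ?_ ((h1 z hz).trans ob.symm)
    have : z⁻¹ * b = ⁅z⁻¹, g⁆ := by rw [e, commutatorElement_def]; group
    rw [this]
    exact commutator_mem_commutator (mem_top _) (mem_top _)
  have h4 : ∃ x ∈ O, orderOf x = 4 := by
    by_contra hne
    push Not at hne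
    refine hne b ?_ ob
    have hz : O ≤ C[(⊤ : Subgroup G)] := by
      intro x hx
      refine mem_cent.2 fun g _ => ?_
      by_cases hx1 : x = 1
      · simp [hx1]
      have hx2 : orderOf x = 2 := by
        obtain ⟨j, hj⟩ := (H1.isPiNat_singleton_iff Nat.prime_two (orderOf_pos x).ne').1
          ((hl_pi hQ).orderOf (hOQ hx))
        rcases j with _ | _ | j
        · exact absurd (orderOf_eq_one_iff.1 (by simpa using hj)) hx1
        · simpa using hj
        · exfalso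
          refine hne (x ^ 2 ^ j) (O.pow_mem hx _) ?_
          rw [orderOf_pow, hj, show 2 ^ (j + 1 + 1) = 2 ^ j * 4 by ring, Nat.gcd_mul_right_left,
            Nat.mul_div_cancel_left _ (by positivity)]
      have hgx : g * x * g⁻¹ ∈ O := hOn.conj_mem x hx g
      have e := uniq_of_prk1 Nat.prime_two (hl_pi hQ) (prk_of_le hr le_top)
        (zpowers_le.2 (hOQ hx)) (zpowers_le.2 (hOQ hgx)) (by rw [Nat.card_zpowers, hx2])
        (by rw [Nat.card_zpowers, orderOf_cj, hx2])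
      have h5 : g * x * g⁻¹ ∈ zpowers x := e ▸ mem_zpowers _
      have h6 : g * x * g⁻¹ ≠ 1 := fun h => hx1 (H16.conj_eq_one_iff.1 h)
      obtain ⟨y, -, hy⟩ := (Nat.card_eq_two_iff' (1 : zpowers x)).1 (by rw [Nat.card_zpowers, hx2])
      have e1 := hy ⟨x, mem_zpowers x⟩ (fun h => hx1 (congrArg Subtype.val h))
      have e2 := hy ⟨_, h5⟩ (fun h => h6 (congrArg Subtype.val h))
      have : g * x * g⁻¹ = x := congrArg Subtype.val (e2.trans e1.symm)
      rw [← mul_inv_eq_iff_eq_mul, this]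
    have hF : fittingOf (⊤ : Subgroup G) ≤ C[D] := by
      refine le_of_piCoreOf_le (nilpotent_fittingOf _) fun q hq _ => ?_
      haveI := Fact.mk hq
      rw [pCoreOf_fittingOf]
      by_cases hq2 : q = 2
      · subst hq2; exact hz.trans (cent_anti le_top)
      · exact cent_symm (der_cent_cyclic (hO q hq hq2) (le_norm_piCoreOf_self _ _))
    have hDF : D ≤ fittingOf (⊤ : Subgroup G) :=
      le_fittingOf_of_le_cent inferInstance le_top (cent_symm hF)
    exact le_piCoreOf_of_le_fittingOf (Y := zpowers b) (zpowers_le.2 (hDF hbD))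
      ((hl_pi hQ).of_le (zpowers_le.2 hb)) (mem_zpowers b)
  obtain ⟨x, hx, ox⟩ := h4
  have hQO : Q = O := le_antisymm (hq.gen O fun y _ hy => hB.mem hx (ox.trans hy.symm)) hOQ
  have hQn : Q.Normal := hQO ▸ hOn
  refine ⟨hQn, h3.resolve_right ?_⟩
  rintro ⟨y, hy, rfl⟩
  obtain ⟨g, z, ⟨k, rfl⟩, e⟩ := hB.conj (ou.trans ob.symm)
  refine h2 (g * y ^ k * g⁻¹) (hQn.conj_mem _ (Q.zpow_mem hy k) g) ?_
  rw [e, conj_pow]
  simp only
  rw [← zpow_natCast, ← zpow_natCast, ← zpow_mul, ← zpow_mul, mul_comm k]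

theorem cyc_of_map [Finite G] (f : G →* G') (h : S ⊓ f.ker = ⊥) (hc : IsCyclic (S.map f)) :
    IsCyclic S := by
  have hi : Function.Injective (f.subgroupMap S) := by
    rw [injective_iff_map_eq_one]
    intro a ha
    have : f a = 1 := congrArg Subtype.val ha
    exact Subtype.ext (eq_one_of_mem_bot h (mem_inf.2 ⟨a.2, this⟩))
  exact isCyclic_of_injective _ hi

theorem quat_quot {G : Type u} [Group G] [Finite G] [Group.IsSolvable G] (hB : BB G)
    {F Q : Subgroup G} [F.Normal] (hF : ¬ 2 ∣ Nat.card F)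
    (hr : PRankLE 2 1 (⊤ : Subgroup G)) (hQ : Sy[2] Q ⊤) (hc : ¬ IsCyclic Q)
    (hO : ∀ r : ℕ, r.Prime → r ≠ 2 → IsCyclic (Op[{r}] (⊤ : Subgroup (G ⧸ F)))) :
    (Q.map (QuotientGroup.mk' F)).Normal ∧ Nat.card Q = 8 := by
  have hs := QuotientGroup.mk'_surjective F
  have hd : Q ⊓ F = ⊥ := (hl_pi hQ).inf_eq_bot (isPi_compl_of_not_dvd hF)
  have hB' : BB (G ⧸ F) := push_odd _ G rfl hB _ hs inferInstance
    (by rwa [QuotientGroup.ker_mk'])
  have h1 := prk_map_of_ker Nat.prime_two (QuotientGroup.mk' F)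
    (by rwa [QuotientGroup.ker_mk']) hr
  have h2 := H1.IsPiHallOf.map hQ (QuotientGroup.mk' F)
  rw [map_top_of_surjective _ hs] at h1 h2
  obtain ⟨h3, h4⟩ := quat_normal hB' h1 h2
    (fun h => hc (cyc_of_map _ (by rwa [QuotientGroup.ker_mk']) h)) hO
  refine ⟨h3, ?_⟩
  rw [← H1.card_map_mk'_mul Q F, hd, h4, card_bot]

theorem quat_sy {G : Type u} [Group G] [Finite G] [Group.IsSolvable G] (hB : BB G)
    (hr : PRankLE 2 1 (⊤ : Subgroup G)) {S : Subgroup G} (hS : Pg[2] S) (hc : ¬ IsCyclic S) :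
    Sy[2] S ⊤ := by
  haveI : Fact (Nat.Prime 2) := ⟨Nat.prime_two⟩
  obtain ⟨Q, hQ, hSQ⟩ := sy_exists_ge (M := ⊤) le_top hS
  haveI : (piCore {2}ᶜ G).Normal := by
    rw [← piCoreOf_top]; exact normal_of_top (le_norm_piCoreOf_self _ _)
  have hπ : Pg'[2] (piCore {2}ᶜ G) := H1.isPiNat_card_piCore _
  have h8 := (quat_quot hB (F := piCore {2}ᶜ G) (hπ.not_dvd Nat.prime_two (by simp)) hr hQ
    (fun h => hc (cyclic_of_le h hSQ)) (by
      intro r hr hr2
      have h1 : Op[{r}] (⊤ : Subgroup (G ⧸ piCore {2}ᶜ G)) ≤ piCore {2}ᶜ (G ⧸ piCore {2}ᶜ G) := by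
        exact (piCoreOf_mono (by simpa using hr2.symm) _).trans (piCoreOf_top _).le
      rw [← H1.map_piCore_mk' _ _ hπ, QuotientGroup.map_mk'_self] at h1
      rw [le_bot_iff.1 h1]; exact cyclic_bot)).2
  have := (qf_of hS (prk_of_le hr le_top) hc).ge
  rwa [eq_of_le_of_card hSQ (by omega)]

theorem push_sol (n : ℕ) : ∀ (G : Type u) [Group G] [Finite G] [Group.IsSolvable G],
    Nat.card G = n → BB G → ∀ f : G →* G', Function.Surjective f → BB G' := by
  induction n using Nat.strong_induction_on with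
  | _ n ih =>
  intro G _ _ _ hn hB f hf
  by_cases hk : f.ker = ⊥
  · exact hB.of_ker_bot hf hk
  obtain ⟨N, p, hN, h0, hle, hp, hab, hpow, -, -⟩ :=
    H1.exists_minimal_normal_elementary f.ker inferInstance hk
  haveI := Fact.mk hp
  have hE : EA[p] N := ⟨hab, hpow⟩
  have hq := hB.step hp hE h0 fun hc S hS => by
    by_cases hp2 : p = 2
    · subst hp2
      by_cases h : IsCyclic S
      · exact Or.inl h
      · exact Or.inr ⟨rfl, quat_sy hB ((hB.ap 2).prk1 hp hc ⊤) hS h⟩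
    · exact Or.inl (cyclic_of_prk1 hp2 hS ((hB.ap p).prk1 hp hc S))
  exact ih _ (hn ▸ H1.card_quotient_lt h0) _ rfl hq (QuotientGroup.lift N f hle)
    (lift_surj hf hle)

end H12.BG
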