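import Cfsg.Agent.S3763
import Cfsg.Prelude.Def_KGroupFacts
import Cfsg.Prelude.Def_Classical

/-! The extraspecial 2-group attached to a bilinear form over the field with two elements. -/

set_option autoImplicit false
open Cfsg Subgroup
open scoped commutatorElement

namespace H12

variable {V : Type*} [AddCommGroup V] [Module (ZMod 2) V]

/-- The group on `V × F₂` with multiplication twisted by `B`. -/
@[ext] structure QG (B : V →ₗ[ZMod 2] V →ₗ[ZMod 2] ZMod 2) where
  v : V
  a : ZMod 2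

theorem two_add_self (v : V) : v + v = 0 := by
  rw [← two_smul (ZMod 2) v]; exact (congrArg (· • v) (show (2 : ZMod 2) = 0 by decide)).trans
    (zero_smul _ v)

theorem two_neg (v : V) : -v = v := neg_eq_of_add_eq_zero_left (two_add_self v)

theorem zmod_two_cases (a : ZMod 2) : a = 0 ∨ a = 1 := by revert a; decide

namespace QG
variable {B : V →ₗ[ZMod 2] V →ₗ[ZMod 2] ZMod 2}

instance qgMul : Mul (QG B) := ⟨fun x y => ⟨x.v + y.v, x.a + y.a + B x.v y.v⟩⟩
instance qgOne : One (QG B) := ⟨⟨0, 0⟩⟩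
instance qgInv : Inv (QG B) := ⟨fun x => ⟨x.v, x.a + B x.v x.v⟩⟩
@[simp] theorem mul_v (x y : QG B) : (x * y).v = x.v + y.v := rfl
@[simp] theorem mul_a (x y : QG B) : (x * y).a = x.a + y.a + B x.v y.v := rfl
@[simp] theorem one_v : (1 : QG B).v = 0 := rfl
@[simp] theorem one_a : (1 : QG B).a = 0 := rfl
@[simp] theorem inv_v (x : QG B) : x⁻¹.v = x.v := rfl
@[simp] theorem inv_a (x : QG B) : x⁻¹.a = x.a + B x.v x.v := rfl

instance qgGroup : Group (QG B) := Group.ofLeftAxioms
  (fun x y w => by ext <;> simp [add_assoc]; ring)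
  (fun x => by ext <;> simp)
  (fun x => by
    ext
    · simp [two_add_self]
    · simp only [mul_a, inv_a, inv_v, one_a]
      linear_combination two_add_self x.a + two_add_self (B x.v x.v))

/-- The central involution. -/
def zc (B : V →ₗ[ZMod 2] V →ₗ[ZMod 2] ZMod 2) : QG B := ⟨0, 1⟩

@[simp] theorem zc_v : (zc B).v = 0 := rfl
@[simp] theorem zc_a : (zc B).a = 1 := rfl

def equivProd (B : V →ₗ[ZMod 2] V →ₗ[ZMod 2] ZMod 2) : QG B ≃ V × ZMod 2 :=
  ⟨fun x => (x.v, x.a), fun x => ⟨x.1, x.2⟩, fun _ => rfl, fun _ => rfl⟩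

theorem card_eq : Nat.card (QG B) = Nat.card V * 2 := by
  rw [Nat.card_congr (equivProd B), Nat.card_prod, Nat.card_zmod]

instance qgFinite [Finite V] : Finite (QG B) := Finite.of_equiv _ (equivProd B).symm

theorem sq_eq (x : QG B) : x ^ 2 = ⟨0, B x.v x.v⟩ := by
  rw [sq]; ext <;> simp [two_add_self]

theorem comm_eq (x y : QG B) : ⁅x, y⁆ = ⟨0, B x.v y.v + B y.v x.v⟩ := by
  rw [commutatorElement_def]
  ext
  · simp only [mul_v, inv_v]
    rw [add_right_comm x.v y.v x.v, two_add_self, zero_add, two_add_self]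
  · simp only [mul_v, inv_v, mul_a, inv_a, map_add, LinearMap.add_apply]
    linear_combination two_add_self x.a + two_add_self y.a + two_add_self (B x.v x.v) +
      two_add_self (B y.v y.v) + two_add_self (B x.v y.v)

theorem commute_iff (x y : QG B) : Commute x y ↔ B x.v y.v + B y.v x.v = 0 := by
  rw [← commutatorElement_eq_one_iff_commute, comm_eq, QG.ext_iff]; simp

theorem zc_ne_one : zc B ≠ 1 := fun h => by simpa using congrArg QG.a h

theorem mem_zpowers_iff (x : QG B) : x ∈ zpowers (zc B) ↔ x.v = 0 := by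
  constructor
  · intro h
    rw [zpowers_eq_closure] at h
    induction h using closure_induction with
    | mem a h => rw [h]; rfl
    | one => rfl
    | mul a b _ _ h h' => simp [h, h']
    | inv a _ h => simp [h]
  · intro h
    rcases zmod_two_cases x.a with h1 | h1
    · exact (show x = 1 from QG.ext h h1) ▸ one_mem _
    · exact (show x = zc B from QG.ext h h1) ▸ mem_zpowers _

/-- The projection to `V`. -/
def chi (B : V →ₗ[ZMod 2] V →ₗ[ZMod 2] ZMod 2) : QG B →* Multiplicative V where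
  toFun x := Multiplicative.ofAdd x.v
  map_one' := rfl
  map_mul' _ _ := rfl

/-- Non-degeneracy of the polar form. -/
def ND (B : V →ₗ[ZMod 2] V →ₗ[ZMod 2] ZMod 2) : Prop := ∀ u, (∀ v, B u v + B v u = 0) → u = 0

theorem isES (h : ND B) : H3.IsES 2 (zc B) ⊤ where
  ord := orderOf_eq_prime (by rw [sq_eq]; ext <;> simp) zc_ne_one
  central := mem_center_iff.2 fun g => ((commute_iff _ _).2 (by simp))
  mem := trivial
  comm a _ b _ := by rw [mem_zpowers_iff, comm_eq]
  pow a _ := by rw [mem_zpowers_iff, sq_eq]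
  cent a _ ha := (mem_zpowers_iff _).2 (h _ fun v => (commute_iff a ⟨v, 0⟩).1 (ha _ trivial))

theorem mem_center (h : ND B) (x : QG B) : x ∈ center (QG B) ↔ x.v = 0 :=
  ⟨fun hx => h _ fun v => (commute_iff x ⟨v, 0⟩).1 (mem_center_iff.1 hx _).symm,
    fun hx => mem_center_iff.2 fun g => (commute_iff _ _).2 (by simp [hx])⟩

theorem isExtraspecial [Finite V] [Nontrivial V] (h : ND B) : IsExtraspecial 2 (QG B) :=
  (isES h).isExtraspecial fun e => by
    obtain ⟨v, hv⟩ := exists_ne (0 : V)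
    exact hv ((mem_zpowers_iff (⟨v, 0⟩ : QG B)).1 (e ▸ mem_top _))

theorem aut_central (h : ND B) (φ : MulAut (QG B)) (a : ZMod 2) : φ ⟨0, a⟩ = ⟨0, a⟩ := by
  rcases zmod_two_cases a with rfl | rfl
  · exact map_one φ
  · have h1 : φ (zc B) ∈ center (QG B) := mem_center_iff.2 fun g => by
      obtain ⟨g, rfl⟩ := φ.surjective g
      rw [← map_mul, ← map_mul, mem_center_iff.1 (isES h).central]
    have h2 := (mem_center h _).1 h1
    rcases zmod_two_cases (φ (zc B)).a with h3 | h3
    · exact absurd ((map_eq_one_iff φ φ.injective).1 (QG.ext h2 h3)) zc_ne_one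
    · exact QG.ext h2 h3

theorem aut_eq (h : ND B) (φ : MulAut (QG B)) (x : QG B) :
    φ x = ⟨(φ ⟨x.v, 0⟩).v, (φ ⟨x.v, 0⟩).a + x.a⟩ := by
  have : x = ⟨x.v, 0⟩ * ⟨0, x.a⟩ := by ext <;> simp
  conv_lhs => rw [this, map_mul, aut_central h]
  ext <;> simp

/-- The action of an automorphism on `V`. -/
def autEnd (h : ND B) : MulAut (QG B) →* Module.End (ZMod 2) V where
  toFun φ := AddMonoidHom.toZModLinearMap 2 (AddMonoidHom.mk' (fun v => (φ ⟨v, 0⟩).v) fun u v => by
    have := congrArg QG.v (aut_eq h φ (⟨u, 0⟩ * ⟨v, 0⟩))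
    rw [map_mul] at this
    exact this.symm)
  map_one' := by ext; rfl
  map_mul' φ ψ := by
    ext v
    have := congrArg QG.v (aut_eq h φ (ψ ⟨v, 0⟩))
    exact this

theorem autEnd_apply (h : ND B) (φ : MulAut (QG B)) (x : QG B) : autEnd h φ x.v = (φ x).v :=
  (congrArg QG.v (aut_eq h φ x)).symm

theorem autEnd_isom (h : ND B) (φ : MulAut (QG B)) (v : V) :
    B (autEnd h φ v) (autEnd h φ v) = B v v := by
  have h1 := congrArg φ (sq_eq (⟨v, 0⟩ : QG B))
  rw [map_pow, sq_eq, aut_central h] at h1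
  exact congrArg QG.a h1

theorem autEnd_eq_one_iff [Finite V] (h : ND B) (φ : MulAut (QG B)) :
    autEnd h φ = 1 ↔ φ ∈ Inn (QG B) := by
  constructor
  · intro h1
    have hv : ∀ x, (φ x).v = x.v := fun x => by rw [← autEnd_apply h, h1]; rfl
    let f : V →ₗ[ZMod 2] ZMod 2 := AddMonoidHom.toZModLinearMap 2
      (AddMonoidHom.mk' (fun v => (φ ⟨v, 0⟩).a) fun u v => by
        have := congrArg QG.a (aut_eq h φ (⟨u, 0⟩ * ⟨v, 0⟩))
        rw [map_mul] at this
        simp only [mul_a, mul_v, hv, zero_add] at this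
        exact (add_right_cancel this).symm)
    have hinj : Function.Injective (B + B.flip) :=
      (injective_iff_map_eq_zero _).2 fun u hu => h u fun v => LinearMap.congr_fun hu v
    obtain ⟨w, hw⟩ := (LinearMap.injective_iff_surjective_of_finrank_eq_finrank
      (Subspace.dual_finrank_eq (K := ZMod 2) (V := V)).symm).1 hinj f
    refine ⟨⟨w, 0⟩, MulEquiv.ext fun x => ?_⟩
    have h2 : B w x.v + B x.v w = (φ ⟨x.v, 0⟩).a := LinearMap.congr_fun hw x.v
    rw [aut_eq h φ x, hv, ← h2]
    ext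
    · simp [add_right_comm w x.v w, two_add_self]
    · simp only [MulAut.conj_apply, mul_a, inv_a, mul_v, inv_v, map_add, LinearMap.add_apply]
      linear_combination two_add_self (B w w)
  · rintro ⟨g, rfl⟩
    ext v
    show (g * ⟨v, 0⟩ * g⁻¹).v = v
    simp [add_right_comm g.v v g.v, two_add_self]

theorem exists_quad [Finite V] (C : V →ₗ[ZMod 2] V →ₗ[ZMod 2] ZMod 2) (hC : ∀ v, C v v = 0) :
    ∃ D : V →ₗ[ZMod 2] V →ₗ[ZMod 2] ZMod 2, ∀ u v, D u v + D v u = C u v := by
  let b := Module.finBasis (ZMod 2) V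
  have hs : ∀ u v, C u v = C v u := fun u v => by
    have := hC (u + v)
    simp only [map_add, LinearMap.add_apply, hC] at this
    linear_combination this - two_add_self (C v u)
  let D : V →ₗ[ZMod 2] V →ₗ[ZMod 2] ZMod 2 :=
    b.constr (ZMod 2) fun i => b.constr (ZMod 2) fun j => if i < j then C (b i) (b j) else 0
  have : D + D.flip = C := b.ext fun i => b.ext fun j => by
    simp only [D, LinearMap.add_apply, LinearMap.flip_apply, Module.Basis.constr_basis]
    rcases lt_trichotomy i j with h | rfl | h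
    · simp [h, h.not_gt]
    · simp [hC]
    · simp [h, h.not_gt, hs (b i)]
  exact ⟨D, fun u v => LinearMap.congr_fun (LinearMap.congr_fun this u) v⟩

theorem exists_aut [Finite V] (h : ND B) (g : V ≃ₗ[ZMod 2] V) (hg : ∀ v, B (g v) (g v) = B v v) :
    ∃ φ : MulAut (QG B), autEnd h φ = g.toLinearMap := by
  obtain ⟨D, hD⟩ := exists_quad (B.compl₁₂ g.toLinearMap g.toLinearMap + B) fun v => by
    simp [hg, two_add_self]
  let f : QG B →* QG B := MonoidHom.mk' (fun x => ⟨g x.v, x.a + D x.v x.v⟩) fun x y => by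
    have := hD x.v y.v
    ext
    · simp
    · simp only [mul_a, mul_v, map_add, LinearMap.add_apply, LinearMap.compl₁₂_apply,
        LinearEquiv.coe_coe] at this ⊢
      linear_combination this + two_add_self (B x.v y.v)
  have hf : Function.Injective f := (injective_iff_map_eq_one _).2 fun x hx => by
    have h1 : x.v = 0 := g.injective ((congrArg QG.v hx).trans (map_zero g).symm)
    have h2 : x.a + D x.v x.v = 0 := congrArg QG.a hx
    rw [h1] at h2
    exact QG.ext h1 (by simpa using h2)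
  exact ⟨MulEquiv.ofBijective f (Finite.injective_iff_bijective.1 hf), by ext v; rfl⟩

end QG

/-- `Out` is invariant under isomorphism. -/
theorem out_congr {G H : Type*} [Group G] [Group H] (e : G ≃* H) : Nonempty (Out G ≃* Out H) :=
  ⟨QuotientGroup.congr _ _ (MulAut.congr e) (by
    ext φ
    constructor
    · rintro ⟨_, ⟨g, rfl⟩, rfl⟩
      exact ⟨e g, by ext x; simp⟩
    · rintro ⟨g, rfl⟩
      exact ⟨_, ⟨e.symm g, rfl⟩, by ext x; simp⟩)⟩

theorem QG.out_equiv {ι : Type} [Fintype ι] [DecidableEq ι]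
    {B : (ι → ZMod 2) →ₗ[ZMod 2] (ι → ZMod 2) →ₗ[ZMod 2] ZMod 2} (h : QG.ND B)
    (Q : (ι → ZMod 2) → ZMod 2) (hQ : ∀ v, Q v = B v v) :
    Nonempty (Out (QG B) ≃* isometryGroup (ZMod 2) Q) := by
  let ψ : MulAut (QG B) →* Matrix.GeneralLinearGroup ι (ZMod 2) :=
    ((LinearMap.toMatrixAlgEquiv' (R := ZMod 2) (n := ι)).toMulEquiv.toMonoidHom.comp
      (QG.autEnd h)).toHomUnits
  have hψ : ∀ φ v, (ψ φ : Matrix ι ι (ZMod 2)).mulVec v = QG.autEnd h φ v := fun φ v => by
    simp [ψ, LinearMap.toMatrixAlgEquiv']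
  have hk : ψ.ker = Inn (QG B) := by
    ext φ
    rw [← QG.autEnd_eq_one_iff h, MonoidHom.mem_ker, Units.ext_iff]
    exact map_eq_one_iff _ (LinearMap.toMatrixAlgEquiv' (R := ZMod 2) (n := ι)).injective
  have hr : ψ.range = isometryGroup (ZMod 2) Q := by
    ext g
    constructor
    · rintro ⟨φ, rfl⟩ u _
      show Q ((ψ φ : Matrix ι ι (ZMod 2)).mulVec u) = Q u
      rw [hψ, hQ, hQ, QG.autEnd_isom]
    · intro hg
      obtain ⟨φ, hφ⟩ := QG.exists_aut h
        (LinearMap.GeneralLinearGroup.toLinearEquiv (Matrix.GeneralLinearGroup.toLin g)) fun v => by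
          rw [← hQ, ← hQ]; exact hg v v
      refine ⟨φ, Units.ext (Matrix.ext_of_mulVec_single fun i => ?_)⟩
      rw [hψ, hφ]; rfl
  exact ⟨((QuotientGroup.quotientMulEquivOfEq hk.symm).trans
    (QuotientGroup.quotientKerEquivRange ψ)).trans (MulEquiv.subgroupCongr hr)⟩

end H12
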