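import Cfsg.Agent.H12.FF9
import Cfsg.Agent.H22.Linear

/-! `[C_V(T), P] ≠ 1` for a `p`-minimal group with an offender. -/

set_option autoImplicit false
set_option linter.unusedSectionVars false

open Cfsg Subgroup H10
open H4 (meas meas_def meas_bot)
open scoped commutatorElement MatrixGroups IsMulCommutative

namespace H12

variable {G : Type*} [Group G] [Finite G] {p : ℕ} [Fact p.Prime]
variable {V P T M A B X Y C D N : Subgroup G}

theorem exists_trace (hc : V ≤ CC(V)) (hT : T ≤ NN(V)) {T₁ W : Subgroup G} (h1 : T₁ ≤ T) {u : G}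
    (hu : u ∈ V) (hu1 : u ∈ CC(T₁)) (h : ∀ t ∈ T, t ∉ T₁ → t * u * t⁻¹ ∈ W) :
    ∃ v ∈ V ⊓ CC(T), u⁻¹ * v ∈ W := by
  classical
  have := isMulCommutative_iff_le_CC.2 hc
  set w : V := ⟨u, hu⟩
  have hv := (smul_eq_iff_mem_CC T₁ (h1.trans hT) w).2 hu1
  refine ⟨(tr (T.subgroupOf NN(V)) (T₁.subgroupOf NN(V)) w : V), ⟨Subtype.mem _,
    (smul_eq_iff_mem_CC T hT _).1 fun g hg => smul_tr_of_mem hv hg⟩, ?_⟩
  letI := Fintype.ofFinite (T.subgroupOf NN(V) ⧸ (T₁.subgroupOf NN(V)).subgroupOf (T.subgroupOf NN(V)))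
  have key : w⁻¹ * tr (T.subgroupOf NN(V)) (T₁.subgroupOf NN(V)) w ∈ W.subgroupOf V := by
    obtain ⟨t, ht, e⟩ := out_eq_mul (T₁.subgroupOf NN(V)) (1 : T.subgroupOf NN(V))
    rw [tr, ← Finset.mul_prod_erase _ _ (Finset.mem_univ ((1 : T.subgroupOf NN(V)) :
      _ ⧸ (T₁.subgroupOf NN(V)).subgroupOf (T.subgroupOf NN(V)))), e, coe_one, one_mul, hv t ht,
      inv_mul_cancel_left]
    refine Subgroup.prod_mem _ fun q hq => h _ q.out.2 fun h2 => (Finset.mem_erase.1 hq).1 ?_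
    rw [← q.out_eq, eq_comm, QuotientGroup.eq, inv_one, one_mul]
    exact h2
  exact key

theorem Line.sylow (h : Line V X A) (c : Ctx p V P) (hX : X ≤ P) (hA : Pt p V P A) :
    IsSylowIn p A X := by
  obtain ⟨F, _, _, k1, ⟨e⟩, -⟩ := h.exists_sl2 c.pow (h.ker_trivial c hX hA)
  refine isSylowIn_of_not_dvd h.le hA.isPGroup fun h1 => ?_
  have h2 := (A.subgroupOf X).card_mul_index
  rw [card_subgroupOf_of_le h.le, Nat.card_congr e.toEquiv, H22.card_SL_two, k1] at h2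
  have h3 : A.relIndex X = Nat.card A ^ 2 - 1 := Nat.eq_of_mul_eq_mul_left Nat.card_pos h2
  obtain ⟨m, hm⟩ := IsPGroup.iff_card.1 hA.isPGroup
  have m1 : m ≠ 0 := fun e => hA.one_lt.ne' (by rw [hm, e, pow_zero])
  have h4 : p ∣ Nat.card A ^ 2 := dvd_pow (hm ▸ dvd_pow_self p m1) two_ne_zero
  rw [h3] at h1
  have := (Nat.dvd_sub_iff_right (Nat.one_le_pow _ _ Nat.card_pos) h4).1 h1
  exact (Fact.out : p.Prime).ne_one (Nat.dvd_one.1 this)

theorem Pt.mem_comm_two (h : Pt p V P A) (c : Ctx p V P) (h2 : Nat.card A = 2) {α w : G}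
    (hα : Dir V A α) (hw : w ∈ ⁅V, A⁆) : w = 1 ∨ w = α := by
  obtain ⟨a, ha, a1⟩ := h.exists_ne
  obtain ⟨D, -, hD, -⟩ := h.exists_img c ha a1
  have h3 : ⁅V, A⁆ ≤ D := by
    rw [commutator_comm]
    refine commutator_le.2 fun b hb v hv => ?_
    by_cases b1 : b = 1
    · simp [b1]
    exact (hD _).2 ⟨v, hv, by rw [eq_of_card_two h2 hb ha b1 a1]⟩
  obtain ⟨v, hv, rfl⟩ := (hD _).1 (h3 hw)
  by_cases v1 : v ∈ CC(A)
  · exact Or.inl (commutatorElement_eq_one_iff_mul_comm.2 (v1 a ha))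
  exact Or.inr (hα.2 a ha a1 v hv v1)

theorem Good.comm_inf_le (h : Good p V P T M A X) {X' : Subgroup G} (h' : Good p V P T M B X')
    (hne : A ≠ B) : ⁅V, X'⁆ ⊓ CC(B) ≤ CC(X) := by
  have c := h.ctx
  rcases (show 2 ≤ Nat.card A from h.pt.one_lt).eq_or_lt with q | q
  swap
  · exact inf_le_left.trans (h.comm_aux h' hne q)
  obtain ⟨y, hy, y1⟩ := h'.exists_ne
  have pB := (h'.d1_cj hy).pt
  have e := h'.line.sup_eq c h'.leP h'.pt hy X'.one_mem (by rwa [cj_one])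
  have nB := h'.line.not_comm c h'.leP h'.pt hy X'.one_mem (by rwa [cj_one])
  rw [cj_one] at e nB
  generalize H10.cj y B = B' at *
  have l1 := comm_le_left (h'.pt.le.trans c.norm)
  have l2 := comm_le_left (pB.le.trans c.norm)
  have h1 : X' ≤ stabMod V (⁅V, B⁆ ⊔ ⁅V, B'⁆) := by
    rw [← e]
    exact sup_le (le_stabMod.2 ⟨le_NN_of_comm_le_of_le le_sup_right (sup_le l1 l2), by
      rw [commutator_comm]; exact le_sup_right⟩)
      (le_stabMod.2 ⟨le_NN_of_comm_le_of_le le_sup_left (sup_le l1 l2), by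
      rw [commutator_comm]; exact le_sup_left⟩)
  rintro u ⟨hu, hu'⟩
  rw [commutator_comm] at hu
  obtain ⟨w, hw, z, hz, rfl⟩ := (mem_sup_of_NN (ab_le_NN c.comm l1 l2)).1 ((le_stabMod.1 h1).2 hu)
  obtain ⟨β, hβ⟩ := pB.exists_dir ((h.card_eq pB).trans q.symm)
  rcases pB.mem_comm_two c ((h.card_eq pB).trans q.symm) hβ hz with rfl | rfl
  · rw [mul_one]
    exact h.line.pt_comm_le c h.leP h.pt h'.pt (h.cent' h'.pt h'.le hne.symm) hw
  · exact absurd ((pB.comm_iff_dir c hβ h'.pt).2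
      ((Subgroup.mul_mem_cancel_left _ (h'.pt.quad hw)).1 hu')) nB

section Quot
variable {L W : Subgroup G} [(W.subgroupOf L).Normal]

theorem bar_inf_unbar (hP : P ≤ L) {K : Subgroup (L ⧸ W.subgroupOf L)} (h : K ≤ bar L W P) :
    bar L W (P ⊓ unbar L W K) = K := by
  refine le_antisymm ((bar_le_iff (inf_le_left.trans hP)).2 inf_le_right) fun k hk => ?_
  obtain ⟨g, hg, rfl⟩ := h hk
  exact mem_bar g.2 ⟨hg, (mem_unbar g.2).2 hk⟩

theorem exists_bar_eq (hP : P ≤ L) {K : Subgroup (L ⧸ W.subgroupOf L)} (h : K ≤ bar L W P) :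
    ∃ A ≤ P, bar L W A = K := ⟨_, inf_le_left, bar_inf_unbar hP h⟩

theorem bar_le_bar_iff (hP : P ≤ L) (hW : P ⊓ W = ⊥) (hA : A ≤ P) (hB : B ≤ P) :
    bar L W A ≤ bar L W B ↔ A ≤ B := ⟨fun h a ha => by
  obtain ⟨b, hb, e⟩ := h (mem_bar (hP (hA ha)) ha)
  have h1 : (b : G)⁻¹ * a = 1 := (eq_bot_iff_forall _).1 hW _
    ⟨P.mul_mem (P.inv_mem (hB hb)) (hA ha), (QuotientGroup.eq (s := W.subgroupOf L)).1 e⟩
  rw [← inv_mul_eq_one.1 h1]; exact hb, bar_mono⟩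

theorem bar_inj (hP : P ≤ L) (hW : P ⊓ W = ⊥) (hA : A ≤ P) (hB : B ≤ P) :
    bar L W A = bar L W B ↔ A = B := by
  rw [le_antisymm_iff, le_antisymm_iff, bar_le_bar_iff hP hW hA hB, bar_le_bar_iff hP hW hB hA]

theorem card_bar_mul (hA : A ≤ L) :
    Nat.card (bar L W A) * Nat.card (A ⊓ W : Subgroup G) = Nat.card A := by
  rw [bar, H1.card_map_mk'_eq_relIndex, relIndex_subgroupOf hA, ← (W.subgroupOf A).index_mul_card,
    ← inf_subgroupOf_left, card_subgroupOf_of_le inf_le_left, inf_subgroupOf_left]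
  rfl

theorem le_NN_of_bar (hP : P ≤ L) (hW : P ⊓ W = ⊥) (hA : A ≤ P) (hB : B ≤ P)
    (h : bar L W A ≤ NN(bar L W B)) : A ≤ NN(B) := fun a ha => mem_NN.2 (by
  rw [← bar_inj hP hW (cj_le_of_mem (hA ha) hB) hB, bar_cj (hP (hA ha)) (hB.trans hP)]
  exact mem_NN.1 (h (mem_bar _ ha)))

end Quot

theorem cent_not_le (ea : IsElementaryAbelian p V) (norm : P ≤ NN(V)) (faith : P ⊓ CC(V) = ⊥)
    (syl : IsSylowIn p T P) (um : UMax T M P) (nn : ¬ P ≤ NN(T)) (op : pCoreOf p P = ⊥)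
    (hB : B ≤ P) (he : IsElementaryAbelian p B) (h0 : B ≠ ⊥) (h1 : Nat.card V ≤ meas V B) :
    ¬ V ⊓ CC(T) ≤ CC(P) := fun hc => by
  wlog hBT : B ≤ T generalizing B
  · obtain ⟨x, hx, h2⟩ := syl.exists_cj_le (elab_isPGroup he) hB
    exact this (cj_le_of_mem hx hB) (elab_cj x he) (by rwa [Ne, cj_eq_bot]) (by
      rwa [← meas_cj' x, cj_eq_of_mem_NN (norm hx)] at h1) h2
  have hV := elab_le_CC ea
  have pV := elab_isPGroup ea
  set Y := V ⊓ CC(resOf p P)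
  set L := V ⊔ P
  have hP : P ≤ L := le_sup_right
  have hVL : V ≤ L := le_sup_left
  have PY : P ≤ NN(Y) := le_NN_inf norm (le_NN_CC (le_NN_resOf P))
  have LY : L ≤ NN(Y) := sup_le (ab_le_NN hV le_rfl inf_le_left) PY
  have : (Y.subgroupOf L).Normal := (normal_subgroupOf_iff_le_normalizer (inf_le_left.trans hVL)).2 LY
  have hW : P ⊓ Y = ⊥ := eq_bot_iff.2 ((inf_le_inf_left _ (inf_le_left.trans hV)).trans faith.le)
  have key : ∀ U ≤ V, ∀ K ≤ P, ⁅U, K⁆ ≤ Y → resOf p K ≤ CC(U) := fun U hU K hK h =>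
    resOf_le_CC_of_step (pV.to_le inf_le_left) ((commutator_mono le_rfl (resOf_le K)).trans h)
      ((resOf_mono hK).trans (le_CC_symm inf_le_right))
  have hMP := um.2.1.le
  have b0 : ∀ K ≤ P, bar L Y K = ⊥ → K = ⊥ := fun K hK h =>
    eq_bot_iff.2 ((le_inf hK ((bar_eq_bot (hK.trans hP)).1 h)).trans hW.le)
  have fa : bar L Y P ⊓ CC(bar L Y V) = ⊥ := by
    obtain ⟨K, hK, e⟩ := exists_bar_eq hP (inf_le_left : bar L Y P ⊓ CC(bar L Y V) ≤ _)
    have k1 : P ≤ NN(K) := le_NN_of_bar hP hW le_rfl hK (by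
      rw [e]; exact le_NN_inf (le_NN_self _) (le_NN_CC (bar_le_NN hVL norm)))
    have k2 := key V le_rfl K hK ((bar_le_CC_iff hVL (hK.trans hP)).1
      (le_CC_symm (e.le.trans inf_le_right)))
    have k3 := le_pCoreOf (isPGroup_of_resOf_eq_bot (eq_bot_iff.2
      ((le_inf ((resOf_le K).trans hK) k2).trans faith.le))) hK k1
    rw [← e, eq_bot_iff.2 (k3.trans op.le), bar_eq_bot bot_le]
    exact bot_le
  have op' : pCoreOf p (bar L Y P) = ⊥ := by
    rw [← bar_pCoreOf hP (hW ▸ IsPGroup.of_bot), op, bar_eq_bot bot_le]; exact bot_le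
  have um' : UMax (bar L Y T) (bar L Y M) (bar L Y P) := ⟨bar_mono um.1, lt_of_le_of_ne (bar_mono hMP)
    fun e => um.2.1.ne ((bar_inj hP hW hMP le_rfl).1 e), fun K k1 k2 => by
      obtain ⟨K, hK, rfl⟩ := exists_bar_eq hP k2.le
      exact bar_mono (um.2.2 K ((bar_le_bar_iff hP hW syl.le hK).1 k1)
        (lt_of_le_of_ne hK fun e => k2.ne (by rw [e])))⟩
  have pV' : IsPGroup p (bar L Y V) := isPGroup_bar pV
  have h : Hyp p (bar L Y V) (bar L Y P) (bar L Y T) (bar L Y M) := by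
    refine ⟨elab_map _ (elab_subgroupOf ea L), bar_le_NN hVL norm, fa, syl.bar hP, um',
      fun h => nn (le_NN_of_bar hP hW le_rfl syl.le h), op', um'.2.2 _ (le_inf (bar_mono syl.le)
        (le_CC_symm inf_le_right)) (lt_of_le_of_ne inf_le_left fun e => ?_)⟩
    refine inf_CC_ne_bot' pV' (isPGroup_bar syl.isPGroup) (bar_le_NN hVL (syl.le.trans norm))
      (fun e1 => um'.2.1.ne_bot (by rw [← fa, e1, CC_bot, inf_top_eq])) ?_
    obtain ⟨U, hU, e1⟩ := exists_bar_eq hVL (inf_le_left : bar L Y V ⊓ CC(bar L Y T) ≤ _)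
    rw [← e1] at e ⊢
    exact (bar_eq_bot (hU.trans hVL)).2 (le_inf hU (le_CC_symm (key U hU P le_rfl
      ((bar_le_CC_iff (hU.trans hVL) hP).1 (le_CC_symm (e.ge.trans inf_le_right))))))
  have c := h.ctx
  have he' : IsElementaryAbelian p (bar L Y B) := elab_map _ (elab_subgroupOf he L)
  have k1 := c.nov _ (bar_mono hB) he'
  have k2 := card_bar_mul (W := Y) hVL
  have k3 := card_bar_mul (W := Y) (hB.trans hP)
  have k4 := card_bar_mul (W := Y) ((inf_le_left : V ⊓ CC(B) ≤ V).trans hVL)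
  rw [eq_bot_iff.2 ((inf_le_inf_right Y hB).trans hW.le), card_bot, mul_one] at k3
  rw [inf_eq_right.2 (inf_le_left : Y ≤ V)] at k2
  have k5 : bar L Y (V ⊓ CC(B)) ≤ bar L Y V ⊓ CC(bar L Y B) := le_inf (bar_mono inf_le_left)
    ((bar_le_CC_iff (inf_le_left.trans hVL) (hB.trans hP)).2
      ((comm_eq_bot.2 inf_le_right).le.trans bot_le))
  have k6 := card_le_of_le k5
  have k7 := card_le_of_le (inf_le_right : V ⊓ CC(B) ⊓ Y ≤ Y)
  rw [meas_def, k3] at k1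
  rw [meas_def, ← k2, ← k4] at h1
  have hb : 0 < Nat.card B := Nat.card_pos
  have hy : 0 < Nat.card Y := Nat.card_pos
  have hz : 0 < Nat.card (bar L Y (V ⊓ CC(B))) := Nat.card_pos
  have k8 : Nat.card Y ≤ Nat.card (V ⊓ CC(B) ⊓ Y : Subgroup G) :=
    Nat.le_of_mul_le_mul_left ((Nat.mul_le_mul_right _ ((Nat.mul_le_mul_left (Nat.card B) k6).trans
      k1)).trans (h1.trans (mul_assoc _ _ _).ge)) (Nat.mul_pos hb hz)
  have k9 : Nat.card (bar L Y V) ≤ Nat.card B * Nat.card (bar L Y (V ⊓ CC(B))) :=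
    Nat.le_of_mul_le_mul_right (h1.trans (by
      rw [mul_assoc]; exact Nat.mul_le_mul_left _ (Nat.mul_le_mul_left _ k7))) hy
  have YB : Y ≤ CC(B) := (eq_of_le_of_card_ge inf_le_right k8).ge.trans (inf_le_left.trans inf_le_right)
  have e2 := eq_of_le_of_card_ge k5 (Nat.le_of_mul_le_mul_left (k1.trans k9) hb)
  have of' : Nat.card (bar L Y V) ≤ meas (bar L Y V) (bar L Y B) := by rw [meas_def, k3, ← e2]; exact k9
  obtain ⟨A, hAB, hA⟩ := h.exists_pt (bar_mono hB) he' (fun e => h0 (b0 B hB e)) of'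
  have hAT := hAB.trans (bar_mono hBT)
  obtain ⟨X, hX⟩ := h.exists_fam fun e => hA.ne_bot (eq_bot_iff.2 ((hA.le_JD hAT).trans e.le))
  have g := hX.good A hA hAT
  have n1 := hX.le_NN hA hAT
  have q1 : ⁅bar L Y V, A⁆ ≤ CC(bar L Y B) := (commutator_mono le_rfl (hA.le_JD hAT)).trans
    ((c.JD_quad h.syl.isPGroup).trans (CC_anti (hX.le_JD _ (bar_mono hBT) he' of')))
  have oth : ∀ t ∈ bar L Y T, t ∉ NN(A) → cj t (⁅bar L Y V, X A⁆ ⊓ CC(A)) ≤ CC(X A) := fun t ht hn => by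
    rw [cj_inf, c.cjW (h.syl.le ht), hX.equiv A hA hAT t ht, cj_centralizer]
    exact g.comm_inf_le (hX.good _ (hX.pt_cj hA ht) (cj_le_of_mem ht hAT))
      fun e => hn (mem_NN.2 e.symm)
  have sy := g.line.sylow c g.leP hA
  have ln := g.line
  obtain ⟨X₁, hX₁, e3⟩ := exists_bar_eq hP g.leP
  rw [← e3] at n1 oth sy ln
  obtain ⟨A, hAP, rfl⟩ := exists_bar_eq hP hA.le
  replace hAB := (bar_le_bar_iff hP hW hAP hB).1 hAB
  have hAX := (bar_le_bar_iff hP hW hAP hX₁).1 ln.le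
  obtain ⟨x, hx, hxn⟩ := ln.ex
  obtain ⟨x, hx, rfl⟩ := hx
  replace hx : (x : G) ∈ X₁ := hx
  have gen := ln.gen (mem_bar x.2 hx) hxn
  rw [← bar_cj x.2 (hAP.trans hP), ← bar_sup (hAP.trans hP) ((cj_le_of_mem (hX₁ hx) hAP).trans hP),
    bar_inj hP hW (sup_le hAP (cj_le_of_mem (hX₁ hx) hAP)) hX₁] at gen
  have XY : X₁ ≤ CC(Y) := by
    rw [← gen]
    refine sup_le (hAB.trans (le_CC_symm YB)) ?_
    rw [← cj_eq_of_mem_NN (PY (hX₁ hx)), ← cj_centralizer]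
    exact cj_mono _ (hAB.trans (le_CC_symm YB))
  have sy' : IsSylowIn p A X₁ := isSylowIn_of_not_dvd hAX ((elab_isPGroup he).to_le hAB) fun h2 =>
    sy.not_dvd_relIndex (by
      have a1 := card_bar_mul (W := Y) (hAP.trans hP)
      have a2 := card_bar_mul (W := Y) (hX₁.trans hP)
      rw [eq_bot_iff.2 ((inf_le_inf_right Y hAP).trans hW.le), card_bot, mul_one] at a1
      rw [eq_bot_iff.2 ((inf_le_inf_right Y hX₁).trans hW.le), card_bot, mul_one] at a2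
      have a3 := ((bar L Y A).subgroupOf (bar L Y X₁)).card_mul_index
      have a4 := (A.subgroupOf X₁).card_mul_index
      rw [card_subgroupOf_of_le ln.le, a1, a2, ← a4, card_subgroupOf_of_le hAX] at a3
      rwa [relIndex, Nat.eq_of_mul_eq_mul_left Nat.card_pos a3])
  have T1 : bar L Y (T ⊓ NN(A)) ≤ bar L Y T ⊓ NN(bar L Y A) :=
    le_inf (bar_mono inf_le_left) (bar_le_NN (hAP.trans hP) inf_le_right)
  have T2 : T ⊓ NN(A) ≤ NN(X₁) := le_NN_of_bar hP hW (inf_le_left.trans syl.le) hX₁ (T1.trans n1)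
  have wV : ⁅V, X₁⁆ ≤ V := comm_le_left (hX₁.trans norm)
  have q2 : ⁅V, A⁆ ≤ CC(A) := by
    have := (le_inf (comm_le_left (hA.le.trans c.norm)) q1).trans e2.ge
    rw [← bar_commutator hVL (hAP.trans hP), bar_le_bar ((comm_le_left (hAP.trans norm)).trans hVL)
      (inf_le_left.trans hVL)] at this
    exact this.trans (sup_le (inf_le_right.trans (CC_anti hAB)) (inf_le_right.trans
      (YB.trans (CC_anti hAB))))
  have main : ¬ ⁅V, X₁⁆ ⊓ CC(A) ⊓ CC(T ⊓ NN(A)) ≤ CC(X₁) := fun h2 => by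
    have := sy'.inf_CC_le (pV.to_le wV) (wV.trans (hV.trans (CC_anti wV))) (right_le_NN_comm _ _)
      (syl.isPGroup.to_le inf_le_left) (le_NN_commutator (inf_le_left.trans (syl.le.trans norm)) T2) T2
      inf_le_right h2
    have h3 := (le_inf (commutator_mono le_rfl hAX) q2).trans this
    refine ln.not_le (le_CC_symm fun a ha => ?_)
    rw [ln.eq_one_of_comm ha fun v hv => ?_]
    · exact Subgroup.one_mem _
    refine (bar_le_CC_iff ((comm_le_left (hAP.trans norm)).trans hVL) (hX₁.trans hP)).2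
      ((comm_eq_bot.2 h3).le.trans bot_le) ?_
    rw [bar_commutator hVL (hAP.trans hP)]
    exact comm_mem_comm ha hv
  obtain ⟨u, ⟨⟨u1, u2⟩, u3⟩, u4⟩ := SetLike.not_le_iff_exists.1 main
  obtain ⟨v, hv, v1⟩ := exists_trace hV (syl.le.trans norm) (inf_le_left : T ⊓ NN(A) ≤ T) (wV u1) u3
    (W := unbar L Y CC(bar L Y X₁)) fun t ht hn => by
      have tL := hP (syl.le ht)
      have uL := hVL (wV u1)
      rw [mem_unbar (L.mul_mem (L.mul_mem tL uL) (L.inv_mem tL))]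
      refine oth _ (mem_bar tL ht) (fun h2 => hn ⟨ht, le_NN_of_bar hP hW (zpowers_le.2 (syl.le ht)) hAP
        ?_ (mem_zpowers t)⟩) (conj_mem_cj (x := ((⟨u, uL⟩ : L) : L ⧸ Y.subgroupOf L))
          (mem_inf.2 ⟨?_, ?_⟩))
      · rw [bar_le_iff (zpowers_le.2 tL), zpowers_le, mem_unbar tL]; exact h2
      · rw [← bar_commutator hVL (hX₁.trans hP)]; exact mem_bar _ u1
      · exact (bar_le_CC_iff (zpowers_le.2 uL) (hAP.trans hP)).2 ((comm_eq_bot.2
          (zpowers_le.2 u2)).le.trans bot_le) (mem_bar _ (mem_zpowers u))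
  have v2 : v ∈ unbar L Y CC(bar L Y X₁) := inf_le_unbar _
    ⟨hVL hv.1, hv.1, CC_anti (resOf_le P) (hc hv)⟩
  have v3 : ⁅zpowers u, X₁⁆ ≤ Y := by
    rw [← bar_le_CC_iff (zpowers_le.2 (hVL (wV u1))) (hX₁.trans hP),
      bar_le_iff (zpowers_le.2 (hVL (wV u1))), zpowers_le]
    exact (Subgroup.inv_mem_iff _).1 ((Subgroup.mul_mem_cancel_right _ v2).1 v1)
  refine u4 ?_
  have v4 : ∀ y ∈ X₁, y * u * y⁻¹ * u⁻¹ ∈ CC(X₁) := fun y hy => le_CC_symm XY (by
    rw [commutator_comm] at v3; exact v3 (commutator_mem_commutator hy (mem_zpowers u)))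
  rw [← gen, CC_sup]
  refine mem_inf.2 ⟨u2, ?_⟩
  rw [← cj_centralizer, mem_cj]
  have := (CC(A)).mul_mem (CC_anti hAX (v4 _ (X₁.inv_mem hx))) u2
  rwa [inv_mul_cancel_right, inv_inv] at this

end H12
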