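import Cfsg.Agent.H12.FF10
import Cfsg.Agent.H4.FF5

/-! The structure theorem for a `p`-minimal group acting (not necessarily faithfully) on a normal
elementary abelian subgroup. -/

set_option autoImplicit false
set_option linter.unusedSectionVars false

open Cfsg Subgroup H10
open H4 (meas meas_def meas_bot Hol hV hφ ker_hφ)
open scoped commutatorElement MatrixGroups

namespace H12

variable {G : Type*} [Group G] {p : ℕ}

section Transport
variable {G' : Type*} [Group G'] {E U Z : Subgroup G} {E' U' Z' : Subgroup G'}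

theorem actsAsSL2_of_hom {F : Type*} [Field F] {R : Subgroup SL(2, F)} (f : E →* E') (g : U →* U')
    (hf : Function.Surjective f) (hg : Function.Surjective g) (hn : E ≤ NN(U)) (hZ : Z ≤ U)
    (hz : ∀ u : U, (g u : G') ∈ Z' ↔ (u : G) ∈ Z)
    (hc : ∀ (e : E) (u w : U), (w : G) = e * u * (e : G)⁻¹ → (g w : G') = f e * g u * (f e : G')⁻¹)
    (h : ActsAsSL2OnSection F R E' U' Z') : ActsAsSL2OnSection F R E U Z := by
  obtain ⟨ρ, ψ, h1, h2⟩ := actsAs_iff.1 h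
  exact actsAs_iff.2 ⟨ρ.comp f, ψ.comp g, by
    rw [MonoidHom.range_comp, MonoidHom.range_eq_top.2 hf, ← MonoidHom.range_eq_map, h1],
    hn, hZ, h2.surj.comp hg, fun u => (h2.ker _).trans (hz u),
    fun e u w hw => h2.act _ _ _ (hc e u w hw)⟩

theorem actsAsPerm_of_hom [Finite G] [Finite G'] {n : ℕ} {R : Subgroup (Equiv.Perm (Fin n))} (f : E →* E') (g : U →* U')
    (hf : Function.Surjective f) (hg : Function.Surjective g) (hn : E ≤ NN(U)) (hZ : Z ≤ U)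
    (hz : ∀ u : U, (g u : G') ∈ Z' ↔ (u : G) ∈ Z)
    (hc : ∀ (e : E) (u w : U), (w : G) = e * u * (e : G)⁻¹ → (g w : G') = f e * g u * (f e : G')⁻¹)
    (h : ActsAsOddPermModuleOnSection n R E' U' Z') : ActsAsOddPermModuleOnSection n R E U Z := by
  obtain ⟨ρ, ψ, h1, h2⟩ := actsAsPerm_iff.1 h
  exact actsAsPerm_iff.2 ⟨ρ.comp f, ψ.comp g, by
    rw [MonoidHom.range_comp, MonoidHom.range_eq_top.2 hf, ← MonoidHom.range_eq_map, h1],
    hn, hZ, fun u => h2.even _, fun v hv => let ⟨u, hu⟩ := h2.surj v hv; let ⟨w, hw⟩ := hg u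
      ⟨w, by rw [← hu, ← hw]; rfl⟩, fun u => (h2.ker _).trans (hz u),
    fun e u w hw => h2.act _ _ _ (hc e u w hw)⟩

end Transport

section Lift
variable (V : Subgroup G)

/-- a subgroup of `V` viewed in the holomorph -/
def hl (U : Subgroup G) : Subgroup (Hol V) := (U.subgroupOf V).map SemidirectProduct.inl

variable {V} {A B E U : Subgroup G}

theorem inl_mem_hl {v : V} : SemidirectProduct.inl v ∈ hl V U ↔ (v : G) ∈ U :=
  mem_map_iff_mem SemidirectProduct.inl_injective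

theorem hl_self : hl V V = hV V := by rw [hl, subgroupOf_self, ← MonoidHom.range_eq_map]

theorem hl_le_hl (hA : A ≤ V) : hl V A ≤ hl V B ↔ A ≤ B :=
  ⟨fun h a ha => inl_mem_hl.1 (h (inl_mem_hl (v := ⟨a, hA ha⟩).2 ha)),
    fun h => map_mono (comap_mono h)⟩

theorem hl_inj (hA : A ≤ V) (hB : B ≤ V) : hl V A = hl V B ↔ A = B := by
  rw [le_antisymm_iff, le_antisymm_iff, hl_le_hl hA, hl_le_hl hB]

theorem hl_inf : hl V (A ⊓ B) = hl V A ⊓ hl V B := by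
  rw [hl, hl, hl, ← map_inf _ _ _ SemidirectProduct.inl_injective]; rfl

theorem hl_sup (hA : A ≤ V) (hB : B ≤ V) : hl V (A ⊔ B) = hl V A ⊔ hl V B := by
  rw [hl, subgroupOf_sup hA hB, Subgroup.map_sup]; rfl

theorem hl_iSup {ι : Sort*} {U : ι → Subgroup G} (h : ∀ i, U i ≤ V) :
    hl V (⨆ i, U i) = ⨆ i, hl V (U i) := by
  have : (⨆ i, U i).subgroupOf V = ⨆ i, (U i).subgroupOf V := by
    apply map_injective V.subtype_injective
    simp only [Subgroup.map_iSup, subgroupOf_map_subtype, inf_eq_left.2 (h _),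
      inf_eq_left.2 (iSup_le h)]
  rw [hl, this, Subgroup.map_iSup]; rfl

variable [V.Normal]

theorem hφ_conj (g : G) (v w : V) (h : (w : G) = g * v * g⁻¹) :
    (SemidirectProduct.inl w : Hol V) = hφ V g * SemidirectProduct.inl v * (hφ V g)⁻¹ := by
  rw [show w = MulAut.conjNormal g v from Subtype.ext h]
  exact (H4.hol_conj _ v).symm

theorem hl_CC : hl V CC(E) = hV V ⊓ CC(E.map (hφ V)) := (H4.hV_inf_cent E).symm

theorem hl_inf_CC : hl V (U ⊓ CC(E)) = hl V U ⊓ CC(E.map (hφ V)) := by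
  rw [hl_inf, hl_CC, ← inf_assoc, inf_eq_left.2 (show hl V U ≤ hV V from map_le_range _ _)]

theorem hl_le_CC (hU : U ≤ V) : hl V U ≤ CC(E.map (hφ V)) ↔ U ≤ CC(E) := by
  rw [← inf_eq_left, ← hl_inf_CC, hl_inj (inf_le_left.trans hU) hU, inf_eq_left]

theorem hl_comm (hU : U ≤ V) : hl V ⁅U, E⁆ = ⁅hl V U, E.map (hφ V)⁆ := by
  have key : ∀ u (hu : u ∈ U) (e : G), ∃ h : ⁅u, e⁆ ∈ V, (SemidirectProduct.inl ⟨_, h⟩ : Hol V) =
      ⁅(SemidirectProduct.inl (⟨u, hU hu⟩ : V) : Hol V), hφ V e⁆ := fun u hu e => by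
    have h1 : e * u⁻¹ * e⁻¹ ∈ V := ‹V.Normal›.conj_mem _ (V.inv_mem (hU hu)) e
    refine ⟨by simpa [commutatorElement_def, mul_assoc] using V.mul_mem (hU hu) h1, ?_⟩
    rw [commutatorElement_def (SemidirectProduct.inl _ : Hol V), mul_assoc (SemidirectProduct.inl _),
      mul_assoc (SemidirectProduct.inl _), ← map_inv, ← hφ_conj e _ ⟨_, h1⟩ rfl, ← map_mul]
    exact congrArg _ (Subtype.ext (by simp [commutatorElement_def, mul_assoc]))
  refine le_antisymm ?_ (commutator_le.2 ?_)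
  · have : ⁅U, E⁆ ≤ ((⁅hl V U, E.map (hφ V)⁆).comap SemidirectProduct.inl).map V.subtype :=
      commutator_le.2 fun u hu e he => let ⟨h1, h2⟩ := key u hu e
        ⟨⟨_, h1⟩, by
          rw [SetLike.mem_coe, mem_comap, h2]
          exact commutator_mem_commutator ((inl_mem_hl (v := ⟨u, hU hu⟩)).2 hu)
            (mem_map_of_mem _ he), rfl⟩
    rintro _ ⟨v, hv, rfl⟩
    obtain ⟨w, hw, e⟩ := this hv
    rwa [← show w = v from Subtype.ext e]
  · rintro _ ⟨v, hv, rfl⟩ _ ⟨e, he, rfl⟩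
    obtain ⟨h1, h2⟩ := key v hv e
    exact h2 ▸ inl_mem_hl.2 (commutator_mem_commutator hv he)

/-- the structure of a component modulo the centralizer of `V` -/
def CompStrQ (p : ℕ) (V E : Subgroup G) : Prop :=
  ∃ n : ℕ, 1 ≤ n ∧ ((∃ (F : Type) (_ : Field F) (_ : Fintype F), Fintype.card F = p ^ n ∧
    (∃ _ : (CC(V).subgroupOf E).Normal, Nonempty (E ⧸ CC(V).subgroupOf E ≃* SL(2, F))) ∧
      ActsAsSL2OnSection F ⊤ E ⁅V, E⁆ (⁅V, E⁆ ⊓ CC(E))) ∨
    (p = 2 ∧ (∃ _ : (CC(V).subgroupOf E).Normal,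
      Nonempty (E ⧸ CC(V).subgroupOf E ≃* Equiv.Perm (Fin (2 ^ n + 1)))) ∧
      ActsAsOddPermModuleOnSection (2 ^ n + 1) ⊤ E ⁅V, E⁆ (⁅V, E⁆ ⊓ CC(E))))

theorem compStrQ_of [Finite G] (h : Fam.CompStr p (hV V) (E.map (hφ V))) : CompStrQ p V E := by
  have hW : ⁅V, E⁆ ≤ V := commutator_le_left V E
  let f : E →* E.map (hφ V) := (hφ V).subgroupMap E
  have hf : Function.Surjective f := (hφ V).subgroupMap_surjective E
  have hk : CC(V).subgroupOf E = f.ker := by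
    ext e; rw [mem_subgroupOf, ← ker_hφ, MonoidHom.mem_ker, MonoidHom.mem_ker, Subtype.ext_iff]; rfl
  have e1 : hl V ⁅V, E⁆ = ⁅hV V, E.map (hφ V)⁆ := by rw [hl_comm le_rfl, hl_self]
  let g : (⁅V, E⁆ : Subgroup G) →* (⁅hV V, E.map (hφ V)⁆ : Subgroup (Hol V)) :=
    (SemidirectProduct.inl.comp (inclusion hW)).codRestrict _ fun u => e1 ▸ inl_mem_hl.2 u.2
  have hg : Function.Surjective g := fun ⟨u, hu⟩ => by
    obtain ⟨v, hv, rfl⟩ := e1.ge hu
    exact ⟨⟨v, hv⟩, rfl⟩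
  have hz : ∀ u, (g u : Hol V) ∈ ⁅hV V, E.map (hφ V)⁆ ⊓ CC(E.map (hφ V)) ↔
      (u : G) ∈ ⁅V, E⁆ ⊓ CC(E) := fun u => by
    have := inl_mem_hl (U := ⁅V, E⁆ ⊓ CC(E)) (v := inclusion hW u)
    rwa [hl_inf_CC, e1] at this
  have hc : ∀ (e : E) (u w : (⁅V, E⁆ : Subgroup G)), (w : G) = e * u * (e : G)⁻¹ →
      (g w : Hol V) = f e * g u * (f e : Hol V)⁻¹ := fun e u w hw =>
    hφ_conj (e : G) (inclusion hW u) (inclusion hW w) hw
  have hq : ∀ {H : Type} [Group H], Nonempty (E.map (hφ V) ≃* H) →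
      ∃ _ : (CC(V).subgroupOf E).Normal, Nonempty (E ⧸ CC(V).subgroupOf E ≃* H) := fun ⟨e⟩ =>
    ⟨inferInstance, ⟨((QuotientGroup.quotientMulEquivOfEq hk).trans
      (QuotientGroup.quotientKerEquivOfSurjective f hf)).trans e⟩⟩
  obtain ⟨n, n1, ⟨F, _, _, h1, h2, h3⟩ | ⟨h1, h2, h3⟩⟩ := h
  · exact ⟨n, n1, Or.inl ⟨F, inferInstance, inferInstance, h1, hq h2,
      actsAsSL2_of_hom f g hf hg (right_le_NN_comm _ _) inf_le_left hz hc h3⟩⟩
  · exact ⟨n, n1, Or.inr ⟨h1, hq h2,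
      actsAsPerm_of_hom f g hf hg (right_le_NN_comm _ _) inf_le_left hz hc h3⟩⟩

end Lift

/-- the conclusion of the structure theorem, modulo the centralizer of `V` -/
structure FFQ (p : ℕ) (V T : Subgroup G) {r : ℕ} (E : Fin r → Subgroup G) : Prop where
  pos : 1 ≤ r
  cle : ∀ i, CC(V) ≤ E i
  comm : ∀ i j, i ≠ j → ⁅E i, E j⁆ ≤ CC(V)
  ind : ∀ i, E i ⊓ (⨆ j ∈ {j | j ≠ i}, E j) ≤ CC(V)
  sup : (⨆ i, E i) ⊔ T = ⊤
  conj : ∀ i j, ∃ t ∈ T, cj t (E i) = E j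
  perm : ∀ i, ∀ t ∈ T, ∃ j, cj t (E i) = E j
  dec : V ⊓ CC(⨆ i, E i) ⊔ ⨆ i, ⁅V, E i⁆ = V
  dec1 : ∀ i, V ≤ ⁅V, E i⁆ ⊔ V ⊓ CC(E i)
  comm' : ∀ i j, i ≠ j → ⁅V, E i⁆ ≤ CC(E j)
  str : ∀ i, CompStrQ p V (E i)
  normal : (⨆ i, E i).Normal
  off : ∀ B : Subgroup G, IsElementaryAbelian p B →
    Nat.card V * Nat.card (B ⊓ CC(V) : Subgroup G) ≤ meas V B → B ≤ ⨆ i, E i
  min : ∀ N B : Subgroup G, N.Normal → B ≤ N → IsElementaryAbelian p B → ¬ B ≤ CC(V) →
    Nat.card V * Nat.card (B ⊓ CC(V) : Subgroup G) ≤ meas V B → ⨆ i, E i ≤ N ⊔ CC(V)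

variable [Finite G] [Fact p.Prime] {V T M : Subgroup G}

theorem off_map [V.Normal] {B : Subgroup G}
    (h : Nat.card V * Nat.card (B ⊓ CC(V) : Subgroup G) ≤ meas V B) :
    Nat.card (hV V) ≤ meas (hV V) (B.map (hφ V)) := by
  rw [← H4.meas_map_hφ, ← H4.card_hV] at h
  exact Nat.le_of_mul_le_mul_right h Nat.card_pos

theorem FFStr.ffq [V.Normal] {r : ℕ} {E : Fin r → Subgroup (Hol V)}
    (h : FFStr p (hV V) ((⊤ : Subgroup G).map (hφ V)) (T.map (hφ V)) E) :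
    FFQ p V T fun i => (E i).comap (hφ V) := by
  have m : ∀ i, ((E i).comap (hφ V)).map (hφ V) = E i := fun i =>
    map_comap_eq_self (by rw [MonoidHom.range_eq_map]; exact h.le i)
  have k : ∀ i, CC(V) ≤ (E i).comap (hφ V) := fun i => ker_hφ (V := V) ▸ ker_le_comap _ _
  have z : ∀ {K : Subgroup G}, K.map (hφ V) = ⊥ → K ≤ CC(V) := fun h =>
    ker_hφ (V := V) ▸ (Subgroup.map_eq_bot_iff _).1 h
  have ms : (⨆ i, (E i).comap (hφ V)).map (hφ V) = ⨆ i, E i := by simp only [Subgroup.map_iSup, m]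
  have ks : CC(V) ≤ ⨆ i, (E i).comap (hφ V) := le_iSup_of_le ⟨0, h.pos⟩ (k _)
  have le : ∀ {K L : Subgroup G}, CC(V) ≤ L → K.map (hφ V) ≤ L.map (hφ V) → K ≤ L := fun h1 h2 => by
    rwa [Subgroup.map_le_map_iff, ker_hφ, sup_eq_left.2 h1] at h2
  have cjm : ∀ {i j} {t : G}, cj (hφ V t) (E i) = E j →
      cj t ((E i).comap (hφ V)) = (E j).comap (hφ V) := fun {i j t} e => by
    ext x; rw [mem_cj, mem_comap, mem_comap, ← e, mem_cj, map_mul, map_mul, map_inv]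
  have hW : ∀ K : Subgroup G, ⁅V, K⁆ ≤ V := fun K => commutator_le_left V K
  have e1 : ∀ i, hl V ⁅V, (E i).comap (hφ V)⁆ = ⁅hV V, E i⁆ := fun i => by
    rw [hl_comm le_rfl, hl_self, m]
  refine ⟨h.pos, k, fun i j hij => z ?_, fun i => z ?_, eq_top_iff.2 (le (ks.trans le_sup_left) ?_),
    fun i j => ?_, fun i t ht => ?_, ?_, fun i => ?_, fun i j hij => ?_,
    fun i => compStrQ_of (by rw [m]; exact h.str i), ?_, fun B b1 b2 => le ks ?_,
    fun N B n1 n2 b1 b2 b3 => le le_sup_right ?_⟩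
  · rw [map_commutator, m, m]; exact comm_eq_bot.2 (h.comm i j hij)
  · refine eq_bot_iff.2 ((map_inf_le _ _ _).trans ?_)
    simp only [Subgroup.map_iSup, m]
    exact (h.ind i).le
  · rw [Subgroup.map_sup, ms, h.sup]
  · obtain ⟨_, ⟨t, ht, rfl⟩, e⟩ := h.conj i j
    exact ⟨t, ht, cjm e⟩
  · obtain ⟨j, e⟩ := h.perm i _ (mem_map_of_mem _ ht)
    exact ⟨j, cjm e⟩
  · rw [← hl_inj (sup_le inf_le_left (iSup_le fun _ => hW _)) le_rfl,
      hl_sup inf_le_left (iSup_le fun _ => hW _), hl_iSup fun _ => hW _, hl_inf_CC, hl_self, ms]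
    simp only [e1]
    exact h.dec
  · rw [← hl_le_hl le_rfl, hl_sup (hW _) inf_le_left, e1, hl_inf_CC, hl_self, m]
    exact h.dec1 i
  · rw [← hl_le_CC (hW _), e1, m]; exact h.comm' i j hij
  · refine ⟨fun x hx g => le ks (K := zpowers (g * x * g⁻¹)) ?_ (mem_zpowers _)⟩
    rw [MonoidHom.map_zpowers, zpowers_le, ms, map_mul, map_mul, map_inv]
    exact conj_mem_of_mem_NN (h.norm (mem_map_of_mem _ (mem_top g))) (ms ▸ mem_map_of_mem _ hx)
  · rw [ms]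
    exact h.off _ (map_mono le_top) (elab_map _ b1) (off_map b2)
  · rw [ms]
    refine (h.min (N.map (hφ V)) _ ?_ (map_mono n2) (map_mono le_top) (elab_map _ b1)
      (fun e => b2 (z e)) (off_map b3)).trans (map_mono le_sup_left)
    exact le_normalizer_map _ |>.trans' (map_mono le_normalizer_of_normal)

theorem umax_inf_le {P N : Subgroup G} (hT : IsSylowIn p T P) (hM : UMax T M P) (h1 : N ≤ M)
    (h2 : P ≤ NN(N)) : T ⊓ N ≤ pCoreOf p P :=
  le_pCoreOf (hT.isPGroup.to_le inf_le_left) (inf_le_left.trans hT.le) (by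
    by_contra h3
    have h4 := hM.2.2 (P ⊓ NN(T ⊓ N)) (le_inf hT.le (le_NN_inf (le_NN_self T) (hT.le.trans h2)))
      (lt_of_le_of_ne inf_le_left fun e => h3 (e.ge.trans inf_le_right))
    have h5 := h1.trans hM.2.1.le
    exact hM.2.1.not_ge (((hT.inf_normal h5 h2).frattini_sup h5 h2).ge.trans (sup_le h1 h4)))

theorem exists_ffq [V.Normal] (hV : IsElementaryAbelian p V) (hT : IsSylowIn p T ⊤)
    (hM : UMax T M ⊤) (hn : ¬ ⊤ ≤ NN(T)) (hQ : pCoreOf p ⊤ ≤ CC(V)) (hC : CC(V ⊓ CC(T)) ≤ M)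
    {B : Subgroup G} (he : IsElementaryAbelian p B) (h0 : ¬ B ≤ CC(V))
    (h1 : Nat.card V * Nat.card (B ⊓ CC(V) : Subgroup G) ≤ meas V B) :
    ∃ (r : ℕ) (E : Fin r → Subgroup G), FFQ p V T E := by
  have hCM : CC(V) ≤ M := (CC_anti inf_le_left).trans hC
  have hk : (hφ V).ker ≤ M := (ker_hφ (V := V)).le.trans hCM
  have um : UMax (T.map (hφ V)) (M.map (hφ V)) ((⊤ : Subgroup G).map (hφ V)) :=
    ⟨map_mono hM.1, lt_of_le_of_ne (map_mono le_top) fun e => hM.2.1.not_ge (by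
      have := e.ge; rwa [Subgroup.map_le_map_iff, sup_eq_left.2 hk] at this), fun X x1 x2 => by
      have := hM.2.2 (X.comap (hφ V)) (map_le_iff_le_comap.1 x1) (lt_top_iff_ne_top.2 fun e =>
        x2.not_ge (map_le_iff_le_comap.2 e.ge))
      rw [← map_comap_eq_self (H := X) (x2.le.trans (map_le_range _ _))]
      exact map_mono this⟩
  have syl := hT.map (hφ V)
  have op : pCoreOf p ((⊤ : Subgroup G).map (hφ V)) = ⊥ := by
    set N := (pCoreOf p ((⊤ : Subgroup G).map (hφ V))).comap (hφ V)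
    have n1 : ⊤ ≤ NN(N) := (le_normalizer_comap _).trans' (map_le_iff_le_comap.1 (le_NN_pCoreOf _))
    have n2 : N ≤ T ⊔ (hφ V).ker := Subgroup.map_le_map_iff.1 ((map_comap_le _ _).trans syl.pCoreOf_le)
    have n3 := umax_inf_le hT hM (n2.trans (sup_le hM.1 hk)) n1
    rw [← map_comap_eq_self (H := pCoreOf p _) ((pCoreOf_le _).trans (map_le_range _ _)),
      Subgroup.map_eq_bot_iff]
    intro x hx
    obtain ⟨t, ht, c, hc, rfl⟩ := (mem_sup_of_NN (le_normalizer_of_normal : T ≤ _)).1 (n2 hx)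
    exact Subgroup.mul_mem _ ((ker_hφ (V := V)).ge (hQ (n3 ⟨ht, (N.mul_mem_cancel_right
      (ker_le_comap _ _ hc)).1 hx⟩))) hc
  have b0 : B.map (hφ V) ≠ ⊥ := fun e => h0 (ker_hφ (V := V) ▸ (Subgroup.map_eq_bot_iff _).1 e)
  have h : Hyp p (H4.hV V) ((⊤ : Subgroup G).map (hφ V)) (T.map (hφ V)) (M.map (hφ V)) := by
    refine ⟨H4.elemAb_hV hV, fun g _ => H4.hol_mem_norm g, H4.map_hφ_inf_cent _, syl, um, fun h2 => ?_,
      op, ?_⟩
    · obtain ⟨x, -, h3⟩ := syl.exists_cj_le (elab_isPGroup (elab_map (hφ V) he)) (map_mono le_top)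
      exact b0 (cj_eq_bot.1 (eq_bot_iff.2 (h3.trans ((le_pCoreOf syl.isPGroup syl.le h2).trans op.le))))
    · rintro _ ⟨⟨g, -, rfl⟩, hg⟩
      refine mem_map_of_mem _ (hC (le_CC_symm ((hl_le_CC inf_le_left).1 ?_) (mem_zpowers g)))
      rw [hl_inf_CC, hl_self, MonoidHom.map_zpowers]
      exact le_CC_symm (zpowers_le.2 hg)
  obtain ⟨r, E, h2⟩ := h.ffStr (map_mono le_top) (elab_map _ he) b0 (off_map h1)
  exact ⟨r, _, h2.ffq⟩

end H12
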