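import Cfsg.Agent.H12.FF1
import Cfsg.Agent.H4.PConstr
import Cfsg.Agent.H4.WS

/-! `J(S)` is normal in `Qd(p)`-free groups of characteristic `p` with Sylow class at most two. -/

set_option autoImplicit false
set_option linter.unusedSectionVars false

open Cfsg Subgroup H10
open scoped commutatorElement

namespace H12

variable {G : Type*} [Group G] [Finite G] {p : ℕ} [hp : Fact p.Prime]

theorem le_NN_thompson_of_class_two {S H : Subgroup G} (hS : IsSylowIn p S H) (hc : CharPIn p H)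
    (hq : ¬ H4.IsSec (qd p) H) (hcl : ⁅⁅S, S⁆, S⁆ = ⊥) : H ≤ NN(thompsonSubgroupOf p S) := by
  by_contra h
  have h0 := H4.normalizer_le_normalizer_thompsonOf (n := p) S
  obtain ⟨K, h3, h4, h5⟩ := exists_umax_of_not_le hS.le ((le_NN_self S).trans h0) h
  have hSK := h5.1.trans inf_le_left
  have hS' := hS.of_le hSK h3
  have hc' := hc.of_sylow_le hS hSK h3
  refine hq ((isSec_qd_of_pmin hS' h5 hc' h4 fun h6 => h4 ?_).mono h3)
  have h7 := center_le_CC_of_ZO hS' hc' h6
  have h8 : ⁅S, S⁆ ≤ K ⊓ CC(K) := le_inf ((comm_le_of_le le_rfl le_rfl).trans hSK)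
    ((le_inf (comm_le_of_le le_rfl le_rfl) (comm_eq_bot.1 hcl)).trans h7)
  have h9 : ⁅ncl S K, pCoreOf p K⁆ ≤ K ⊓ CC(K) := comm_ncl_le
    ((commutator_mono le_rfl hS'.pCoreOf_le).trans h8)
    (hSK.trans (le_NN_inf (le_NN_self K) (le_NN_CC (le_NN_self K)))) (le_NN_pCoreOf K)
    (le_NN_inf (le_NN_self K) (le_NN_CC (le_NN_self K)))
  rw [h5.ncl_eq hS' fun h => h4 (h.trans h0), commutator_comm] at h9
  have h10 := hc'.isPGroup le_rfl (resOf_le_CC_of_quadratic ((isPGroup_pCoreOf K).to_le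
    (comm_le_left (le_NN_pCoreOf K))) (comm_eq_bot.2 (h9.trans inf_le_right)))
  exact ((hS'.eq_of_le h10 hSK le_rfl).le.trans (le_NN_self S)).trans h0

theorem sup_eq_top_of_class_two (hcon : IsPConstrained p G) (hq : ¬ H4.IsSec (qd p) (⊤ : Subgroup G))
    (S : Sylow p G) (hcl : ⁅⁅(S : Subgroup G), (S : Subgroup G)⁆, (S : Subgroup G)⁆ = ⊥) :
    NN(thompsonSubgroupOf p (S : Subgroup G)) ⊔ pPrimeCore p G = ⊤ := by
  have hN := H1.coprime_card_pPrimeCore (G := G) p
  have hs := QuotientGroup.mk'_surjective (pPrimeCore p G)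
  rw [sup_comm]
  refine H4.sup_normalizer_eq_top_of_map_normal _ hN (S.2.to_le (H4.thompsonOf_le _)) ?_
  rw [H4.map_thompsonOf _ (by
    rw [QuotientGroup.ker_mk']
    exact eq_bot_of_isPGroup_of_not_dvd (S.2.to_le inf_le_left) inf_le_right
      (H1.not_dvd_card_pPrimeCore hp.out))]
  refine normal_of_top_le_NN (le_NN_thompson_of_class_two ((isSylowIn_top S).map_top hs)
    (charPIn_top.2 (H4.isPConstrained_iff_quotient.1 hcon)) (fun h => hq (h.of_surjective hs)) ?_)
  rw [← Subgroup.map_commutator, ← Subgroup.map_commutator, hcl, Subgroup.map_bot]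

end H12
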