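import Cfsg.Agent.H12.FF3

/-! Points: minimal offenders in a group without over-offenders. -/

set_option autoImplicit false
set_option linter.unusedSectionVars false

open Cfsg Subgroup H10
open H4 (meas meas_def meas_bot)
open scoped commutatorElement

namespace H12

variable {G : Type*} [Group G] [Finite G] {p : ℕ} [Fact p.Prime]

/-- `P` acts faithfully on `V` without over-offenders -/
structure Ctx (p : ℕ) (V P : Subgroup G) : Prop where
  ea : IsElementaryAbelian p V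
  norm : P ≤ NN(V)
  faith : P ⊓ CC(V) = ⊥
  nov : ∀ A ≤ P, IsElementaryAbelian p A → meas V A ≤ Nat.card V

/-- `A` is a point -/
structure Pt (p : ℕ) (V P A : Subgroup G) : Prop where
  ea : IsElementaryAbelian p A
  line : ∃ X ≤ P, Line V X A

theorem comm_mem_of_NN {V : Subgroup G} {a v : G} (ha : a ∈ NN(V)) (hv : v ∈ V) : ⁅a, v⁆ ∈ V :=
  V.mul_mem (conj_mem_of_mem_NN ha hv) (V.inv_mem hv)

theorem comm_le_CC_of {V K L : Subgroup G} (h1 : ⁅V, K⁆ ≤ CC(L)) (h2 : K ≤ CC(L)) :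
    ⁅V, L⁆ ≤ CC(K) := by
  rw [commutator_comm]
  exact comm_eq_bot.1 (commutator_commutator_eq_bot_of_rotate (comm_eq_bot.2 h1)
    (by rw [comm_eq_bot.2 h2, commutator_bot_left]))

theorem exists_img {V : Subgroup G} (hV : V ≤ CC(V)) {a : G} (ha : a ∈ NN(V)) :
    ∃ D ≤ V, (∀ d, d ∈ D ↔ ∃ v ∈ V, ⁅a, v⁆ = d) ∧
      Nat.card D * Nat.card (V ⊓ CC(zpowers a) : Subgroup G) = Nat.card V := by
  let δ : V →* G := MonoidHom.mk' (fun v => ⁅a, (v : G)⁆) fun u v => by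
    calc ⁅a, (u : G) * v⁆ = ⁅a, (u : G)⁆ * (u * ⁅a, (v : G)⁆ * (u : G)⁻¹) := by
          simp only [commutatorElement_def]; group
      _ = _ := by rw [← hV u.2 _ (comm_mem_of_NN ha v.2), mul_inv_cancel_right]
  refine ⟨δ.range, by rintro _ ⟨v, rfl⟩; exact comm_mem_of_NN ha v.2,
    fun d => ⟨by rintro ⟨v, rfl⟩; exact ⟨v, v.2, rfl⟩, by rintro ⟨v, hv, rfl⟩; exact ⟨⟨v, hv⟩, rfl⟩⟩,
    ?_⟩
  rw [← index_ker, ← δ.ker.index_mul_card, ← card_subgroupOf_of_le (inf_le_left (b := CC(zpowers a)))]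
  congr 3
  ext v
  rw [MonoidHom.mem_ker, mem_subgroupOf, CC_zpowers]
  exact ⟨fun h => commutatorElement_eq_one_iff_mul_comm.2 (mem_centralizer_singleton_iff.1 h.2).symm,
    fun h => ⟨v.2, mem_centralizer_singleton_iff.2
      (commutatorElement_eq_one_iff_mul_comm.1 h).symm⟩⟩

variable {V P A B : Subgroup G}

namespace Ctx

theorem comm (h : Ctx p V P) : V ≤ CC(V) := elab_le_CC h.ea
theorem pow (h : Ctx p V P) : ∀ v ∈ V, v ^ p = 1 := (isElementaryAbelian_iff.1 h.ea).2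

theorem eq_one (h : Ctx p V P) {g : G} (hg : g ∈ P) (hc : g ∈ CC(V)) : g = 1 :=
  mem_bot.1 (h.faith.le ⟨hg, hc⟩)

theorem cjE (h : Ctx p V P) {g : G} (hg : g ∈ P) (B : Subgroup G) :
    cj g (V ⊓ CC(B)) = V ⊓ CC(cj g B) := by
  rw [cj_inf, cj_centralizer, cj_eq_of_mem_NN (h.norm hg)]

theorem cjW (h : Ctx p V P) {g : G} (hg : g ∈ P) (B : Subgroup G) :
    cj g ⁅V, B⁆ = ⁅V, cj g B⁆ := by
  rw [cj_commutator, cj_eq_of_mem_NN (h.norm hg)]

theorem le_CC_of (h : Ctx p V P) (hA : A ≤ P) (hB : B ≤ P) (h1 : ⁅V, A⁆ ≤ CC(B))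
    (h2 : ⁅V, B⁆ ≤ CC(A)) : A ≤ CC(B) :=
  comm_eq_bot.1 (eq_bot_iff.2 ((le_inf (comm_le_of_le hA hB) (comm_eq_bot.1
    (commutator_commutator_eq_bot_of_rotate (by rw [commutator_comm B]; exact comm_eq_bot.2 h2)
      (comm_eq_bot.2 h1)))).trans h.faith.le))

theorem elab_of_quad (h : Ctx p V P) (hA : A ≤ P) (hq : ⁅V, A⁆ ≤ CC(A)) :
    IsElementaryAbelian p A :=
  isElementaryAbelian_iff.2 ⟨h.le_CC_of hA hA hq hq, fun _ ha => h.eq_one (P.pow_mem (hA ha) p)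
    (pow_eq_one_of_stab h.pow (h.norm (hA ha)) (le_CC_symm hq ha) fun _ hv =>
      commutator_comm V A ▸ commutator_mem_commutator ha hv)⟩

theorem meas_sup (h : Ctx p V P) {J : Subgroup G} (hJ : J ≤ P) (he : IsElementaryAbelian p J)
    (hA : A ≤ J) (hB : B ≤ J) (h1 : Nat.card V ≤ meas V A) (h2 : Nat.card V ≤ meas V B) :
    Nat.card V ≤ meas V (A ⊔ B) ∧ Nat.card V ≤ meas V (A ⊓ B) := by
  have h3 := H4.meas_sup_mul (V := V) h.ea.1 (ab_le_NN (elab_le_CC he) hA hB)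
  have h4 : Nat.card (A ⊓ B : Subgroup G) * Nat.card (V ⊓ CC(A) ⊔ V ⊓ CC(B) : Subgroup G) ≤
      meas V (A ⊓ B) := Nat.mul_le_mul_left _ (card_le_of_le (sup_le
        (inf_le_inf_left _ (CC_anti inf_le_left)) (inf_le_inf_left _ (CC_anti inf_le_right))))
  have h5 := h.nov _ ((sup_le hA hB).trans hJ) (elab_of_le he (sup_le hA hB))
  have h6 := h.nov _ ((inf_le_left.trans hA).trans hJ) (elab_of_le he (inf_le_left.trans hA) :
    IsElementaryAbelian p (A ⊓ B : Subgroup G))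
  have h7 := (Nat.mul_le_mul h1 h2).trans (h3.ge.trans (Nat.mul_le_mul_left _ h4))
  have p1 : 0 < Nat.card V := Nat.card_pos
  exact ⟨Nat.le_of_mul_le_mul_right (h7.trans (Nat.mul_le_mul_left _ h6)) p1,
    Nat.le_of_mul_le_mul_left (h7.trans (Nat.mul_le_mul_right _ h5)) p1⟩

theorem meas_sSup (h : Ctx p V P) {S : Set (Subgroup G)} (hJ : sSup S ≤ P)
    (he : IsElementaryAbelian p (sSup S : Subgroup G)) (h1 : ∀ A ∈ S, Nat.card V ≤ meas V A) :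
    Nat.card V ≤ meas V (sSup S) := by
  obtain ⟨K, ⟨k1, k2⟩, k3⟩ := exists_maximal_subgroup
    (P := fun K => K ≤ sSup S ∧ Nat.card V ≤ meas V K) ⟨bot_le, (meas_bot V).ge⟩
  rwa [← le_antisymm k1 (sSup_le fun B hB => le_sup_right.trans (k3 _ ⟨sup_le k1 (le_sSup hB),
    (h.meas_sup hJ he k1 (le_sSup hB) k2 (h1 B hB)).1⟩ le_sup_left).le)]

theorem le_of_off (h : Ctx p V P) (hA : A ≤ P) (hB : B ≤ P) (h1 : Nat.card V ≤ meas V A)
    (h2 : V ⊓ CC(A) ≤ CC(B)) (he : IsElementaryAbelian p (A ⊔ B : Subgroup G)) : B ≤ A := by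
  have h3 := (h.nov _ (sup_le hA hB) he).trans h1
  rw [meas_def, meas_def, CC_sup, ← inf_assoc, inf_of_le_left h2] at h3
  exact le_sup_right.trans (eq_of_le_of_card_ge le_sup_left
    (Nat.le_of_mul_le_mul_right h3 Nat.card_pos)).ge

end Ctx

namespace Pt

theorem le (h : Pt p V P A) : A ≤ P := let ⟨_, h1, h2⟩ := h.line; h2.le.trans h1
theorem quad (h : Pt p V P A) : ⁅V, A⁆ ≤ CC(A) := let ⟨_, _, h2⟩ := h.line; h2.r0.quad
theorem not_le (h : Pt p V P A) : ¬ V ≤ CC(A) := let ⟨_, _, h2⟩ := h.line; h2.not_le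
theorem ne_bot (h : Pt p V P A) : A ≠ ⊥ := let ⟨_, _, h2⟩ := h.line; h2.ne_bot
theorem comm (h : Pt p V P A) : A ≤ CC(A) := elab_le_CC h.ea
theorem isPGroup (h : Pt p V P A) : IsPGroup p A := elab_isPGroup h.ea

theorem card_V (h : Pt p V P A) : Nat.card V = Nat.card A * Nat.card (V ⊓ CC(A) : Subgroup G) :=
  let ⟨_, _, h2⟩ := h.line; h2.card_V

theorem one_lt (h : Pt p V P A) : 1 < Nat.card A := (one_lt_card_iff_ne_bot A).2 h.ne_bot

theorem exists_ne (h : Pt p V P A) : ∃ a ∈ A, a ≠ 1 := (bot_or_exists_ne_one A).resolve_left h.ne_bot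

theorem ti (h : Pt p V P A) {a : G} (ha : a ∈ A) (h1 : a ≠ 1) :
    V ⊓ CC(zpowers a) = V ⊓ CC(A) := by
  obtain ⟨X, -, h2⟩ := h.line
  refine le_antisymm (fun v hv => ⟨hv.1, h2.mem_of_comm ha h1 hv.1 ?_⟩)
    (inf_le_inf_left _ (CC_anti (zpowers_le.2 ha)))
  rw [commutatorElement_eq_one_iff_mul_comm.2 (hv.2 a (mem_zpowers a))]
  exact Subgroup.one_mem _

theorem ti' (h : Pt p V P A) {a v : G} (ha : a ∈ A) (h1 : a ≠ 1) (hv : v ∈ V)
    (hc : a * v = v * a) : v ∈ CC(A) :=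
  ((h.ti ha h1).le ⟨hv, by rw [CC_zpowers]; exact mem_centralizer_singleton_iff.2 hc.symm⟩).2

theorem cj (h : Pt p V P A) (c : Ctx p V P) {g : G} (hg : g ∈ P) : Pt p V P (cj g A) :=
  let ⟨_, h1, h2⟩ := h.line
  ⟨elab_cj g h.ea, _, cj_le_of_mem hg h1, h2.conj (c.norm hg)⟩

theorem comm_le (h : Pt p V P A) (c : Ctx p V P) : ⁅V, A⁆ ≤ V ⊓ CC(A) :=
  le_inf (comm_le_left (h.le.trans c.norm)) h.quad

theorem le_of_E (h : Pt p V P A) (c : Ctx p V P) (hB : B ≤ P) (h1 : ⁅V, B⁆ ≤ CC(A))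
    (h2 : V ⊓ CC(A) ≤ CC(B)) : B ≤ A := by
  have h3 : V ⊓ CC(A) ≤ CC(A ⊔ B) := by rw [CC_sup]; exact le_inf inf_le_right h2
  exact c.le_of_off h.le hB h.card_V.le h2 (c.elab_of_quad (sup_le h.le hB) (le_trans
    (comm_sup_le' ((le_CC_symm inf_le_right).trans (CC_le_NN _)) ((le_CC_symm h2).trans (CC_le_NN _))
    (h.comm_le c) (le_inf (comm_le_left (hB.trans c.norm)) h1)) h3))

theorem eq_of_E (h : Pt p V P A) (c : Ctx p V P) (hB : Pt p V P B) (e : V ⊓ CC(A) = V ⊓ CC(B)) :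
    A = B :=
  le_antisymm (hB.le_of_E c h.le ((h.comm_le c).trans (e.le.trans inf_le_right))
    (e.ge.trans inf_le_right)) (h.le_of_E c hB.le ((hB.comm_le c).trans (e.ge.trans inf_le_right))
    (e.le.trans inf_le_right))

theorem mem_NN_iff (h : Pt p V P A) (c : Ctx p V P) {g : G} (hg : g ∈ P) :
    g ∈ NN(V ⊓ CC(A)) ↔ g ∈ NN(A) :=
  ⟨fun h1 => mem_NN.2 ((h.cj c hg).eq_of_E c h (by rw [← c.cjE hg, mem_NN.1 h1])),
    fun h1 => mem_NN.2 (by rw [c.cjE hg, mem_NN.1 h1])⟩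

theorem eq_of_mem (h : Pt p V P A) (c : Ctx p V P) (hB : Pt p V P B) {a : G} (ha : a ∈ A)
    (hb : a ∈ B) (h1 : a ≠ 1) : A = B := h.eq_of_E c hB ((h.ti ha h1).symm.trans (hB.ti hb h1))

theorem inf_eq (h : Pt p V P A) (c : Ctx p V P) (hB : Pt p V P B) (hne : A ≠ B) : A ⊓ B = ⊥ :=
  (eq_bot_iff_forall _).2 fun _ ha => by_contra fun h1 => hne (h.eq_of_mem c hB ha.1 ha.2 h1)

theorem card_sup (h : Pt p V P A) (c : Ctx p V P) (hB : Pt p V P B) :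
    Nat.card V * Nat.card V = Nat.card A * Nat.card B *
      Nat.card (V ⊓ CC(A) ⊓ (V ⊓ CC(B)) : Subgroup G) *
        Nat.card (V ⊓ CC(A) ⊔ V ⊓ CC(B) : Subgroup G) := by
  rw [mul_assoc, mul_comm (Nat.card (V ⊓ CC(A) ⊓ (V ⊓ CC(B)) : Subgroup G)),
    card_sup_mul_card_inf (ab_le_NN c.comm inf_le_left inf_le_left), mul_mul_mul_comm,
    ← h.card_V, ← hB.card_V]

theorem card_le_inf (h : Pt p V P A) (c : Ctx p V P) (hB : Pt p V P B) : Nat.card V ≤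
    Nat.card A * Nat.card B * Nat.card (V ⊓ CC(A) ⊓ (V ⊓ CC(B)) : Subgroup G) :=
  Nat.le_of_mul_le_mul_right ((h.card_sup c hB).le.trans (Nat.mul_le_mul_left _
    (card_le_of_le (sup_le inf_le_left inf_le_left)))) Nat.card_pos

theorem sup_iff (h : Pt p V P A) (c : Ctx p V P) (hB : Pt p V P B) : V ⊓ CC(A) ⊔ V ⊓ CC(B) = V ↔
    Nat.card A * Nat.card B * Nat.card (V ⊓ CC(A) ⊓ (V ⊓ CC(B)) : Subgroup G) ≤ Nat.card V := by
  have h1 := h.card_sup c hB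
  refine ⟨fun e => ?_, fun h2 => eq_of_le_of_card_ge (sup_le inf_le_left inf_le_left)
    (Nat.le_of_mul_le_mul_left (h1.le.trans (Nat.mul_le_mul_right _ h2)) Nat.card_pos)⟩
  rw [e] at h1
  exact (Nat.eq_of_mul_eq_mul_right Nat.card_pos h1).ge

theorem sup_of_comm (h : Pt p V P A) (c : Ctx p V P) (hB : Pt p V P B) (hc : A ≤ CC(B))
    (hne : A ≠ B) : V ⊓ CC(A) ⊔ V ⊓ CC(B) = V := by
  have h1 := c.nov _ (sup_le h.le hB.le) (elab_sup h.ea hB.ea hc)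
  have h2 := card_sup_mul_card_inf (hc.trans (CC_le_NN _))
  rw [h.inf_eq c hB hne, card_bot, mul_one] at h2
  rw [meas_def, h2, CC_sup, inf_inf_distrib_left] at h1
  exact (h.sup_iff c hB).2 h1

theorem comm_le_of_sup (c : Ctx p V P) {E : Subgroup G} (e : V ⊓ CC(A) ⊔ E = V)
    (hn : A ≤ NN(E)) : ⁅V, A⁆ ≤ E := by
  have hE : E ≤ V := le_sup_right.trans e.le
  conv_lhs => rw [← e]
  exact comm_sup_le (ab_le_NN c.comm inf_le_left hE) (le_NN_self _)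
    ((comm_eq_bot.2 inf_le_right).le.trans bot_le) (comm_le_left hn)

theorem comm_le_CC (h : Pt p V P A) (c : Ctx p V P) (hB : Pt p V P B) (hc : A ≤ CC(B)) :
    ⁅V, A⁆ ≤ CC(B) := by
  by_cases e : A = B
  · exact e ▸ h.quad
  exact (comm_le_of_sup c (h.sup_of_comm c hB hc e) (le_NN_inf (h.le.trans c.norm)
    (le_NN_CC (hc.trans (CC_le_NN _))))).trans inf_le_right

theorem exists_img (h : Pt p V P A) (c : Ctx p V P) {a : G} (ha : a ∈ A) (h1 : a ≠ 1) :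
    ∃ D ≤ V, (∀ d, d ∈ D ↔ ∃ v ∈ V, ⁅a, v⁆ = d) ∧ Nat.card D = Nat.card A := by
  obtain ⟨D, h2, h3, h4⟩ := H12.exists_img c.comm (c.norm (h.le ha))
  rw [h.ti ha h1, h.card_V] at h4
  exact ⟨D, h2, h3, Nat.eq_of_mul_eq_mul_right Nat.card_pos h4⟩

theorem comm_of_NN (h : Pt p V P A) (c : Ctx p V P) (hB : Pt p V P B) (hn : B ≤ NN(A))
    (hc : ⁅V, B⁆ ≤ CC(A)) : A ≤ CC(B) := by
  intro a ha b hb
  by_contra h0
  obtain ⟨X, -, hX⟩ := h.line
  have key : ∀ v ∈ V, v ∉ CC(A) → ∀ b ∈ B, b * ⁅a, v⁆ = ⁅a, v⁆ * b ↔ b * a = a * b := by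
    intro v hv hn' b hb
    have h1 := conj_mem_of_mem_NN (hn hb) ha
    have h2 : b * ⁅a, v⁆ * b⁻¹ = ⁅b * a * b⁻¹, v⁆ := by
      rw [← hX.r0.comm_eq_of h1 (e := ⁅b, v⁆) ⟨comm_mem_of_NN (c.norm (hB.le hb)) hv,
        hc (commutator_comm V B ▸ commutator_mem_commutator hb hv)⟩ hv]
      simp only [commutatorElement_def]; group
    rw [← mul_inv_eq_iff_eq_mul, h2, ← mul_inv_eq_iff_eq_mul (a := b * a)]
    refine ⟨fun e => eq_of_mul_inv_eq_one (by_contra fun h3 => hn' (h.ti'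
      (A.mul_mem h1 (A.inv_mem ha)) h3 hv (commutatorElement_eq_one_iff_mul_comm.1 ?_))),
      fun e => by rw [e]⟩
    rw [hX.r0.comm_mul h1 (A.inv_mem ha) hv, e, ← hX.r0.comm_mul ha (A.inv_mem ha) hv]; simp
  have k2 : ∀ v ∈ V, ⁅a, v⁆ ∈ CC(B) → v ∈ CC(A) := fun v hv h1 =>
    by_contra fun h2 => h0 ((key v hv h2 b hb).1 (h1 b hb))
  have a1 : a ≠ 1 := fun e => h0 (by rw [e, one_mul, mul_one])
  obtain ⟨v, hv, hvn⟩ := SetLike.not_le_iff_exists.1 h.not_le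
  have k3 : ∀ b ∈ B, b * a = a * b → b = 1 := fun b hb h1 => by_contra fun h2 =>
    hvn (k2 v hv (hB.ti' hb h2 (comm_mem_of_NN (c.norm (h.le ha)) hv) ((key v hv hvn b hb).2 h1)))
  have k4 := Nat.card_le_card_of_injective (fun o : Option B => (o.elim 1 fun b =>
    ⟨_, conj_mem_of_mem_NN (hn b.2) ha⟩ : A)) (by
      rintro (_ | x) (_ | y) e
      · rfl
      · exact absurd (by simpa using congrArg Subtype.val e.symm) a1
      · exact absurd (by simpa using congrArg Subtype.val e) a1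
      · have e1 : (x : G) * a * (x : G)⁻¹ = y * a * (y : G)⁻¹ := congrArg Subtype.val e
        refine congrArg _ (Subtype.ext (eq_of_inv_mul_eq_one (k3 _ (B.mul_mem (B.inv_mem x.2) y.2) ?_)))
        calc _ = (x : G)⁻¹ * (y * a * (y : G)⁻¹) * y := by group
          _ = _ := by rw [← e1]; group)
  obtain ⟨D, d1, d2, d3⟩ := h.exists_img c ha a1
  have k5 := card_sup_mul_card_inf (ab_le_NN c.comm d1 (inf_le_left : V ⊓ CC(B) ≤ V))
  rw [show D ⊓ (V ⊓ CC(B)) = ⊥ from (eq_bot_iff_forall _).2 fun d hd => by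
    obtain ⟨v, hv, rfl⟩ := (d2 d).1 hd.1
    exact commutatorElement_eq_one_iff_mul_comm.2 (k2 v hv hd.2.2 a ha), card_bot, mul_one, d3] at k5
  have k6 := k5.ge.trans ((card_le_of_le (sup_le d1 inf_le_left)).trans hB.card_V.le)
  have := Nat.le_of_mul_le_mul_right k6 Nat.card_pos
  rw [Finite.card_option] at k4
  omega

theorem comm_of_NN' (h : Pt p V P A) (c : Ctx p V P) (hB : Pt p V P B) (hn : B ≤ NN(A))
    (hc : ∀ a ∈ A, H10.cj a B ≤ CC(B)) : A ≤ CC(B) := by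
  intro a ha b hb
  by_contra h0
  have h1 : ⁅a, b⁆ ∈ A := by
    rw [show ⁅a, b⁆ = a * (b * a⁻¹ * b⁻¹) by simp only [commutatorElement_def]; group]
    exact A.mul_mem ha (conj_mem_of_mem_NN (hn hb) (A.inv_mem ha))
  have h2 : zpowers ⁅a, b⁆ ≤ H10.cj a B ⊔ B :=
    zpowers_le.2 (mul_mem_sup (conj_mem_cj hb) (B.inv_mem hb))
  have h3 := hB.cj c (h.le ha)
  have h4 : H10.cj a B ⊔ B ≤ CC(B) := sup_le (hc a ha) hB.comm
  have n : ∀ K ≤ P, K ≤ CC(B) → K ≤ NN(V ⊓ CC(B)) := fun K k1 k2 =>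
    le_NN_inf (k1.trans c.norm) (le_NN_CC (k2.trans (CC_le_NN _)))
  have h5 := comm_le_CC_of ((commutator_mono le_rfl h2).trans ((comm_sup_le'
    (n _ h3.le (hc a ha)) (n _ hB.le hB.comm) (le_inf (comm_le_left (h3.le.trans c.norm))
      (h3.comm_le_CC c hB (hc a ha))) (hB.comm_le c)).trans inf_le_right)) (h2.trans h4)
  exact h0 (h.comm_of_NN c hB hn ((le_inf (comm_le_left (hB.le.trans c.norm)) h5).trans
    ((h.ti h1 fun e => h0 (commutatorElement_eq_one_iff_mul_comm.1 e).symm).le.trans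
      inf_le_right)) ha b hb)

theorem aux_comm (h : Pt p V P A) (c : Ctx p V P) (hB : Pt p V P B) {b : G} (hb : b ∈ B)
    (hn : b ∉ NN(A)) (hc : H10.cj b A ≤ CC(A)) : ∃ F : Subgroup G, V ⊓ CC(A) ⊓ (V ⊓ CC(B)) ≤ F ∧
      ⁅V, A⁆ ≤ F ∧ Nat.card A * Nat.card A * Nat.card F ≤ Nat.card V := by
  have h1 := h.cj c (hB.le hb)
  have h2 := (h.sup_iff c h1).1 (h.sup_of_comm c h1 (le_CC_symm hc) fun e => hn (mem_NN.2 e.symm))
  rw [card_cj] at h2
  refine ⟨_, le_inf inf_le_left fun v hv => ?_, le_inf (h.comm_le c) (le_inf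
    (comm_le_left (h.le.trans c.norm)) (h.comm_le_CC c h1 (le_CC_symm hc))), h2⟩
  rw [← c.cjE (hB.le hb), ← mul_inv_cancel_right v b, ← hv.2.2 b hb]
  exact conj_mem_cj hv.1

/-- points in a `p`-group commute -/
theorem comm_of_pgroup (c : Ctx p V P) {Q : Subgroup G} (hQ : IsPGroup p Q) :
    ∀ {A B : Subgroup G}, Pt p V P A → Pt p V P B → A ≤ Q → B ≤ Q → A ≤ CC(B) := by
  induction Q using WellFoundedLT.induction with
  | ind Q ih =>
  intro A B hA hB h1 h2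
  have key : ∀ {A : Subgroup G}, Pt p V P A → A < Q → ∀ g ∈ P, g ∈ Q → H10.cj g A ≤ CC(A) :=
    fun {A} hA h g hg hg' => by
      have h3 := (subnIn_of_isPGroup hQ h.le).ncl_lt h.ne
      exact ih _ h3 (hQ.to_le h3.le) (hA.cj c hg) hA (cj_le_ncl _ hg') (le_ncl _ _)
  rcases h1.eq_or_lt with rfl | h1'
  · exact hA.comm.trans (CC_anti h2)
  rcases h2.eq_or_lt with rfl | h2'
  · exact h1.trans hB.comm
  have k1 := fun b hb => key hA h1' b (hB.le hb) (h2 hb)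
  have k2 := fun a ha => key hB h2' a (hA.le ha) (h1 ha)
  by_cases n1 : B ≤ NN(A)
  · exact hA.comm_of_NN' c hB n1 k2
  by_cases n2 : A ≤ NN(B)
  · exact le_CC_symm (hB.comm_of_NN' c hA n2 k1)
  obtain ⟨b, hb, n1⟩ := SetLike.not_le_iff_exists.1 n1
  obtain ⟨a, ha, n2⟩ := SetLike.not_le_iff_exists.1 n2
  obtain ⟨F, f1, f2, f3⟩ := hA.aux_comm c hB hb n1 (k1 b hb)
  obtain ⟨F', g1, g2, g3⟩ := hB.aux_comm c hA ha n2 (k2 a ha)
  rw [inf_comm] at g1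
  have h3 := hA.card_le_inf c hB
  have f4 := card_le_of_le f1
  have g4 := card_le_of_le g1
  have pA : 0 < Nat.card A := Nat.card_pos
  have pB : 0 < Nat.card B := Nat.card_pos
  have pF : 0 < Nat.card (V ⊓ CC(A) ⊓ (V ⊓ CC(B)) : Subgroup G) := Nat.card_pos
  have f5 := f3.trans h3
  have g5 := g3.trans h3
  rw [mul_assoc, mul_assoc] at f5
  rw [mul_comm (Nat.card A), mul_assoc, mul_assoc] at g5
  have f6 := Nat.le_of_mul_le_mul_left f5 pA
  have g6 := Nat.le_of_mul_le_mul_left g5 pB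
  have f7 := Nat.le_of_mul_le_mul_right ((Nat.mul_le_mul_left _ f4).trans f6) pF
  have g7 := Nat.le_of_mul_le_mul_right ((Nat.mul_le_mul_left _ g4).trans g6) pF
  rw [le_antisymm f7 g7] at f6 g6
  exact c.le_CC_of hA.le hB.le (f2.trans ((eq_of_le_of_card_ge f1 (Nat.le_of_mul_le_mul_left f6
    pB)).ge.trans (inf_le_right.trans inf_le_right))) (g2.trans ((eq_of_le_of_card_ge g1
    (Nat.le_of_mul_le_mul_left g6 pB)).ge.trans (inf_le_left.trans inf_le_right)))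

end Pt

theorem Line.comm_le {V X A U : Subgroup G} (h : Line V X A) (hU : U ⊔ V ⊓ CC(X) = V)
    (hn : X ≤ NN(U)) : ⁅V, X⁆ ≤ U := by
  have hE : U ≤ V := le_sup_left.trans hU.le
  conv_lhs => rw [← hU]
  exact comm_sup_le (le_NN_self _) (ab_le_NN h.comm inf_le_left hE) (comm_le_left hn)
    ((comm_eq_bot.2 inf_le_right).le.trans bot_le)

theorem Line.card_V' {V X A : Subgroup G} (h : Line V X A) :
    Nat.card V = Nat.card A * Nat.card A * Nat.card (V ⊓ CC(X) : Subgroup G) := by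
  rw [h.card_V, h.card_E, mul_assoc]

theorem Ctx.pt_le_CC (c : Ctx p V P) {X U R : Subgroup G} (h : Line V X A) (hX : X ≤ P)
    (hA : IsElementaryAbelian p A) (hU : U ⊔ V ⊓ CC(X) = V) (hn : X ≤ NN(U)) (hR : R ≤ P)
    (hRU : R ≤ CC(U)) (hXR : X ≤ NN(R)) (hp : IsPGroup p R) : A ≤ CC(R) := by
  intro a ha r hr
  by_contra h0
  have pA : Pt p V P A := ⟨hA, X, hX, h⟩
  have hUV : U ≤ V := le_sup_left.trans hU.le
  have c1 : ⁅a, r⁆ ≠ 1 := fun e => h0 (commutatorElement_eq_one_iff_mul_comm.1 e).symm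
  have c2 : ⁅a, r⁆ ∈ R := comm_mem_of_NN (hXR (h.le ha)) hr
  have e0 : ⁅a, r⁆ = a * (r * a⁻¹ * r⁻¹) := by simp only [commutatorElement_def]; group
  have c3 : zpowers ⁅a, r⁆ ≤ A ⊔ cj r A :=
    zpowers_le.2 (e0 ▸ mul_mem_sup ha (conj_mem_cj (A.inv_mem ha)))
  have pA' := pA.cj c (hR hr)
  have hUE : U ⊔ V ⊓ CC(A) = V := le_antisymm (sup_le hUV inf_le_left)
    (hU.ge.trans (sup_le_sup_left h.r0.Z_le _))
  have ne : A ≠ cj r A := fun e => h.not_le (hUE.ge.trans (sup_le (fun u hu => pA.ti'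
    (zpowers_le.1 (by rwa [← e, sup_idem] at c3)) c1 (hUV hu) (hRU c2 u hu).symm) inf_le_right))
  have h1 := (pA.sup_iff c pA').1 (pA.sup_of_comm c pA' (Pt.comm_of_pgroup c
    (isPGroup_sup_of_NN pA.isPGroup hp (h.le.trans hXR)) pA pA' le_sup_left
    (cj_le_of_mem (mem_sup_right hr) le_sup_left)) ne)
  have h1' := pA.card_le_inf c pA'
  rw [card_cj] at h1 h1'
  have hVX := h.comm_le hU hn
  have hC : ncl (zpowers ⁅a, r⁆) X ≤ R := ncl_le (zpowers_le.2 c2) hXR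
  have hVA : ⁅V, A⁆ ≤ U := (commutator_mono le_rfl h.le).trans hVX
  have h2 : ⁅V, ncl (zpowers ⁅a, r⁆) X⁆ ≤ U := by
    rw [commutator_comm]
    refine comm_ncl_le ?_ (zpowers_le.2 (CC_le_NN _ (hRU c2))) h.norm hn
    rw [commutator_comm]
    refine (commutator_mono le_rfl c3).trans (comm_sup_le' (h.le.trans hn) ?_ hVA ?_)
    · rw [← cj_eq_of_mem_NN (CC_le_NN _ (hRU hr)), ← cj_normalizer]; exact cj_mono r (h.le.trans hn)
    · rw [← c.cjW (hR hr)]; exact cj_le_of_mem_NN (CC_le_NN _ (hRU hr)) hVA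
  have h3 := c.nov _ (hC.trans hR) (c.elab_of_quad (hC.trans hR)
    (h2.trans (le_CC_symm (hC.trans hRU))))
  have h4 : U ⊔ V ⊓ CC(A) ⊓ (V ⊓ CC(cj r A)) ≤ V ⊓ CC(ncl (zpowers ⁅a, r⁆) X) := by
    have h5 : U ≤ V ⊓ CC(zpowers ⁅a, r⁆) := le_inf hUV (le_CC_symm (zpowers_le.2 (hRU c2)))
    refine (sup_le h5 (le_inf (inf_le_left.trans inf_le_left) (le_trans ?_ (CC_anti c3)))).trans
      (le_inf inf_le_left (le_CC_symm (ncl_le_CC (le_CC_symm inf_le_right)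
        (le_NN_of_comm_le_of_le (hVX.trans h5) inf_le_left))))
    rw [CC_sup]; exact inf_le_inf inf_le_right inf_le_right
  have h5 := card_sup_mul_card_inf (ab_le_NN c.comm hUV
    (inf_le_left.trans inf_le_left : V ⊓ CC(A) ⊓ (V ⊓ CC(cj r A)) ≤ V))
  have h6 := card_sup_mul_card_inf (ab_le_NN c.comm hUV (inf_le_left : V ⊓ CC(A) ≤ V))
  rw [show U ⊓ (V ⊓ CC(A) ⊓ (V ⊓ CC(cj r A))) = U ⊓ (V ⊓ CC(A)) from le_antisymm
    (inf_le_inf_left _ inf_le_left) (le_inf inf_le_left (le_inf inf_le_right fun u hu => by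
      rw [← c.cjE (hR hr), ← mul_inv_cancel_right u r, hRU hr u hu.1]
      exact conj_mem_cj hu.2))] at h5
  rw [hUE, h.card_V, mul_right_comm] at h6
  rw [← Nat.eq_of_mul_eq_mul_right Nat.card_pos h6, mul_right_comm] at h5
  have h7 := Nat.eq_of_mul_eq_mul_right Nat.card_pos h5
  have h8 := ((Nat.mul_le_mul_left _ (card_le_of_le h4)).trans h3).trans h1'
  rw [h7, mul_assoc] at h8
  have h9 := Nat.le_of_mul_le_mul_right h8 (Nat.mul_pos Nat.card_pos Nat.card_pos)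
  obtain ⟨z, hz, z1⟩ : ∃ z ∈ V ⊓ CC(X), ⁅⁅a, r⁆, z⁆ ≠ 1 := by
    by_contra h10
    push Not at h10
    refine c1 (c.eq_one (hR c2) ?_)
    rw [← hU, CC_sup]
    exact ⟨hRU c2, fun z hz => (commutatorElement_eq_one_iff_mul_comm.1 (h10 z hz)).symm⟩
  have m : ∀ d ∈ ncl (zpowers ⁅a, r⁆) X, ⁅d, z⁆ ∈ U := fun d hd =>
    h2 (by rw [commutator_comm]; exact commutator_mem_commutator hd hz.1)
  let δ : ncl (zpowers ⁅a, r⁆) X →* G := MonoidHom.mk' (fun d => ⁅(d : G), z⁆) fun d e => by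
    refine (commutatorElement_mul_left_eq_conj_mul (d : G) e z).trans
      (Eq.trans ?_ (c.comm (hUV (m e e.2)) _ (hUV (m d d.2))).symm)
    exact congrArg (· * ⁅(d : G), z⁆) (mul_inv_eq_iff_eq_mul.2 (hRU (hC d.2) _ (m e e.2)).symm)
  have d1 : δ.range ≤ V := by rintro _ ⟨d, rfl⟩; exact hUV (m d d.2)
  have d2 := h.irr d1 (le_NN_iff.2 (by
    rintro x hx _ ⟨d, rfl⟩
    refine ⟨⟨_, conj_mem_of_mem_NN (le_NN_ncl _ _ hx) d.2⟩, ?_⟩
    show ⁅x * d * x⁻¹, z⁆ = x * ⁅(d : G), z⁆ * x⁻¹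
    rw [conjugate_commutatorElement, hz.2 x hx, mul_inv_cancel_right])) fun h10 => by
      have h11 : ⁅⁅a, r⁆, z⁆ ∈ CC(X) := h10 ⟨⟨_, le_ncl _ _ (mem_zpowers _)⟩, rfl⟩
      have v1 := conj_mem_of_mem_NN' (c.norm (hR hr)) hz.1
      have v2 := h.r0.comm_mem (A.inv_mem ha) v1
      have v3 := hVA (commutator_comm V A ▸ commutator_mem_commutator (A.inv_mem ha) v1)
      have e1 : ⁅⁅a, r⁆, z⁆ = ⁅a⁻¹, r⁻¹ * z * r⁆ := by
        calc _ = a * (r * ⁅a⁻¹, r⁻¹ * z * r⁆ * r⁻¹) * a⁻¹ * (a * z * a⁻¹ * z⁻¹) := by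
              simp only [commutatorElement_def]; group
          _ = _ := by rw [← hRU hr _ v3, mul_inv_cancel_right, v2.2 a ha, hz.2 a (h.le ha)]; group
      rw [e1] at h11 z1
      exact z1 (commutatorElement_eq_one_iff_mul_comm.2 (h.mem_of_comm (A.inv_mem ha)
        (fun e => h0 (by rw [inv_eq_one.1 e, one_mul, mul_one])) v1 h11 _ (A.inv_mem ha)))
  have d3 := card_sup_mul_card_inf (ab_le_NN c.comm d1 (inf_le_left : V ⊓ CC(X) ≤ V))
  have d4 := (Nat.card_le_card_of_surjective _ δ.rangeRestrict_surjective).trans h9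
  rw [d2, h.card_V'] at d3
  have d5 := Nat.le_of_mul_le_mul_right (((Nat.le_mul_of_pos_right _ Nat.card_pos).trans
    d3.le).trans (Nat.mul_le_mul_right _ d4)) Nat.card_pos
  exact pA.one_lt.not_ge (Nat.le_of_mul_le_mul_left (d5.trans (mul_one _).ge) Nat.card_pos)

theorem Ctx.line_le_CC (c : Ctx p V P) {X U R : Subgroup G} (h : Line V X A) (hX : X ≤ P)
    (hA : IsElementaryAbelian p A) (hU : U ⊔ V ⊓ CC(X) = V) (hn : X ≤ NN(U)) (hR : R ≤ P)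
    (hRU : R ≤ CC(U)) (hXR : X ≤ NN(R)) (hp : IsPGroup p R) : X ≤ CC(R) := by
  obtain ⟨x, hx, hxn⟩ := h.ex
  exact (h.gen hx hxn).ge.trans (sup_le (c.pt_le_CC h hX hA hU hn hR hRU hXR hp)
    (c.pt_le_CC (h.pt hx) hX (elab_cj x hA) hU hn hR hRU hXR hp))

end H12
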