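import Cfsg.Agent.H12.FF4

/-! Minimal parabolics with an offender: existence of points and good lines. -/

set_option autoImplicit false
set_option linter.unusedSectionVars false

open Cfsg Subgroup H10
open H4 (meas meas_def meas_bot)
open scoped commutatorElement

namespace H12

variable {G : Type*} [Group G] [Finite G] {p : ℕ} [Fact p.Prime]

/-- the hypothesis of the structure theorem for `p`-minimal groups with an offender -/
structure Hyp (p : ℕ) (V P T M : Subgroup G) : Prop where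
  ea : IsElementaryAbelian p V
  norm : P ≤ NN(V)
  faith : P ⊓ CC(V) = ⊥
  syl : IsSylowIn p T P
  um : UMax T M P
  nn : ¬ P ≤ NN(T)
  op : pCoreOf p P = ⊥
  ct : P ⊓ CC(V ⊓ CC(T)) ≤ M

variable {V P T M A B : Subgroup G}

theorem meas_cj' (g : G) (V B : Subgroup G) : meas (cj g V) (cj g B) = meas V B := by
  rw [meas_def, meas_def, ← cj_centralizer, ← cj_inf, card_cj, card_cj]

theorem Pt.inf_eq_bot (h : Pt p V P A) {U : Subgroup G} (hU : U ≤ V) (hn : ¬ A ≤ CC(U)) :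
    A ⊓ CC(U) = ⊥ :=
  (eq_bot_iff_forall _).2 fun _ ha => by_contra fun h1 => hn (le_CC_symm fun u hu =>
    h.ti' ha.1 h1 (hU hu) (ha.2 u hu).symm)

theorem Pt.best (h : Pt p V P A) (c : Ctx p V P) : ∀ B ≤ A, meas V B ≤ meas V A := fun _ hB =>
  (c.nov _ (hB.trans h.le) (elab_of_le h.ea hB)).trans h.card_V.le

theorem Pt.exists_line (h : Pt p V P A) (c : Ctx p V P) {S H : Subgroup G} (hS : IsSylowIn p S H)
    (hM : UMax S M H) (hn : ¬ H ≤ NN(S)) (hH : H ≤ P) (hAS : A ≤ S) (hAQ : ¬ A ≤ pCoreOf p H)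
    (hC : H ⊓ CC(V ⊓ CC(S)) ≤ M) : ∃ X ≤ H, ∃ g ∈ H, Line V X A ∧ A ≤ H10.cj g M ∧
      ¬ X ≤ H10.cj g M := by
  obtain ⟨U, L, g, x, h1, h2, h3, h4, h5, h6, h7, -⟩ := exists_r0 hS hM hn c.comm (hH.trans c.norm)
    hAS hAQ h.quad (fun U hU _ _ => off_of_best c.comm hU (h.best c)) le_rfl hC
  have h0 := h.inf_eq_bot h2 (h1.not_le h7 h5 h6)
  have hL := ncl_le_of_le h1.le
  obtain ⟨X, x1, x2, -, x3, -⟩ := h1.exists_line h7 h5 h6 c.comm h2 ((h3.trans hH).trans c.norm)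
    (eq_bot_iff.2 ((inf_le_inf_right _ ((hL.trans h3).trans hH)).trans c.faith.le)) h0
    (h1.sup_of_inf h7 h5 h6 c.comm h2 h0 h.card_V.le)
  exact ⟨X, (x1.trans hL).trans h3, g, h4, x2, h1.leM.trans inf_le_right,
    fun h8 => x3 (le_inf (x1.trans hL) h8)⟩

namespace Hyp

theorem cj (h : Hyp p V P T M) {g : G} (hg : g ∈ P) : Hyp p V P (cj g T) (cj g M) where
  ea := h.ea
  norm := h.norm
  faith := h.faith
  syl := h.syl.cj_of_mem hg
  um := by have := h.um.cj g; rwa [cj_eq_of_mem hg] at this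
  nn := fun h1 => h.nn (by rwa [← cj_normalizer, ← cj_eq_of_mem hg, cj_le_cj] at h1)
  op := h.op
  ct := by
    have := cj_mono g h.ct
    rwa [cj_inf, cj_centralizer, cj_inf, cj_centralizer, cj_eq_of_mem hg,
      cj_eq_of_mem_NN (h.norm hg)] at this

theorem lt (h : Hyp p V P T M) : M < P := h.um.2.1
theorem le (h : Hyp p V P T M) : T ≤ M := h.um.1

theorem of_sylow (h : Hyp p V P T M) {T' : Subgroup G} (h' : IsSylowIn p T' P) :
    ∃ g ∈ P, H10.cj g T = T' ∧ Hyp p V P T' (H10.cj g M) := by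
  obtain ⟨g, hg, rfl⟩ := h.syl.exists_cj h'
  exact ⟨g, hg, rfl, h.cj hg⟩

theorem exists_ge (h : Hyp p V P T M) {R : Subgroup G} (hR : IsPGroup p R) (hP : R ≤ P) :
    ∃ T' M', Hyp p V P T' M' ∧ R ≤ T' := by
  obtain ⟨g, hg, h1⟩ := h.syl.exists_le_cj hR hP
  exact ⟨_, _, h.cj hg, h1⟩

theorem exists_ge' (h : Hyp p V P T M) {R : Subgroup G} (hR : IsPGroup p R) (hP : R ≤ M) :
    ∃ T', Hyp p V P T' M ∧ R ≤ T' := by
  obtain ⟨g, hg, h1⟩ := (h.syl.of_le h.le h.lt.le).exists_le_cj hR hP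
  have := h.cj (h.lt.le hg)
  rw [cj_eq_of_mem hg] at this
  exact ⟨_, this, h1⟩

theorem NN_le (h : Hyp p V P T M) {K : Subgroup G} (hK : IsPGroup p K) (hP : K ≤ P) (h0 : K ≠ ⊥)
    (hT : T ≤ NN(K)) : P ⊓ NN(K) ≤ M :=
  h.um.2.2 _ (le_inf h.syl.le hT) (lt_of_le_of_ne inf_le_left fun e =>
    h0 (eq_bot_of_pCoreOf h.op hK hP (e.ge.trans inf_le_right)))

theorem mem_of_cj (h : Hyp p V P T M) {g : G} (hg : g ∈ P) (e : H10.cj g M = M) : g ∈ M := by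
  refine h.um.2.2 (P ⊓ NN(M)) (le_inf h.syl.le (h.le.trans (le_NN_self M)))
    (lt_of_le_of_ne inf_le_left fun e1 => h.nn ?_) ⟨hg, mem_NN.2 e⟩
  have h1 := (h.syl.of_le h.le h.lt.le).frattini_sup h.lt.le (e1.ge.trans inf_le_right)
  by_contra h2
  exact h.lt.not_ge (h1.ge.trans (sup_le le_rfl (h.um.2.2 _ (le_inf h.syl.le (le_NN_self T))
    (lt_of_le_of_ne inf_le_left fun e2 => h2 (e2.ge.trans inf_le_right)))))

theorem min_line (h : Hyp p V P T M) (hA : A ≤ P) (he : IsElementaryAbelian p A) (h0 : A ≠ ⊥)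
    (hb : ∀ B ≤ A, meas V B ≤ meas V A) (hmin : ∀ B ≤ A, B ≠ ⊥ → meas V A ≤ meas V B → B = A) :
    meas V A ≤ Nat.card V ∧ Pt p V P A := by
  obtain ⟨T', M', h', hT⟩ := h.exists_ge (elab_isPGroup he) hA
  have hV := elab_le_CC h.ea
  obtain ⟨U, L, g, x, h1, h2, h3, h4, h5, h6, h7, -⟩ := exists_r0 h'.syl h'.um h'.nn hV h.norm
    hT (fun h1 => h0 (eq_bot_iff.2 (h1.trans h.op.le))) (quad_of_min h.ea (hA.trans h.norm) he hb
      (fun B hB h1 => hmin B hB fun e => h1 (e ▸ bot_le))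
      fun h1 => h0 (eq_bot_iff.2 ((le_inf hA h1).trans h.faith.le)))
    (fun U hU _ _ => off_of_best hV hU hb) le_rfl h'.ct
  obtain ⟨k1, k2⟩ := h1.inf_of_min h7 h5 h6 hV h2 hmin
  have hL := (ncl_le_of_le h1.le).trans h3
  obtain ⟨X, x1, x2, -⟩ := h1.exists_line h7 h5 h6 hV h2 (h3.trans h.norm)
    (eq_bot_iff.2 ((inf_le_inf_right _ hL).trans h.faith.le)) k1
    (h1.sup_of_inf h7 h5 h6 hV h2 k1 ((meas_bot V).ge.trans (hb _ bot_le)))
  exact ⟨k2, he, X, x1.trans hL, x2⟩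

theorem ctx (h : Hyp p V P T M) : Ctx p V P := by
  refine ⟨h.ea, h.norm, h.faith, fun A hA he => le_of_not_gt fun h1 => ?_⟩
  obtain ⟨B₀, h0, hm⟩ := Set.exists_max_image {B : Subgroup G | B ≤ A} (meas V) (Set.toFinite _)
    ⟨⊥, bot_le (a := A)⟩
  obtain ⟨B, ⟨h2, h3⟩, h4⟩ := exists_minimal_subgroup
    (P := fun B => B ≤ A ∧ meas V B₀ ≤ meas V B) ⟨h0, le_rfl⟩
  have h5 := h1.trans_le ((hm A (le_refl A)).trans h3)
  exact h5.not_ge (h.min_line (h2.trans hA) (elab_of_le he h2)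
    (fun e => h5.ne' (by rw [e, meas_bot])) (fun C hC => (hm C (hC.trans h2)).trans h3)
    fun C hC _ h6 => h4 C ⟨hC.trans h2, h3.trans h6⟩ hC).1

theorem exists_pt (h : Hyp p V P T M) (hB : B ≤ P) (he : IsElementaryAbelian p B) (h0 : B ≠ ⊥)
    (h1 : Nat.card V ≤ meas V B) : ∃ A ≤ B, Pt p V P A := by
  obtain ⟨A, ⟨h2, h3, h4⟩, h5⟩ := exists_minimal_subgroup
    (P := fun A => A ≤ B ∧ A ≠ ⊥ ∧ Nat.card V ≤ meas V A) ⟨le_rfl, h0, h1⟩
  exact ⟨A, h2, (h.min_line (h2.trans hB) (elab_of_le he h2) h3 (fun C hC => (h.ctx.nov C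
    (hC.trans (h2.trans hB)) (elab_of_le he (hC.trans h2))).trans h4)
    fun C hC h6 h7 => h5 C ⟨hC.trans h2, h6, h4.trans h7⟩ hC).2⟩

end Hyp

/-- the subgroup generated by the points in `T` -/
def JD (p : ℕ) (V P T : Subgroup G) : Subgroup G := sSup {B | Pt p V P B ∧ B ≤ T}

/-- the subgroup generated by the points in `T` other than `A` -/
def YD (p : ℕ) (V P T A : Subgroup G) : Subgroup G := sSup {B | (Pt p V P B ∧ B ≤ T) ∧ B ≠ A}

theorem JD_le : JD p V P T ≤ T := sSup_le fun _ h => h.2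
theorem JD_le' : JD p V P T ≤ P := sSup_le fun _ h => h.1.le
theorem Pt.le_JD (h : Pt p V P B) (hB : B ≤ T) : B ≤ JD p V P T := le_sSup ⟨h, hB⟩
theorem Pt.le_YD (h : Pt p V P B) (hB : B ≤ T) (hn : B ≠ A) : B ≤ YD p V P T A :=
  le_sSup ⟨⟨h, hB⟩, hn⟩
theorem YD_le : YD p V P T A ≤ JD p V P T := sSup_le fun _ h => le_sSup h.1

theorem JD_le_sup : JD p V P T ≤ A ⊔ YD p V P T A := sSup_le fun B h => by
  by_cases e : B = A
  exacts [e.le.trans le_sup_left, (h.1.le_YD h.2 e).trans le_sup_right]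

theorem cj_sSup_le {g : G} {S : Set (Subgroup G)} {X : Subgroup G} (h : ∀ B ∈ S, cj g B ≤ X) :
    cj g (sSup S) ≤ X := cj_le_iff.2 (sSup_le fun B hB => cj_le_iff.1 (h B hB))

namespace Ctx

theorem cj_JD (c : Ctx p V P) {g : G} (hg : g ∈ P) : cj g (JD p V P T) = JD p V P (cj g T) := by
  have key : ∀ g ∈ P, ∀ T, cj g (JD p V P T) ≤ JD p V P (cj g T) := fun g hg T =>
    cj_sSup_le fun B hB => (hB.1.cj c hg).le_JD (cj_mono g hB.2)
  refine le_antisymm (key g hg T) (le_cj_iff.2 ?_)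
  have := key _ (P.inv_mem hg) (cj g T)
  rwa [H10.cj_inv_cj] at this

theorem cj_YD (c : Ctx p V P) {g : G} (hg : g ∈ P) :
    cj g (YD p V P T A) = YD p V P (cj g T) (cj g A) := by
  have key : ∀ g ∈ P, ∀ T A, cj g (YD p V P T A) ≤ YD p V P (cj g T) (cj g A) := fun g hg T A =>
    cj_sSup_le fun B hB => (hB.1.1.cj c hg).le_YD (cj_mono g hB.1.2) fun e => hB.2 (cj_inj.1 e)
  refine le_antisymm (key g hg T A) (le_cj_iff.2 ?_)
  have := key _ (P.inv_mem hg) (cj g T) (cj g A)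
  rwa [H10.cj_inv_cj, H10.cj_inv_cj] at this

theorem le_CC_JD (c : Ctx p V P) (hT : IsPGroup p T) (hA : Pt p V P A) (h : A ≤ T) :
    A ≤ CC(JD p V P T) :=
  le_CC_symm (sSup_le fun _ hB => Pt.comm_of_pgroup c hT hB.1 hA hB.2 h)

theorem JD_quad (c : Ctx p V P) (hT : IsPGroup p T) : ⁅V, JD p V P T⁆ ≤ CC(JD p V P T) := by
  have h1 : JD p V P T ≤ stabMod V (V ⊓ CC(JD p V P T)) := sSup_le fun B hB => le_stabMod.2
    ⟨le_NN_inf (hB.1.le.trans c.norm) (le_NN_CC ((c.le_CC_JD hT hB.1 hB.2).trans (CC_le_NN _))), by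
      rw [commutator_comm]
      exact le_inf (comm_le_left (hB.1.le.trans c.norm)) (le_CC_symm (sSup_le fun C hC => le_CC_symm
        (hB.1.comm_le_CC c hC.1 (Pt.comm_of_pgroup c hT hB.1 hC.1 hB.2 hC.2))))⟩
  rw [commutator_comm]
  exact (le_stabMod.1 h1).2.trans inf_le_right

theorem JD_ea (c : Ctx p V P) (hT : IsPGroup p T) : IsElementaryAbelian p (JD p V P T) :=
  c.elab_of_quad JD_le' (c.JD_quad hT)

theorem JD_off (c : Ctx p V P) (hT : IsPGroup p T) : Nat.card V ≤ meas V (JD p V P T) :=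
  c.meas_sSup JD_le' (c.JD_ea hT) fun _ hB => hB.1.card_V.le

theorem le_NN_JD (c : Ctx p V P) : P ⊓ NN(T) ≤ NN(JD p V P T) := fun g hg =>
  mem_NN.2 (by rw [c.cj_JD hg.1, mem_NN.1 hg.2])

theorem le_NN_YD (c : Ctx p V P) (hT : T ≤ P) : T ⊓ NN(A) ≤ NN(YD p V P T A) := fun g hg =>
  mem_NN.2 (by rw [c.cj_YD (hT hg.1), mem_NN.1 hg.2, cj_eq_of_mem hg.1])

end Ctx

namespace Hyp

theorem NN_JD_le (h : Hyp p V P T M) (h0 : JD p V P T ≠ ⊥) : P ⊓ NN(JD p V P T) ≤ M :=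
  h.NN_le (h.syl.isPGroup.to_le JD_le) JD_le' h0
    ((le_inf h.syl.le (le_NN_self T)).trans h.ctx.le_NN_JD)

theorem card_JD (h : Hyp p V P T M) {T' : Subgroup G} (h' : IsSylowIn p T' P) :
    Nat.card (JD p V P T') = Nat.card (JD p V P T) := by
  obtain ⟨g, hg, rfl, -⟩ := h.of_sylow h'
  rw [← h.ctx.cj_JD hg, card_cj]

theorem uniq (h : Hyp p V P T M) {T' M' : Subgroup G} (h' : Hyp p V P T' M') (h0 : JD p V P T ≠ ⊥)
    (h1 : JD p V P T' ≤ M) : M' = M := by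
  obtain ⟨g, hg, rfl, h2⟩ := h.of_sylow h'.syl
  obtain ⟨m, hm, h3⟩ := (h.syl.of_le h.le h.lt.le).exists_cj_le (h'.syl.isPGroup.to_le JD_le) h1
  have h4 := P.mul_mem (h.lt.le hm) hg
  have h5 : H10.cj (m * g) (JD p V P T) ≤ JD p V P T := by
    rw [cj_mul, h.ctx.cj_JD hg]
    exact cj_sSup_le fun B hB => (hB.1.cj h.ctx (h.lt.le hm)).le_JD
      ((cj_mono m (hB.1.le_JD hB.2)).trans h3)
  have h6 := (M.mul_mem_cancel_left hm).1 (h.NN_JD_le h0 ⟨h4, mem_NN_of_cj_le h5⟩)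
  rw [cj_eq_of_mem h6] at h2
  exact le_antisymm (h2.um.2.2 _ h'.le h'.lt) (h'.um.2.2 _ h2.le h2.lt)

theorem exists_good_aux (h : Hyp p V P T M) (h0 : JD p V P T ≠ ⊥) : ∃ A X, Pt p V P A ∧ A ≤ T ∧
    Line V X A ∧ X ≤ P ∧ ¬ X ≤ M ∧ X ≤ CC(YD p V P T A) := by
  have c := h.ctx
  have hT := h.syl.isPGroup
  obtain ⟨U, L, g, x, h1, h2, h3, h4, h5, h6, h7, -, h8, h9, -⟩ := exists_r0 h.syl h.um h.nn c.comm
    h.norm JD_le (fun h1 => h0 (eq_bot_iff.2 (h1.trans h.op.le))) (c.JD_quad hT)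
    (fun U hU _ _ => off_of_best c.comm hU fun B hB => (c.nov B (hB.trans JD_le')
      (elab_of_le (c.JD_ea hT) hB)).trans (c.JD_off hT)) le_rfl h.ct
  have e0 := (h.cj h4).uniq h (by rwa [← c.cj_JD h4, Ne, cj_eq_bot]) (h1.leM.trans inf_le_right)
  rw [← e0] at h1 h6 h9
  have key : ∀ A, Pt p V P A → A ≤ T → ¬ A ≤ CC(U) → U ⊓ CC(A) = U ⊓ CC(JD p V P T) ∧
      A ⊔ JD p V P T ⊓ CC(U) = JD p V P T := fun A hA hAT hn => by
    have k0 := hA.inf_eq_bot h2 hn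
    have k1 : U ⊓ CC(A) = U ⊓ CC(JD p V P T) := by
      refine le_antisymm (fun u hu => ⟨hu.1, ?_⟩) (inf_le_inf_left _ (CC_anti (hA.le_JD hAT)))
      obtain ⟨a, ha, h'⟩ := SetLike.not_le_iff_exists.1 hn
      refine h1.mem_of_comm (hA.le_JD hAT ha) h' hu.1 ?_
      rw [commutatorElement_eq_one_iff_mul_comm.2 (hu.2 a ha)]; exact Subgroup.one_mem _
    refine ⟨k1, eq_of_le_of_card_ge (sup_le (hA.le_JD hAT) inf_le_left) ?_⟩
    have k2 := off_of_best c.comm h2 (hA.best c)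
    have k3 := card_sup_mul_card_inf (L := A) (N := JD p V P T ⊓ CC(U))
      ((c.le_CC_JD hT hA hAT).trans ((CC_anti inf_le_left).trans (CC_le_NN _)))
    rw [inf_left_comm, k0, inf_bot_eq, card_bot, mul_one] at k3
    rw [k0, card_bot, mul_one, k1] at k2
    have k4 := (h1.off_eq h7 h5 h6).ge.trans (Nat.mul_le_mul_right _ k2)
    rw [mul_right_comm, ← k3] at k4
    exact Nat.le_of_mul_le_mul_right k4 Nat.card_pos
  obtain ⟨A, hA, hAT, hn⟩ : ∃ A, Pt p V P A ∧ A ≤ T ∧ ¬ A ≤ CC(U) := by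
    by_contra h10
    push Not at h10
    exact h1.not_le h7 h5 h6 (sSup_le fun B hB => h10 B hB.1 hB.2)
  obtain ⟨k1, k2⟩ := key A hA hAT hn
  have k0 := hA.inf_eq_bot h2 hn
  have hAJ := hA.le_JD hAT
  have k3 : JD p V P T ≤ A ⊔ CC(U) := k2.ge.trans (sup_le_sup_left inf_le_right _)
  have r : R0 U L (L ⊓ M) A := ⟨h1.comm, h1.norm, hAJ.trans h1.le, hAJ.trans h1.leM,
    ((commutator_mono le_rfl hAJ).trans h1.quad).trans (CC_anti hAJ), k1 ▸ h1.eq,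
    fun y hy hyn => (h1.gen y hy hyn).trans (sup_le (sup_le (k3.trans (sup_le_sup_right
      le_sup_left _)) ((cj_mono y k3).trans (by
        rw [cj_sup, cj_centralizer, h1.cjU hy]; exact sup_le_sup_right le_sup_right _))) le_sup_right),
    fun a ha => h1.core a (hAJ ha), off_of_best c.comm h2 (hA.best c)⟩
  have hL := ncl_le_of_le r.le
  obtain ⟨X, x1, x2, x3, x4, -⟩ := r.exists_line h7 h5 h6 c.comm h2 (h3.trans c.norm)
    (eq_bot_iff.2 ((inf_le_inf_right _ (hL.trans h3)).trans c.faith.le)) k0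
    (r.sup_of_inf h7 h5 h6 c.comm h2 k0 hA.card_V.le)
  have x5 := x1.trans hL
  have x6 := c.line_le_CC x2 (x5.trans h3) hA.ea x3 (x5.trans r.norm) ((pCoreOf_le L).trans h3)
    (le_CC_symm h8) (x5.trans (le_NN_pCoreOf L)) (isPGroup_pCoreOf L)
  obtain ⟨S, s1, s2⟩ := exists_isSylowIn_ge (hT.to_le JD_le) h1.le
  have s3 := umax_sylow h9 s1 s2
  have k4 : JD p V P T ⊓ CC(U) ≤ CC(X) := le_trans (le_trans (le_inf (inf_le_left.trans s2)
    (inf_le_inf_right _ h1.le)) (umax_normal_le s1 s3.2.2 s3.2.1.not_ge inf_le_left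
      (le_NN_inf (le_NN_self L) (le_NN_CC h1.norm)) fun y hy => (h1.mem_M_iff h7 h5 h6 hy.1).2
        (CC_le_NN _ (CC_anti inf_le_left hy.2)))) (le_CC_symm x6)
  refine ⟨A, X, hA, hAT, x2, x5.trans h3, fun h10 => x4 (le_inf x5 h10), le_CC_symm
    (sSup_le fun B hB => le_trans (le_inf (hB.1.1.le_JD hB.1.2) (by_contra fun hn' => ?_)) k4)⟩
  obtain ⟨b, hb, b1⟩ := SetLike.not_le_iff_exists.1 hn'
  obtain ⟨a, ha, d, hd, rfl⟩ := (mem_sup_of_NN ((c.le_CC_JD hT hA hAT).trans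
    ((CC_anti inf_le_left).trans (CC_le_NN _)))).1 (k2.ge (hB.1.1.le_JD hB.1.2 hb))
  have a1 : a ≠ 1 := fun e => b1 (by rw [e, one_mul]; exact hd.2)
  refine hB.2 (hB.1.1.eq_of_mem c hA (hB.1.1.le_of_E c hA.le (hA.comm_le_CC c hB.1.1
    (Pt.comm_of_pgroup c hT hA hB.1.1 hAT hB.1.2)) (fun v hv => ?_) ha) ha a1)
  obtain ⟨u, hu, z, hz, rfl⟩ := (mem_sup_of_NN (ab_le_NN c.comm h2 inf_le_left)).1 (x3.ge hv.1)
  have z1 : d * z * d⁻¹ ∈ V ⊓ CC(X) := conj_mem_of_mem_NN (mem_NN_inf (c.norm (JD_le' hd.1))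
    (NN_le_NN_CC _ (CC_le_NN _ (k4 hd)))) hz
  refine Subgroup.mul_mem _ (x2.mem_of_comm ha a1 (h2 hu) ?_) (CC_anti x2.le hz.2)
  have e1 : ⁅a, u⁆ = u * (z * (d * z * d⁻¹)⁻¹) * u⁻¹ := by
    have e2 : a * u * a⁻¹ * (d * z * d⁻¹) = u * z := by
      calc _ = a * u * (a⁻¹ * (d * z * d⁻¹)) := by group
        _ = a * (u * d) * z * d⁻¹ * a⁻¹ := by rw [z1.2 _ (x2.le (A.inv_mem ha))]; group
        _ = a * d * (u * z) * (a * d)⁻¹ := by rw [hd.2 u hu]; group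
        _ = _ := by rw [hv.2 _ hb, mul_inv_cancel_right]
    rw [← mul_assoc u, ← e2, commutatorElement_def]; group
  have z2 := Subgroup.mul_mem _ hz (Subgroup.inv_mem _ z1)
  rw [e1, c.comm z2.1 u (h2 hu), mul_inv_cancel_right]
  exact z2.2

end Hyp

/-- `X` is a line through `A ≤ T`, not contained in `M`, centralizing the other points of `T` -/
structure Good (p : ℕ) (V P T M A X : Subgroup G) : Prop where
  hyp : Hyp p V P T M
  pt : Pt p V P A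
  le : A ≤ T
  line : Line V X A
  leP : X ≤ P
  nle : ¬ X ≤ M
  cent : X ≤ CC(YD p V P T A)

theorem Hyp.exists_good (h : Hyp p V P T M) (h0 : JD p V P T ≠ ⊥) : ∃ A X, Good p V P T M A X :=
  let ⟨A, X, h1, h2, h3, h4, h5, h6⟩ := h.exists_good_aux h0
  ⟨A, X, h, h1, h2, h3, h4, h5, h6⟩

namespace Good
variable {X : Subgroup G}

theorem ctx (h : Good p V P T M A X) : Ctx p V P := h.hyp.ctx

theorem cj (h : Good p V P T M A X) {g : G} (hg : g ∈ P) :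
    Good p V P (cj g T) (cj g M) (cj g A) (cj g X) :=
  ⟨h.hyp.cj hg, h.pt.cj h.ctx hg, cj_mono g h.le, h.line.conj (h.ctx.norm hg),
    cj_le_of_mem hg h.leP, fun h1 => h.nle (cj_le_cj.1 h1),
    by rw [← h.ctx.cj_YD hg, ← cj_centralizer]; exact cj_mono g h.cent⟩

theorem trans (h : Good p V P T M A X) (hB : Pt p V P B) (hT : B ≤ T) :
    ∃ t ∈ T, H10.cj t A = B := by
  by_contra h1
  have h2 : ncl B T ≤ T := ncl_le_of_le hT
  refine h.nle (le_trans (le_inf h.leP (h.cent.trans ((CC_anti (ncl_le_iff.2 fun t ht =>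
    (hB.cj h.ctx (h.hyp.syl.le ht)).le_YD (cj_le_of_mem ht hT) fun e => h1 ⟨_, T.inv_mem ht,
      by rw [← e, H10.cj_inv_cj]⟩)).trans (CC_le_NN _))))
    (h.hyp.NN_le (h.hyp.syl.isPGroup.to_le h2) (h2.trans h.hyp.syl.le)
      (fun e => hB.ne_bot (eq_bot_iff.2 ((le_ncl B T).trans e.le))) (le_NN_ncl _ _)))

theorem conj (h : Good p V P T M A X) (hB : Pt p V P B) {T' : Subgroup G} (h' : IsSylowIn p T' P)
    (hT : B ≤ T') : ∃ g ∈ P, H10.cj g T = T' ∧ H10.cj g A = B := by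
  obtain ⟨g, hg, rfl, -⟩ := h.hyp.of_sylow h'
  obtain ⟨t, ht, e⟩ := (h.cj hg).trans hB hT
  exact ⟨t * g, P.mul_mem (h'.le ht) hg, by rw [cj_mul, cj_eq_of_mem ht], by rw [cj_mul, e]⟩

theorem card_eq (h : Good p V P T M A X) (hB : Pt p V P B) : Nat.card B = Nat.card A := by
  obtain ⟨T', h1, h2⟩ := exists_isSylowIn_ge hB.isPGroup hB.le
  obtain ⟨g, -, -, rfl⟩ := h.conj hB h1 h2
  exact card_cj _ _

theorem not_le_YD (h : Good p V P T M A X) : ¬ A ≤ YD p V P T A := fun h1 => by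
  obtain ⟨x, hx, hn⟩ := h.line.ex
  exact hn ((h.pt.mem_NN_iff h.ctx (h.leP hx)).2 (CC_le_NN _ (CC_anti h1 (h.cent hx))))

end Good

end H12
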