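import Cfsg.Agent.H12.FF5

/-! A good line normalized by `N_T(A)`. -/

set_option autoImplicit false
set_option linter.unusedSectionVars false

open Cfsg Subgroup H10
open H4 (meas meas_def meas_bot)
open scoped commutatorElement

namespace H12

variable {G : Type*} [Group G] [Finite G] {p : ℕ} [Fact p.Prime]

/-- points centralizing `Y` and not contained in `Y` -/
structure D1 (p : ℕ) (V P Y C : Subgroup G) : Prop where
  pt : Pt p V P C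
  cent : C ≤ CC(Y)
  nle : ¬ C ≤ Y

/-- conjugates of `M` containing `Y` -/
def Mx (p : ℕ) (V P Y N : Subgroup G) : Prop := (∃ T, Hyp p V P T N) ∧ Y ≤ N

variable {V P T M A B X Y C D N : Subgroup G}

theorem D1.cj (h : D1 p V P Y C) (c : Ctx p V P) {g : G} (hg : g ∈ P) (hY : g ∈ NN(Y)) :
    D1 p V P Y (cj g C) :=
  ⟨h.pt.cj c hg, cj_le_of_mem_NN (NN_le_NN_CC _ hY) h.cent,
    fun h1 => h.nle (by rwa [← mem_NN.1 hY, cj_le_cj] at h1)⟩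

theorem Mx.cj (h : Mx p V P Y N) {g : G} (hg : g ∈ P) (hY : g ∈ NN(Y)) : Mx p V P Y (cj g N) :=
  let ⟨⟨_, h1⟩, h2⟩ := h
  ⟨⟨_, h1.cj hg⟩, by rw [← mem_NN.1 hY]; exact cj_mono g h2⟩

theorem Mx.mem (h : Mx p V P Y N) {g : G} (hg : g ∈ P) (e : H10.cj g N = N) : g ∈ N :=
  let ⟨⟨_, h1⟩, _⟩ := h; h1.mem_of_cj hg e

theorem Line.exists_not_sup (h : Line V X A) {R : Subgroup G} (hR : R ≤ V)
    (hc : Nat.card R ≤ Nat.card A) : ∃ g ∈ X, R ⊔ V ⊓ CC(cj g A) ≠ V := by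
  by_cases h1 : R ≤ CC(X)
  · exact ⟨1, X.one_mem, fun e => h.not_le (e.ge.trans (sup_le (h1.trans (CC_anti h.le))
      (by rw [cj_one]; exact inf_le_right)))⟩
  obtain ⟨r, hr, h2⟩ := SetLike.not_le_iff_exists.1 h1
  obtain ⟨g, hg, h3⟩ := h.cover (hR hr)
  refine ⟨g, hg, fun e => ?_⟩
  have h4 := card_sup_mul_card_inf (ab_le_NN h.comm hR (inf_le_left : V ⊓ CC(cj g A) ≤ V))
  rw [e, (h.pt hg).card_V, card_cj, mul_right_comm] at h4
  have h5 := (Nat.eq_of_mul_eq_mul_right Nat.card_pos h4).le.trans (hc.trans (mul_one _).ge)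
  exact h2 (mem_bot.1 (((card_le_one_iff_eq_bot _).1 (Nat.le_of_mul_le_mul_left h5 Nat.card_pos)).le
    ⟨hr, hR hr, h3⟩) ▸ Subgroup.one_mem _)

theorem Line.pts (h : Line V X A) (c : Ctx p V P) (hX : X ≤ P) (hA : Pt p V P A) {x g : G}
    (hx : x ∈ X) (hn : x ∉ NN(V ⊓ CC(A))) (hg : g ∈ X) :
    cj g A = A ∨ ∃ a ∈ A, cj g A = cj (a * x) A := by
  obtain ⟨u, hu, h1⟩ := SetLike.not_le_iff_exists.1 ((h.pt hg).r0.not_E_le h.nc)
  by_cases h2 : u ∈ CC(A)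
  · have := h.r0.spread2 hx hn hg X.one_mem hu.1 hu.2 (by rwa [cj_one]) h1
    rw [cj_one] at this
    exact Or.inl ((hA.cj c (hX hg)).eq_of_E c hA this)
  obtain ⟨a, ha, h3⟩ := h.r0.exists_mem_cj hx hn hu.1 h2
  have h4 := X.mul_mem (h.le ha) hx
  exact Or.inr ⟨a, ha, (hA.cj c (hX hg)).eq_of_E c (hA.cj c (hX h4))
    (h.r0.spread2 hx hn hg h4 hu.1 hu.2 h3 h1)⟩

namespace Good

theorem Y_le (h : Good p V P T M A X) : YD p V P T A ≤ T := YD_le.trans JD_le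
theorem Y_le' (h : Good p V P T M A X) : YD p V P T A ≤ P := YD_le.trans JD_le'
theorem Y_pg (h : Good p V P T M A X) : IsPGroup p (YD p V P T A) := h.hyp.syl.isPGroup.to_le h.Y_le
theorem d1 (h : Good p V P T M A X) : D1 p V P (YD p V P T A) A :=
  ⟨h.pt, h.line.le.trans h.cent, h.not_le_YD⟩
theorem mx (h : Good p V P T M A X) : Mx p V P (YD p V P T A) M := ⟨⟨T, h.hyp⟩, h.Y_le.trans h.hyp.le⟩

theorem YD_eq (h : Good p V P T M A X) {T' : Subgroup G} (h' : IsSylowIn p T' P) (hC : Pt p V P C)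
    (hn : ¬ C ≤ YD p V P T A) (h1 : C ≤ T') (h2 : YD p V P T A ≤ T') :
    YD p V P T' C = YD p V P T A := by
  obtain ⟨g, hg, rfl, rfl⟩ := h.conj hC h' h1
  refine (eq_of_le_of_card_ge (sSup_le fun B hB => hB.1.1.le_YD ((hB.1.1.le_YD hB.1.2 hB.2).trans h2)
    fun e => hn (e ▸ hB.1.1.le_YD hB.1.2 hB.2)) ?_).symm
  rw [← h.ctx.cj_YD hg, card_cj]; rfl

theorem eq_of_le (h : Good p V P T M A X) {T' : Subgroup G} (h' : IsSylowIn p T' P)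
    (hC : Pt p V P C) (hn : ¬ C ≤ YD p V P T A) (h1 : C ≤ T') (h2 : YD p V P T A ≤ T')
    (hB : Pt p V P B) (hn' : ¬ B ≤ YD p V P T A) (h3 : B ≤ T') : B = C :=
  by_contra fun e => hn' ((hB.le_YD h3 e).trans (h.YD_eq h' hC hn h1 h2).le)

theorem not_JD_le (h : Good p V P T M A X) {T' : Subgroup G} (h' : IsSylowIn p T' P) :
    ¬ JD p V P T' ≤ YD p V P T A := fun h1 => h.not_le_YD ((h.pt.le_JD h.le).trans
  (eq_of_le_of_card_ge YD_le ((h.hyp.card_JD h').ge.trans (card_le_of_le h1))).ge)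

theorem pg (h : Good p V P T M A X) (hC : D1 p V P (YD p V P T A) C) :
    IsPGroup p (C ⊔ YD p V P T A : Subgroup G) :=
  isPGroup_sup_of_NN hC.pt.isPGroup h.Y_pg (hC.cent.trans (CC_le_NN _))

theorem eq_of_comm (h : Good p V P T M A X) (hC : D1 p V P (YD p V P T A) C)
    (hD : D1 p V P (YD p V P T A) D) (hc : C ≤ CC(D)) : C = D := by
  obtain ⟨T', h1, h2⟩ := exists_isSylowIn_ge (isPGroup_sup_of_NN hC.pt.isPGroup (h.pg hD)
    (le_NN_sup (hc.trans (CC_le_NN _)) (hC.cent.trans (CC_le_NN _))))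
    (sup_le hC.pt.le (sup_le hD.pt.le h.Y_le'))
  exact h.eq_of_le h1 hD.pt hD.nle ((le_sup_left.trans le_sup_right).trans h2)
    ((le_sup_right.trans le_sup_right).trans h2) hC.pt hC.nle (le_sup_left.trans h2)

theorem uniq (h : Good p V P T M A X) (hC : D1 p V P (YD p V P T A) C) {N' : Subgroup G}
    (h1 : Mx p V P (YD p V P T A) N) (h2 : Mx p V P (YD p V P T A) N') (h3 : C ≤ N) (h4 : C ≤ N') :
    N = N' := by
  obtain ⟨⟨T1, k1⟩, k2⟩ := h1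
  obtain ⟨⟨T2, k3⟩, k4⟩ := h2
  obtain ⟨T', k5, k6⟩ := k1.exists_ge' (h.pg hC) (sup_le h3 k2)
  refine k3.uniq k5 (fun e => h.not_JD_le k3.syl (e.le.trans bot_le)) (JD_le_sup.trans (sup_le h4 ?_))
  rwa [h.YD_eq k5.syl hC.pt hC.nle (le_sup_left.trans k6) (le_sup_right.trans k6)]

theorem exists_mx (h : Good p V P T M A X) (hC : D1 p V P (YD p V P T A) C) :
    ∃ N, Mx p V P (YD p V P T A) N ∧ C ≤ N := by
  obtain ⟨T', N, h1, h2⟩ := h.hyp.exists_ge (h.pg hC) (sup_le hC.pt.le h.Y_le')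
  exact ⟨N, ⟨⟨T', h1⟩, le_sup_right.trans (h2.trans h1.le)⟩, le_sup_left.trans (h2.trans h1.le)⟩

theorem mem_of_cj_le (h : Good p V P T M A X) (hC : D1 p V P (YD p V P T A) C)
    (h1 : Mx p V P (YD p V P T A) N) (h3 : C ≤ N) {g : G} (hg : g ∈ P)
    (hY : g ∈ NN(YD p V P T A)) (h4 : H10.cj g C ≤ N) : g ∈ N :=
  h1.mem hg (h.uniq (hC.cj h.ctx hg hY) (h1.cj hg hY) h1 (cj_mono g h3) h4)

theorem exists_norm (h : Good p V P T M A X) (h1 : Mx p V P (YD p V P T A) N) {R : Subgroup G}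
    (hR : IsPGroup p R) (h2 : R ≤ N) (h3 : R ≤ NN(YD p V P T A)) :
    ∃ D, D1 p V P (YD p V P T A) D ∧ D ≤ N ∧ R ≤ NN(D) := by
  obtain ⟨⟨T1, k1⟩, k2⟩ := h1
  obtain ⟨T', k5, k6⟩ := k1.exists_ge' (isPGroup_sup_of_NN hR h.Y_pg h3) (sup_le h2 k2)
  obtain ⟨D, d1, d2, d3⟩ : ∃ D, Pt p V P D ∧ D ≤ T' ∧ ¬ D ≤ YD p V P T A := by
    by_contra h4
    push Not at h4
    exact h.not_JD_le k5.syl (sSup_le fun B hB => h4 B hB.1 hB.2)
  have k7 := le_sup_right.trans k6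
  have d : D1 p V P (YD p V P T A) D := ⟨d1, (h.ctx.le_CC_JD k5.syl.isPGroup d1 d2).trans
    (CC_anti (by rw [← h.YD_eq k5.syl d1 d3 d2 k7]; exact YD_le)), d3⟩
  refine ⟨D, d, d2.trans k5.le, fun r hr => mem_NN.2 ?_⟩
  have h4 := d.cj h.ctx (k1.lt.le (h2 hr)) (h3 hr)
  exact h.eq_of_le k5.syl d1 d3 d2 k7 h4.pt h4.nle (cj_le_of_mem (k6 (mem_sup_left hr)) d2)

theorem exists_line (h : Good p V P T M A X) (hB : D1 p V P (YD p V P T A) B)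
    (hC : D1 p V P (YD p V P T A) C) (h1 : Mx p V P (YD p V P T A) N) (h2 : B ≤ N) (h3 : ¬ C ≤ N) :
    ∃ X', Line V X' B ∧ X' ≤ P ∧ X' ≤ CC(YD p V P T A) ∧ ¬ X' ≤ N ∧
      V ⊓ CC(X') = V ⊓ CC(B) ⊓ (V ⊓ CC(C)) := by
  have c := h.ctx
  set H := P ⊓ CC(YD p V P T A) ⊓ CC(V ⊓ CC(B) ⊓ (V ⊓ CC(C)))
  have hH : H ≤ P := inf_le_left.trans inf_le_left
  have hY : H ≤ CC(YD p V P T A) := inf_le_left.trans inf_le_right
  have hY' := hY.trans (CC_le_NN _)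
  obtain ⟨S, s1, s2⟩ := exists_isSylowIn_ge (L := H) hB.pt.isPGroup
    (le_inf (le_inf hB.pt.le hB.cent) (le_CC_symm (inf_le_left.trans inf_le_right)))
  obtain ⟨T', N', t1, t2⟩ := h.hyp.exists_ge (isPGroup_sup_of_NN s1.isPGroup h.Y_pg (s1.le.trans hY'))
    (sup_le (s1.le.trans hH) h.Y_le')
  have t3 := le_sup_left.trans t2
  have t4 := le_sup_right.trans t2
  obtain rfl := h.uniq hB h1 ⟨⟨T', t1⟩, t4.trans t1.le⟩ h2 ((s2.trans t3).trans t1.le)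
  obtain ⟨K, k1, k2, k3⟩ := exists_umax_of_not_le s1.le (t3.trans t1.le) fun h4 => h3 (le_trans
    (le_inf (le_inf hC.pt.le hC.cent) (le_CC_symm (inf_le_right.trans inf_le_right))) h4)
  have s3 := s1.of_le (k3.1.trans inf_le_left) k1
  have key : ∀ n ∈ K, H10.cj n B ≤ S → n ∈ N := fun n hn h4 =>
    h.mem_of_cj_le hB h1 h2 (hH (k1 hn)) (hY' (k1 hn)) ((h4.trans t3).trans t1.le)
  obtain ⟨X', x1, g, hg, x2, x3, x4⟩ := hB.pt.exists_line c s3 k3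
    (fun h4 => k2 fun n hn => key n hn (cj_le_of_mem_NN (h4 hn) s2)) (k1.trans hH) s2
    (fun h4 => k2 fun n hn => key n hn ((cj_le_of_mem_NN (le_NN_pCoreOf K hn) h4).trans
      s3.pCoreOf_le))
    (le_inf inf_le_left ((inf_le_inf (k1.trans hH) (CC_anti (inf_le_inf_left _ (CC_anti t3)))).trans
      t1.ct))
  rw [cj_inf, cj_eq_of_mem hg] at x3 x4
  rw [← h.uniq hB h1 (h1.cj (hH (k1 hg)) (hY' (k1 hg))) h2 (x3.trans inf_le_right)] at x4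
  refine ⟨X', x2, (x1.trans k1).trans hH, (x1.trans k1).trans hY, fun h4 => x4 (le_inf x1 h4),
    (eq_of_le_of_card_ge (le_inf (inf_le_left.trans inf_le_left)
      (le_CC_symm ((x1.trans k1).trans inf_le_right))) ?_).symm⟩
  have h4 := hB.pt.card_le_inf c hC.pt
  rw [x2.card_V', h.card_eq hB.pt, h.card_eq hC.pt] at h4
  exact Nat.le_of_mul_le_mul_left h4 (Nat.mul_pos Nat.card_pos Nat.card_pos)

theorem sup_eq (h : Good p V P T M A X) (hB : D1 p V P (YD p V P T A) B)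
    (hC : D1 p V P (YD p V P T A) C) (h1 : Mx p V P (YD p V P T A) N) (h2 : B ≤ N) (h3 : ¬ C ≤ N) :
    V ⊓ CC(B) ⊔ V ⊓ CC(C) = V := by
  obtain ⟨X', x1, -, -, -, x2⟩ := h.exists_line hB hC h1 h2 h3
  refine (hB.pt.sup_iff h.ctx hC.pt).2 ?_
  rw [← x2, x1.card_V', h.card_eq hB.pt, h.card_eq hC.pt]

theorem le_of_mem (h : Good p V P T M A X) (hB : D1 p V P (YD p V P T A) B)
    (h1 : Mx p V P (YD p V P T A) N) {b : G} (hb : b ∈ B) (b1 : b ≠ 1) (h2 : b ∈ N) : B ≤ N := by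
  by_contra h3
  obtain ⟨D, d1, d2, d3⟩ := h.exists_norm h1 (hB.pt.isPGroup.to_le (zpowers_le.2 hb))
    (zpowers_le.2 h2) ((zpowers_le.2 hb).trans (hB.cent.trans (CC_le_NN _)))
  obtain ⟨N', n1, n2⟩ := h.exists_mx hB
  have h4 : ¬ D ≤ N' := fun h4 => h3 (h.uniq d1 h1 n1 d2 h4 ▸ n2)
  obtain ⟨X', x1, -, -, -, x2⟩ := h.exists_line hB d1 n1 n2 h4
  have h5 := h.sup_eq hB d1 n1 n2 h4
  rw [← hB.pt.ti hb b1] at h5
  have h6 := Pt.comm_le_of_sup h.ctx h5 (le_NN_inf ((zpowers_le.2 (hB.pt.le hb)).trans h.ctx.norm)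
    (le_NN_CC d3))
  refine b1 (x1.eq_one_of_comm hb fun v hv => (x2.ge ⟨x1.r0.comm_mem hb hv, h6 ?_⟩).2)
  rw [commutator_comm]
  exact commutator_mem_commutator (mem_zpowers b) hv

theorem d1_cj (h : Good p V P T M A X) {g : G} (hg : g ∈ X) :
    D1 p V P (YD p V P T A) (H10.cj g A) := h.d1.cj h.ctx (h.leP hg) (CC_le_NN _ (h.cent hg))

theorem mx_cj (h : Good p V P T M A X) {g : G} (hg : g ∈ X) :
    Mx p V P (YD p V P T A) (H10.cj g M) := h.mx.cj (h.leP hg) (CC_le_NN _ (h.cent hg))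

theorem le_cj (h : Good p V P T M A X) (g : G) : H10.cj g A ≤ H10.cj g M :=
  cj_mono g (h.le.trans h.hyp.le)

theorem exists_class (h : Good p V P T M A X) (hC : D1 p V P (YD p V P T A) C) :
    ∃ g ∈ X, C ≤ H10.cj g M := by
  obtain ⟨a, ha, a1⟩ := hC.pt.exists_ne
  obtain ⟨R, r1, r2, r3⟩ := hC.pt.exists_img h.ctx ha a1
  obtain ⟨g, hg, h1⟩ := h.line.exists_not_sup r1 (r3.trans (h.card_eq hC.pt)).le
  have aP := hC.pt.le ha
  have aY := CC_le_NN _ (hC.cent ha)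
  refine ⟨g, hg, h.le_of_mem hC (h.mx_cj hg) ha a1 (h.mem_of_cj_le (h.d1_cj hg) (h.mx_cj hg)
    (h.le_cj g) aP aY (by_contra fun h2 => h1 (le_antisymm (sup_le r1 inf_le_left) ((h.sup_eq
      (h.d1_cj hg) ((h.d1_cj hg).cj h.ctx aP aY) (h.mx_cj hg) (h.le_cj g) h2).ge.trans
        (sup_le le_sup_right ?_)))))⟩
  rw [← h.ctx.cjE aP]
  refine cj_le_of fun v hv => ?_
  rw [← inv_mul_cancel_right (a * v * a⁻¹) v]
  exact mul_mem_sup ((r2 _).2 ⟨v, hv.1, rfl⟩) hv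

theorem eq_of_class (h : Good p V P T M A X) {g : G} (hg : g ∈ X) (h1 : H10.cj g A ≤ M) :
    H10.cj g A = A :=
  mem_NN.1 ((h.pt.mem_NN_iff h.ctx (h.leP hg)).1 (by_contra fun h2 =>
    h.nle ((h.line.gen hg h2).ge.trans (sup_le (h.le.trans h.hyp.le) h1))))

theorem eq_of_class' (h : Good p V P T M A X) {g k : G} (hg : g ∈ X) (hk : k ∈ X)
    (h1 : H10.cj g M = H10.cj k M) : H10.cj g A = H10.cj k A := by
  have := h.eq_of_class (X.mul_mem (X.inv_mem hk) hg) (by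
    rw [cj_mul, cj_le_iff, inv_inv, ← h1]; exact h.le_cj g)
  rwa [cj_mul, cj_eq_iff, inv_inv] at this

theorem on_line (h : Good p V P T M A X) (hD : D1 p V P (YD p V P T A) D)
    (hZ : V ⊓ CC(X) ≤ CC(D)) : ∃ g ∈ X, H10.cj g A = D := by
  have c := h.ctx
  obtain ⟨g, hg, h1⟩ := h.exists_class hD
  have h2 : V ⊓ CC(D) ≤ V ⊓ CC(H10.cj g A) := fun v hv => ⟨hv.1, by
    by_cases h2 : v ∈ CC(X)
    · exact CC_anti (h.line.pt hg).le h2
    obtain ⟨k, hk, h3⟩ := h.line.cover hv.1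
    rwa [h.eq_of_class' hg hk (h.uniq hD (h.mx_cj hg) (h.mx_cj hk) h1 (by_contra fun h4 => ?_))]
    have h5 := ((h.d1_cj hk).pt.sup_iff c hD.pt).1
      (h.sup_eq (h.d1_cj hk) hD (h.mx_cj hk) (h.le_cj k) h4)
    rw [h.line.card_V', card_cj, h.card_eq hD.pt] at h5
    exact h2 ((eq_of_le_of_card_ge (le_inf (h.line.pt hk).r0.Z_le (le_inf inf_le_left hZ))
      (Nat.le_of_mul_le_mul_left h5 (Nat.mul_pos Nat.card_pos Nat.card_pos))).ge
        ⟨⟨hv.1, h3⟩, hv⟩).2⟩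
  refine ⟨g, hg, ((h.d1_cj hg).pt.eq_of_E c hD.pt (eq_of_le_of_card_ge h2 ?_).symm)⟩
  have h3 := hD.pt.card_V.symm.trans (h.d1_cj hg).pt.card_V
  rw [card_cj, h.card_eq hD.pt] at h3
  exact (Nat.eq_of_mul_eq_mul_left Nat.card_pos h3).ge

theorem exists_best (h : Good p V P T M A X) : ∃ X', Good p V P T M A X' ∧ T ⊓ NN(A) ≤ NN(X') := by
  have c := h.ctx
  have hT := h.hyp.syl
  have n1 := c.le_NN_YD (A := A) hT.le
  obtain ⟨x, hx, hn⟩ := h.line.ex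
  have x1 : ¬ H10.cj x A ≤ M := fun h1 =>
    hn ((h.pt.mem_NN_iff c (h.leP hx)).2 (mem_NN.2 (h.eq_of_class hx h1)))
  obtain ⟨B, b1, b2, b3⟩ := h.exists_norm (h.mx_cj hx) (R := T ⊓ NN(A) ⊓ H10.cj x M)
    (hT.isPGroup.to_le (inf_le_left.trans inf_le_left)) inf_le_right (inf_le_left.trans n1)
  obtain ⟨X', y1, y2, y3, y4, y5⟩ := h.exists_line h.d1 b1 h.mx (h.le.trans h.hyp.le)
    fun h1 => x1 (h.uniq b1 h.mx (h.mx_cj hx) h1 b2 ▸ h.le_cj x)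
  have h' : Good p V P T M A X' := ⟨h.hyp, h.pt, h.le, y1, y2, y4, y3⟩
  have n2 : T ⊓ NN(A) ≤ NN(V ⊓ CC(X')) := fun t ht => by
    have tP := hT.le ht.1
    have d := (h.d1_cj hx).cj c tP (n1 ht)
    obtain ⟨g, hg, h1⟩ := h.exists_class d
    rcases h.line.pts c h.leP h.pt hx hn hg with h2 | ⟨a, ha, h2⟩
    · rw [h.uniq h.d1 (h.mx_cj hg) h.mx (h2 ▸ h.le_cj g) (h.le.trans h.hyp.le), cj_le_iff,
        cj_eq_of_mem (M.inv_mem (h.hyp.le ht.1))] at h1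
      exact absurd h1 x1
    have h3 := X.mul_mem (h.line.le ha) hx
    rw [h.uniq (h.d1_cj hg) (h.mx_cj hg) (h.mx_cj h3) (h.le_cj g) (h2 ▸ h.le_cj _), cj_mul,
      le_cj_iff, ← cj_mul] at h1
    have h4 : a⁻¹ * t ∈ T ⊓ NN(A) :=
      Subgroup.mul_mem _ (Subgroup.inv_mem _ ⟨h.le ha, le_NN_self A ha⟩) ht
    have h5 := h.mem_of_cj_le (h.d1_cj hx) (h.mx_cj hx) (h.le_cj x) (hT.le h4.1) (n1 h4) h1
    rw [← mul_inv_cancel_left a t, y5]
    refine Subgroup.mul_mem _ (CC_le_NN _ (le_CC_symm (inf_le_left.trans inf_le_right) ha))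
      (mem_NN_inf (mem_NN_inf (c.norm (hT.le h4.1)) (NN_le_NN_CC _ h4.2))
        (mem_NN_inf (c.norm (hT.le h4.1)) (NN_le_NN_CC _ (b3 ⟨h4, h5⟩))))
  refine ⟨X', h', fun t ht => mem_NN_of_cj_le ?_⟩
  obtain ⟨y, hy, hyn⟩ := y1.ex
  obtain ⟨g, hg, h1⟩ := h'.on_line ((h'.d1_cj hy).cj c (hT.le ht.1) (n1 ht)) (by
    rw [← mem_NN.1 (n2 ht), ← cj_centralizer]
    exact cj_mono t ((y1.pt hy).r0.Z_le.trans inf_le_right))
  conv_lhs => rw [← y1.gen hy hyn, cj_sup, mem_NN.1 ht.2, ← h1]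
  exact sup_le y1.le (y1.pt hg).le

end Good

end H12
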