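import Cfsg.Agent.H12.FF6

/-! Families of good lines; commuting lines for `q > 2`; offenders lie in `JD`. -/

set_option autoImplicit false
set_option linter.unusedSectionVars false

open Cfsg Subgroup H10
open H4 (meas meas_def meas_bot)
open scoped commutatorElement

namespace H12

variable {G : Type*} [Group G] [Finite G] {p : ℕ} [Fact p.Prime]
variable {V P T M A B X Y C D N : Subgroup G}

theorem mem_stabMod {V N : Subgroup G} {g : G} :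
    g ∈ stabMod V N ↔ g ∈ NN(N) ∧ ∀ v ∈ V, ⁅g, v⁆ ∈ N := Iff.rfl

theorem comm_zpowers_le {V N : Subgroup G} {g : G} (h : g ∈ stabMod V N) : ⁅V, zpowers g⁆ ≤ N := by
  rw [commutator_comm]; exact (le_stabMod.1 (zpowers_le.2 h)).2

theorem comm_mem_comm {V K : Subgroup G} {g v : G} (hg : g ∈ K) (hv : v ∈ V) : ⁅g, v⁆ ∈ ⁅V, K⁆ := by
  rw [commutator_comm]; exact commutator_mem_commutator hg hv

theorem Pt.comm_iff (h : Pt p V P A) (c : Ctx p V P) (hB : Pt p V P B) :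
    A ≤ CC(B) ↔ ⁅V, A⁆ ≤ CC(B) :=
  ⟨h.comm_le_CC c hB, fun h1 => le_CC_symm (hB.comm_of_NN c h (fun _ ha => (hB.mem_NN_iff c
    (h.le ha)).1 (le_NN_of_comm_le_of_le (le_inf (comm_le_left (h.le.trans c.norm)) h1)
      inf_le_left ha)) h1)⟩

theorem Ctx.comm_sSup_le (c : Ctx p V P) {S : Set (Subgroup G)} {K : Subgroup G}
    (h : ∀ B ∈ S, B ≤ P ∧ B ≤ NN(K) ∧ ⁅V, B⁆ ≤ CC(K)) : ⁅V, sSup S⁆ ≤ CC(K) := by
  have h1 : sSup S ≤ stabMod V (V ⊓ CC(K)) := sSup_le fun B hB => le_stabMod.2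
    ⟨le_NN_inf ((h B hB).1.trans c.norm) (le_NN_CC (h B hB).2.1), by
      rw [commutator_comm]; exact le_inf (comm_le_left ((h B hB).1.trans c.norm)) (h B hB).2.2⟩
  rw [commutator_comm]
  exact (le_stabMod.1 h1).2.trans inf_le_right

theorem Ctx.comm_sup_le (c : Ctx p V P) {K : Subgroup G} (hA : A ≤ P) (hB : B ≤ P) (h1 : A ≤ NN(K))
    (h2 : B ≤ NN(K)) (h3 : ⁅V, A⁆ ≤ CC(K)) (h4 : ⁅V, B⁆ ≤ CC(K)) : ⁅V, A ⊔ B⁆ ≤ CC(K) := by
  rw [← sSup_pair]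
  exact c.comm_sSup_le (by rintro _ (rfl | rfl); exacts [⟨hA, h1, h3⟩, ⟨hB, h2, h4⟩])

theorem Line.pt_comm_le (h : Line V X A) (c : Ctx p V P) (hX : X ≤ P) (hA : Pt p V P A)
    (hB : Pt p V P B) (hc : B ≤ CC(X)) : ⁅V, B⁆ ≤ CC(X) := by
  obtain ⟨x, hx, hn⟩ := h.ex
  rw [← h.gen hx hn, CC_sup]
  exact le_inf (hB.comm_le_CC c hA (hc.trans (CC_anti h.le)))
    (hB.comm_le_CC c (hA.cj c (hX hx)) (hc.trans (CC_anti (h.pt hx).le)))

theorem Line.comm_le_CC (h : Line V X A) (c : Ctx p V P) (hX : X ≤ P) (hA : Pt p V P A)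
    {X' : Subgroup G} (h' : Line V X' B) (hX' : X' ≤ P) (hB : Pt p V P B) (hc : X ≤ CC(X')) :
    ⁅V, X⁆ ≤ CC(X') := by
  obtain ⟨x, hx, hn⟩ := h.ex
  have h1 := h.le.trans hc
  have h2 := (h.pt hx).le.trans hc
  rw [← h.gen hx hn]
  exact c.comm_sup_le hA.le (hA.cj c (hX hx)).le (h1.trans (CC_le_NN _)) (h2.trans (CC_le_NN _))
    (h'.pt_comm_le c hX' hB hA h1) (h'.pt_comm_le c hX' hB (hA.cj c (hX hx)) h2)

theorem Ctx.ker_trivial (c : Ctx p V P) {E : Subgroup G} {S : Set (Subgroup G)} (hE : E ≤ P)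
    (h1 : E ≤ sSup S) (h2 : ∀ D ∈ S, Pt p V P D ∧ D ≤ E ∧
      ∀ d ∈ D, (∀ v ∈ V, ⁅d, v⁆ ∈ CC(E)) → d = 1) (h3 : V ≤ ⁅V, E⁆ ⊔ V ⊓ CC(E)) {k : G} (hk : k ∈ E)
    (h : ∀ v ∈ V, ⁅k, v⁆ ∈ CC(E)) : k = 1 := by
  have n1 : E ≤ NN(V ⊓ CC(E)) := (le_CC_symm inf_le_right).trans (CC_le_NN _)
  have k1 : k ∈ stabMod V (V ⊓ CC(E)) :=
    ⟨n1 hk, fun v hv => ⟨comm_mem_of_NN (c.norm (hE hk)) hv, h v hv⟩⟩
  have k2 := comm_zpowers_le k1
  have k3 : E ≤ CC(zpowers k) := h1.trans (sSup_le fun D hD d hd => by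
    obtain ⟨d1, d2, d3⟩ := h2 D hD
    have k4 := (d1.mem_NN_iff c (hE hk)).1 (le_NN_of_comm_le_of_le
      (k2.trans (inf_le_inf_left _ (CC_anti d2))) inf_le_left (mem_zpowers k))
    have k5 : ⁅k, d⁆ ∈ stabMod V (V ⊓ CC(E)) := by
      rw [show ⁅k, d⁆ = k * (d * k⁻¹ * d⁻¹) by simp only [commutatorElement_def]; group]
      exact Subgroup.mul_mem _ k1 (conj_mem_of_mem_NN (le_NN_stabMod (hE.trans c.norm) n1 (d2 hd))
        (Subgroup.inv_mem _ k1))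
    rw [CC_zpowers, mem_centralizer_singleton_iff]
    exact (commutatorElement_eq_one_iff_mul_comm.1
      (d3 _ (comm_mem_of_NN k4 hd) fun v hv => (k5.2 v hv).2)).symm)
  refine c.eq_one (hE hk) (zpowers_le.1 (le_CC_symm (h3.trans (sup_le (comm_le_CC_of
    (k2.trans inf_le_right) (le_CC_symm k3)) (inf_le_right.trans (CC_anti (zpowers_le.2 hk)))))))

theorem Line.ker_trivial (h : Line V X A) (c : Ctx p V P) (hX : X ≤ P) (hA : Pt p V P A) :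
    ∀ k ∈ X, (∀ v ∈ V, ⁅k, v⁆ ∈ CC(X)) → k = 1 := by
  obtain ⟨x, hx, hn⟩ := h.ex
  refine fun k hk => c.ker_trivial (S := {A, cj x A}) hX (by rw [sSup_pair, h.gen hx hn]) ?_
    h.sup_Z.ge hk
  rintro _ (rfl | rfl)
  exacts [⟨hA, h.le, fun _ => h.eq_one_of_comm⟩,
    ⟨hA.cj c (hX hx), (h.pt hx).le, fun _ => (h.pt hx).eq_one_of_comm⟩]

theorem Line.not_mem_NN (h : Line V X A) {x b : G} (hx : x ∈ X) (hn : x ∉ NN(V ⊓ CC(A)))
    (hb : b ∈ cj x A) (b1 : b ≠ 1) : b ∉ NN(V ⊓ CC(A)) := fun h1 =>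
  h.r0.not_E_le h.nc fun v hv => ((h.r0.inf_eq hx hn).le ⟨hv, hv.1, (h.pt hx).mem_of_comm hb b1 hv.1
    ((h.r0.inf_eq hx hn).le ⟨comm_mem_of_NN h1 hv, (h.pt hx).r0.comm_mem hb hv.1⟩).2⟩).2

theorem Line.sup_eq (h : Line V X A) (c : Ctx p V P) (hX : X ≤ P) (hA : Pt p V P A) {g k : G}
    (hg : g ∈ X) (hk : k ∈ X) (hne : cj g A ≠ cj k A) : cj g A ⊔ cj k A = X := by
  have := (h.pt hg).gen (X.mul_mem hk (X.inv_mem hg)) fun h1 => hne (by
    have := mem_NN.1 (((hA.cj c (hX hg)).mem_NN_iff c (hX (X.mul_mem hk (X.inv_mem hg)))).1 h1)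
    rwa [← cj_mul, inv_mul_cancel_right, eq_comm] at this)
  rwa [← cj_mul, inv_mul_cancel_right] at this

theorem Line.not_comm (h : Line V X A) (c : Ctx p V P) (hX : X ≤ P) (hA : Pt p V P A) {g k : G}
    (hg : g ∈ X) (hk : k ∈ X) (hne : cj g A ≠ cj k A) : ¬ cj g A ≤ CC(cj k A) := fun h1 => by
  obtain ⟨x, hx, hn⟩ := (h.pt hk).ex
  refine hn (((hA.cj c (hX hk)).mem_NN_iff c (hX hx)).2 (CC_le_NN _ ?_))
  exact sup_le h1 (hA.cj c (hX hk)).comm ((h.sup_eq c hX hA hg hk hne).ge hx)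

namespace Good

theorem cent' (h : Good p V P T M A X) (hB : Pt p V P B) (hT : B ≤ T) (hne : B ≠ A) : B ≤ CC(X) :=
  (hB.le_YD hT hne).trans (le_CC_symm h.cent)

theorem comm_aux (h : Good p V P T M A X) {X' : Subgroup G} (h' : Good p V P T M B X')
    (hne : A ≠ B) (h2 : 2 < Nat.card A) : ⁅V, X'⁆ ≤ CC(X) := by
  have c := h.ctx
  obtain ⟨t, ht, t1, t2⟩ := h.line.exists_torus c.pow h2
  obtain ⟨x, hx, hn⟩ := h'.line.ex
  have tP := h.leP ht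
  have tA := (h.pt.mem_NN_iff c tP).1 t1
  have a1 := h'.cent' h.pt h.le hne
  have b1 := h.cent' h'.pt h'.le hne.symm
  have a2 := h'.line.pt_comm_le c h'.leP h'.pt h.pt a1
  have b2 := h.line.pt_comm_le c h.leP h.pt h'.pt b1
  have d := h'.d1_cj hx
  have d1 := (h'.line.pt hx).le
  have d2 : ⁅V, H10.cj x B⁆ ≤ V ⊓ CC(A) := le_inf (comm_le_left (d.pt.le.trans c.norm))
    (d.pt.comm_le_CC c h.pt (d1.trans (le_CC_symm a1)))
  have k1 : ∀ t ∈ X, t ∈ NN(A) → ⁅V, H10.cj t (H10.cj x B)⁆ ≤ CC(H10.cj x B) := fun t ht tA => by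
    rw [← c.cjW (h.leP ht)]
    refine cj_le_of fun w hw => ?_
    obtain ⟨u, hu, z, hz, e⟩ := (mem_sup_of_NN (ab_le_NN c.comm (comm_le_left
      (h.pt.le.trans c.norm)) inf_le_left)).1 (h.line.E_eq.le (d2 hw))
    have e1 : t * w * t⁻¹ = ⁅t, u⁆ * w := by
      rw [← e, ← mul_assoc, mul_assoc (t * u), ← hz.2 _ (X.inv_mem ht), commutatorElement_def]; group
    rw [e1]
    exact Subgroup.mul_mem _ (CC_anti d1 (a2 (comm_mem_of_NN
      (mem_NN_commutator (c.norm (h.leP ht)) tA) hu))) (d.pt.quad hw)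
  have tY : t ∈ NN(YD p V P T B) := mem_NN_of_cj_le (cj_sSup_le fun C hC => by
    by_cases e : C = A
    · rw [e, mem_NN.1 tA]; exact h.pt.le_YD h.le hne
    · rw [mem_NN.1 (CC_le_NN _ (le_CC_symm (h.cent' hC.1.1 hC.1.2 e) ht))]
      exact hC.1.1.le_YD hC.1.2 hC.2)
  have d' := d.cj c tP tY
  have k2 : t ∈ NN(H10.cj x B) := mem_NN.2 (h'.eq_of_comm d' d (c.le_CC_of d'.pt.le d.pt.le
    (k1 t ht tA) (by
      have := cj_mono t (k1 _ (X.inv_mem ht) (Subgroup.inv_mem _ tA))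
      rwa [c.cjW tP, H10.cj_cj_inv, cj_centralizer] at this)))
  have tB := le_CC_symm b1 ht
  have k3 : t ∈ NN(V ⊓ CC(X')) := by
    rw [← h'.line.gen hx hn]
    exact mem_NN_inf (c.norm tP) (NN_le_NN_CC _ (mem_NN_sup (CC_le_NN _ tB) k2))
  have k4 := comm_le_CC_of (b2.trans (CC_anti (zpowers_le.2 ht))) (le_CC_symm (zpowers_le.2 tB))
  have k5 : ⁅V, zpowers t⁆ ≤ V ⊓ CC(X') := by
    have n : ∀ K ≤ V, K ≤ NN(V ⊓ CC(X')) := fun K hK => ab_le_NN c.comm hK inf_le_left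
    conv_lhs => rw [← h'.line.r0.sup_eq hx hn, h'.line.E_eq]
    refine comm_sup_le (n _ (h'.line.E_eq.ge.trans inf_le_left)) (n _ inf_le_left) (comm_sup_le
      (n _ (comm_le_left (h'.pt.le.trans c.norm))) (n _ inf_le_left)
      ((comm_eq_bot.2 (b2.trans (CC_anti (zpowers_le.2 ht)))).le.trans bot_le)
      (comm_le_left (zpowers_le.2 k3))) (le_trans (le_inf (le_inf ((commutator_mono inf_le_left
        le_rfl).trans (comm_le_left (zpowers_le.2 (c.norm tP)))) ((commutator_mono inf_le_left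
        le_rfl).trans k4)) (comm_le_left (zpowers_le.2 (mem_NN_inf (c.norm tP)
        (NN_le_NN_CC _ k2))))) (h'.line.r0.inf_eq hx hn).le)
  have k6 : t ∈ stabMod V (V ⊓ CC(X')) := ⟨k3, fun v hv => k5 (comm_mem_comm (mem_zpowers t) hv)⟩
  have k7 : zpowers t ≤ CC(H10.cj x B) := zpowers_le.2 fun b hb => by
    have k8 : ⁅t, b⁆ ∈ stabMod V (V ⊓ CC(X')) := by
      rw [show ⁅t, b⁆ = t * (b * t⁻¹ * b⁻¹) by simp only [commutatorElement_def]; group]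
      exact Subgroup.mul_mem _ k6 (conj_mem_of_mem_NN (le_NN_stabMod h'.line.norm
        ((le_CC_symm inf_le_right).trans (CC_le_NN _)) (d1 hb)) (Subgroup.inv_mem _ k6))
    exact (commutatorElement_eq_one_iff_mul_comm.1 ((h'.line.pt hx).eq_one_of_comm
      (comm_mem_of_NN k2 hb) fun v hv => (k8.2 v hv).2)).symm
  have k8 := comm_le_CC_of (k5.trans (inf_le_right.trans (CC_anti d1))) k7
  have k9 : ⁅V, H10.cj x B⁆ ≤ CC(X) := fun w hw => t2 w (d2 hw) (by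
    rw [commutatorElement_eq_one_iff_mul_comm.2 (k8 hw t (mem_zpowers t))]; exact Subgroup.one_mem _)
  have k10 : ∀ K ≤ P, ⁅V, K⁆ ≤ CC(X) → K ≤ stabMod V (V ⊓ CC(X)) := fun K k1 k2 => le_stabMod.2
    ⟨le_NN_of_comm_le_of_le (le_inf (comm_le_left (k1.trans c.norm)) k2) inf_le_left, by
      rw [commutator_comm]; exact le_inf (comm_le_left (k1.trans c.norm)) k2⟩
  rw [← h'.line.gen hx hn, commutator_comm]
  exact (le_stabMod.1 (sup_le (k10 _ h'.pt.le b2) (k10 _ d.pt.le k9))).2.trans inf_le_right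

theorem comm_of_two_lt (h : Good p V P T M A X) {X' : Subgroup G} (h' : Good p V P T M B X')
    (hne : A ≠ B) (h2 : 2 < Nat.card A) : X ≤ CC(X') :=
  h.ctx.le_CC_of h.leP h'.leP (h'.comm_aux h hne.symm (by rwa [h.card_eq h'.pt]))
    (h.comm_aux h' hne h2)

theorem le_of_comm (h : Good p V P T M A X) (hD : Pt p V P D) (hc : D ≤ CC(JD p V P T)) : D ≤ T := by
  by_cases h1 : D ≤ YD p V P T A
  · exact h1.trans h.Y_le
  exact (h.eq_of_comm ⟨hD, hc.trans (CC_anti YD_le), h1⟩ h.d1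
    (hc.trans (CC_anti (h.pt.le_JD h.le)))).le.trans h.le

end Good

theorem Line.le_sup_cent (h : Line V X A) (c : Ctx p V P) (hX : X ≤ P) (hA : Pt p V P A)
    (hB : IsPGroup p B) (hP : B ≤ P) (hAB : A ≤ B) (h1 : B ≤ CC(A)) (h2 : B ≤ NN(X)) :
    B ≤ A ⊔ B ⊓ CC(⁅V, X⁆) := fun b hb => by
  obtain ⟨x, hx, hn⟩ := h.ex
  have e0 : cj (b * x * b⁻¹) A = cj b (cj x A) := by
    rw [cj_mul, cj_mul, mem_NN.1 (CC_le_NN _ (h1 (B.inv_mem hb)))]
  rcases h.pts c hX hA hx hn (conj_mem_of_mem_NN (h2 hb) hx) with h3 | ⟨a, ha, h3⟩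
  · rw [e0, cj_eq_iff, mem_NN.1 (CC_le_NN _ (h1 (B.inv_mem hb)))] at h3
    exact absurd ((hA.mem_NN_iff c (hX hx)).2 (mem_NN.2 h3)) hn
  have h4 : a⁻¹ * b ∈ B := B.mul_mem (B.inv_mem (hAB ha)) hb
  have h5 : a⁻¹ * b ∈ NN(cj x A) := mem_NN.2 (by rw [cj_mul, ← e0, h3, cj_mul, H10.cj_inv_cj])
  rw [← mul_inv_cancel_left a b]
  refine mul_mem_sup ha ⟨h4, ?_⟩
  generalize a⁻¹ * b = k at h4 h5
  have k1 := hB.to_le (zpowers_le.2 h4)
  obtain ⟨d, hd, d1⟩ := (bot_or_exists_ne_one _).resolve_left (inf_CC_ne_bot'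
    (hA.cj c (hX hx)).isPGroup k1 (zpowers_le.2 h5) (hA.cj c (hX hx)).ne_bot)
  have k2 : X ≤ CC(zpowers k) := (h.gen ((h.pt hx).le hd.1) (h.not_mem_NN hx hn hd.1 d1)).ge.trans
    (sup_le (le_CC_symm (zpowers_le.2 (h1 h4))) (cj_le_of_mem hd.2 (le_CC_symm
      (zpowers_le.2 (h1 h4)))))
  have kV : zpowers k ≤ NN(V) := zpowers_le.2 (c.norm (hP h4))
  refine zpowers_le.1 (le_CC_symm (comm_le_CC_of (by_contra fun k3 => h.nc ?_) (le_CC_symm k2)))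
  have k4 := h.irr (comm_le_left kV) (le_NN_commutator h.norm (k2.trans (CC_le_NN _))) k3
  exact (le_of_le_sup_comm_pgroup (isPGroup_sup_of_NN' (elab_isPGroup c.ea) k1 kV) le_sup_left
    (inf_le_left.trans le_sup_left) le_sup_right (le_NN_inf kV (le_NN_CC (zpowers_le.2 (h2 h4))))
    (by rw [sup_comm]; exact k4.ge)).trans inf_le_right

/-- a `T`-equivariant family of good lines -/
structure Fam (p : ℕ) (V P T M : Subgroup G) (X : Subgroup G → Subgroup G) : Prop where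
  hyp : Hyp p V P T M
  ex : ∃ A, Pt p V P A ∧ A ≤ T
  good : ∀ B, Pt p V P B → B ≤ T → Good p V P T M B (X B)
  equiv : ∀ B, Pt p V P B → B ≤ T → ∀ t ∈ T, cj t (X B) = X (cj t B)

theorem Hyp.exists_fam (h : Hyp p V P T M) (h0 : JD p V P T ≠ ⊥) : ∃ X, Fam p V P T M X := by
  obtain ⟨A, X, h1⟩ := h.exists_good h0
  obtain ⟨X, h1, h2⟩ := h1.exists_best
  have key : ∀ t ∈ T, (⨆ s ∈ {s | s ∈ T ∧ H10.cj s A = H10.cj t A}, H10.cj s X) = H10.cj t X :=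
    fun t ht => le_antisymm (iSup₂_le fun s hs => by
      rw [le_cj_iff, ← cj_mul, mem_NN.1 (h2 ⟨T.mul_mem (T.inv_mem ht) hs.1, mem_NN.2 (by
        rw [cj_mul, hs.2, H10.cj_inv_cj])⟩)])
      (le_iSup₂_of_le (f := fun s (_ : s ∈ {s | s ∈ T ∧ H10.cj s A = H10.cj t A}) => H10.cj s X)
        t ⟨ht, rfl⟩ le_rfl)
  refine ⟨fun B => ⨆ s ∈ {s | s ∈ T ∧ H10.cj s A = B}, H10.cj s X, h, ⟨A, h1.pt, h1.le⟩,
    fun B hB hT => ?_, fun B hB hT s hs => ?_⟩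
  · obtain ⟨t, ht, rfl⟩ := h1.trans hB hT
    have := h1.cj (h.syl.le ht)
    rwa [cj_eq_of_mem ht, cj_eq_of_mem (h.le ht), ← key t ht] at this
  · obtain ⟨t, ht, rfl⟩ := h1.trans hB hT
    rw [key t ht, ← cj_mul, ← cj_mul, key _ (T.mul_mem hs ht)]

namespace Fam
variable {X : Subgroup G → Subgroup G}

theorem ctx (h : Fam p V P T M X) : Ctx p V P := h.hyp.ctx

theorem le_NN (h : Fam p V P T M X) (hB : Pt p V P B) (hT : B ≤ T) : T ⊓ NN(B) ≤ NN(X B) :=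
  fun t ht => mem_NN.2 (by rw [h.equiv B hB hT t ht.1, mem_NN.1 ht.2])

theorem le_JD (h : Fam p V P T M X) : ∀ B ≤ T, IsElementaryAbelian p B → Nat.card V ≤ meas V B →
    B ≤ JD p V P T := by
  intro B
  induction B using WellFoundedLT.induction with
  | ind B ih =>
  intro hT he h1
  by_cases h0 : B = ⊥
  · exact h0.le.trans bot_le
  have c := h.ctx
  have hP := hT.trans h.hyp.syl.le
  obtain ⟨A, hAB, hA⟩ := h.hyp.exists_pt hP he h0 h1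
  have g := h.good A hA (hAB.trans hT)
  have h2 := (elab_le_CC he).trans (CC_anti hAB)
  have h3 := g.line.le_sup_cent c g.leP hA (elab_isPGroup he) hP hAB h2
    ((le_inf hT (h2.trans (CC_le_NN _))).trans (h.le_NN hA (hAB.trans hT)))
  have h4 : A ⊓ (B ⊓ CC(⁅V, X A⁆)) = ⊥ := (eq_bot_iff_forall _).2 fun a ha => c.eq_one (hA.le ha.1)
    (by rw [← g.line.sup_Z, CC_sup]; exact ⟨ha.2.2, le_CC_symm inf_le_right (g.line.le ha.1)⟩)
  have h5 := H4.meas_sup_mul (V := V) (B₁ := A) (B₂ := B ⊓ CC(⁅V, X A⁆)) c.ea.1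
    ((le_CC_symm (inf_le_left.trans h2)).trans (CC_le_NN _))
  rw [h4, card_bot, one_mul, le_antisymm (sup_le hAB inf_le_left) h3, le_antisymm (sup_le
    inf_le_left inf_le_left) (g.line.sup_Z.ge.trans (sup_le ((le_inf (comm_le_left g.line.norm)
      (le_CC_symm inf_le_right)).trans le_sup_right) (g.line.r0.Z_le.trans le_sup_left))),
    meas_def V A, ← hA.card_V, mul_comm] at h5
  exact h3.trans (sup_le (hA.le_JD (hAB.trans hT)) (ih _ (lt_of_le_of_ne inf_le_left fun e =>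
    hA.ne_bot (by rwa [e, inf_of_le_left hAB] at h4)) (inf_le_left.trans hT)
    (elab_of_le he inf_le_left) (h1.trans (Nat.eq_of_mul_eq_mul_left Nat.card_pos h5).le)))

end Fam

end H12
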