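import Cfsg.Agent.H12.FF7

/-! Transvections over `𝔽₂`: the symmetric group case. -/

set_option autoImplicit false
set_option linter.unusedSectionVars false

open Cfsg Subgroup H10
open H4 (meas meas_def meas_bot)
open scoped commutatorElement

namespace H12

theorem perm_eq_of_even {n : ℕ} (hn : 2 < n) {σ τ : Equiv.Perm (Fin n)}
    (h : ∀ v : Fin n → ZMod 2, ∑ i, v i = 0 → ∀ i, v (σ⁻¹ i) = v (τ⁻¹ i)) : σ = τ := by
  refine inv_injective (Equiv.ext fun i => by_contra fun h1 => ?_)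
  obtain ⟨j, j1, j2⟩ := Fin.exists_ne_and_ne_of_two_lt (σ⁻¹ i) (τ⁻¹ i) hn
  have := h (Pi.single (σ⁻¹ i) 1 + Pi.single j 1) (by
    simp only [Pi.add_apply, Finset.sum_add_distrib, Finset.sum_pi_single', Finset.mem_univ, if_true]
    rfl) i
  rw [Pi.add_apply, Pi.add_apply, Pi.single_eq_same, Pi.single_eq_of_ne j1.symm,
    Pi.single_eq_of_ne j2.symm, Pi.single_eq_of_ne (Ne.symm h1)] at this
  exact absurd this (by decide)

theorem perm_eq_top_of_star {k : ℕ} {H : Subgroup (Equiv.Perm (Fin (k + 1)))}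
    (h : ∀ y : Fin k, Equiv.swap 0 y.succ ∈ H) : H = ⊤ := by
  have h1 : ∀ i, Equiv.swap 0 i ∈ H := fun i => by
    refine Fin.cases ?_ h i
    rw [Equiv.swap_self]; exact H.one_mem
  rw [eq_top_iff, ← Equiv.Perm.closure_isSwap, closure_le]
  rintro _ ⟨i, j, hij, rfl⟩
  by_cases h2 : i = 0
  · rw [h2]; exact h1 j
  rw [Equiv.swap_comm, ← Equiv.swap_mul_swap_mul_swap (y := 0) h2 hij, Equiv.swap_comm i 0]
  exact H.mul_mem (H.mul_mem (h1 j) (h1 i)) (h1 j)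

variable {G : Type*} [Group G] [Finite G] {p : ℕ} [Fact p.Prime]
variable {V P T M A B X Y C D N : Subgroup G}

/-- `(ρ, ψ)` identifies the action of `L` on `U / Z` with a permutation action -/
structure PermAct {n : ℕ} (L U Z : Subgroup G) (ρ : L →* Equiv.Perm (Fin n))
    (ψ : U →* Multiplicative (Fin n → ZMod 2)) : Prop where
  norm : L ≤ NN(U)
  le : Z ≤ U
  even : ∀ u, ∑ i, (ψ u).toAdd i = 0
  surj : ∀ v : Fin n → ZMod 2, ∑ i, v i = 0 → ∃ u, (ψ u).toAdd = v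
  ker : ∀ u : U, ψ u = 1 ↔ (u : G) ∈ Z
  act : ∀ (e : L) (u w : U), (w : G) = e * u * (e : G)⁻¹ → ∀ i, (ψ w).toAdd i = (ψ u).toAdd ((ρ e)⁻¹ i)

theorem actsAsPerm_iff {n : ℕ} {R : Subgroup (Equiv.Perm (Fin n))} {L U Z : Subgroup G} :
    ActsAsOddPermModuleOnSection n R L U Z ↔ ∃ (ρ : L →* Equiv.Perm (Fin n))
      (ψ : U →* Multiplicative (Fin n → ZMod 2)), ρ.range = R ∧ PermAct L U Z ρ ψ := by
  constructor
  · rintro ⟨h1, h2, ρ, ψ, h3, h4, h5, h6, h7⟩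
    refine ⟨ρ, ψ, h3, h1, h2, h4, h5, h6, fun e u w hw => ?_⟩
    obtain ⟨w', h8, h9⟩ := h7 e u
    rw [show w = w' from Subtype.ext (hw.trans h8.symm)]; exact h9
  · rintro ⟨ρ, ψ, h3, h⟩
    exact ⟨h.norm, h.le, ρ, ψ, h3, h.even, h.surj, h.ker, fun e u =>
      ⟨⟨_, conj_mem_of_mem_NN (h.norm e.2) u.2⟩, rfl, h.act e u _ rfl⟩⟩

theorem exists_permAct {n : ℕ} (hn : 2 < n) {L U Z : Subgroup G} (hL : L ≤ NN(U)) (hZ : Z ≤ U)
    {ψ : U →* Multiplicative (Fin n → ZMod 2)} (he : ∀ u, ∑ i, (ψ u).toAdd i = 0)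
    (hs : ∀ v : Fin n → ZMod 2, ∑ i, v i = 0 → ∃ u, (ψ u).toAdd = v)
    (hk : ∀ u : U, ψ u = 1 ↔ (u : G) ∈ Z) {s : Set G} (hsN : s ⊆ NN(U)) (hLs : L ≤ closure s)
    (h : ∀ e ∈ s, ∃ σ : Equiv.Perm (Fin n), ∀ u w : U, (w : G) = e * u * e⁻¹ →
      ∀ i, (ψ w).toAdd i = (ψ u).toAdd (σ⁻¹ i)) : ∃ ρ, PermAct L U Z ρ ψ := by
  have ex : ∀ e ∈ closure s, ∃ σ : Equiv.Perm (Fin n), ∀ u w : U, (w : G) = e * u * e⁻¹ →
      ∀ i, (ψ w).toAdd i = (ψ u).toAdd (σ⁻¹ i) := by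
    intro g hg
    induction hg using closure_induction with
    | mem c hc => exact h c hc
    | one => exact ⟨1, fun u w e i => by rw [show w = u from Subtype.ext (by simpa using e)]; rfl⟩
    | mul g h _ hh' hg hh =>
      obtain ⟨M, hM⟩ := hg
      obtain ⟨N, hN⟩ := hh
      refine ⟨M * N, fun u w e i => ?_⟩
      rw [mul_inv_rev, Equiv.Perm.mul_apply,
        ← hN u ⟨_, conj_mem_of_mem_NN ((closure_le _).2 hsN hh') u.2⟩ rfl]
      exact hM _ w (by rw [e]; group) i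
    | inv g _ hg =>
      obtain ⟨M, hM⟩ := hg
      exact ⟨M⁻¹, fun u w e i => by rw [hM w u (by rw [e]; group)]; simp⟩
  choose f hf using ex
  refine ⟨MonoidHom.mk' (fun g => f g.1 (hLs g.2)) fun g k => perm_eq_of_even hn fun v hv i => ?_,
    hL, hZ, he, hs, hk, fun e => hf e.1 _⟩
  obtain ⟨u, rfl⟩ := hs v hv
  rw [mul_inv_rev, Equiv.Perm.mul_apply, ← hf _ _ u ⟨_, conj_mem_of_mem_NN (hL k.2) u.2⟩ rfl,
    ← hf _ _ u ⟨_, conj_mem_of_mem_NN (hL (g * k).2) u.2⟩ rfl]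
  exact hf _ _ _ _ (by simp [mul_assoc]) i

theorem eq_of_card_two (h2 : Nat.card A = 2) {a b : G} (ha : a ∈ A) (hb : b ∈ A) (a1 : a ≠ 1)
    (b1 : b ≠ 1) : a = b :=
  congrArg Subtype.val (((Nat.card_eq_two_iff' (1 : A)).1 h2).unique (y₁ := ⟨a, ha⟩) (y₂ := ⟨b, hb⟩)
    (fun e => a1 (congrArg Subtype.val e)) fun e => b1 (congrArg Subtype.val e))

/-- `α` is the direction of the transvection group `C` -/
def Dir (V C : Subgroup G) (α : G) : Prop :=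
  α ∈ ⁅V, C⁆ ∧ ∀ c ∈ C, c ≠ 1 → ∀ v ∈ V, v ∉ CC(C) → ⁅c, v⁆ = α

namespace Pt

theorem mul_mem_iff (h : Pt p V P A) (h2 : Nat.card A = 2) {u v : G} (hu : u ∈ V) (hv : v ∈ V) :
    u * v ∈ CC(A) ↔ (u ∈ CC(A) ↔ v ∈ CC(A)) := by
  have h1 := (CC(A).subgroupOf V).index_mul_card
  rw [← inf_subgroupOf_left, card_subgroupOf_of_le inf_le_left, h.card_V, h2,
    inf_subgroupOf_left] at h1
  exact mul_mem_iff_of_index_two (H := CC(A).subgroupOf V) (a := ⟨u, hu⟩) (b := ⟨v, hv⟩)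
    (Nat.eq_of_mul_eq_mul_right Nat.card_pos h1)

theorem exists_dir (h : Pt p V P A) (h2 : Nat.card A = 2) : ∃ α, Dir V A α := by
  obtain ⟨a, ha, a1⟩ := h.exists_ne
  obtain ⟨w, hw, w1⟩ := SetLike.not_le_iff_exists.1 h.not_le
  obtain ⟨X, -, hX⟩ := h.line
  refine ⟨_, comm_mem_comm ha hw, fun c hc c1 v hv v1 => ?_⟩
  rw [eq_of_card_two h2 hc ha c1 a1, ← inv_mul_cancel_right v w,
    hX.r0.comm_eq_of ha ⟨V.mul_mem hv (V.inv_mem hw), (h.mul_mem_iff h2 hv (V.inv_mem hw)).2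
      (iff_of_false v1 fun h3 => w1 ((Subgroup.inv_mem_iff _).1 h3))⟩ hw]

theorem comm_iff_dir (h : Pt p V P A) (c : Ctx p V P) {α : G} (hα : Dir V A α) (hB : Pt p V P B) :
    A ≤ CC(B) ↔ α ∈ CC(B) := by
  rw [h.comm_iff c hB]
  refine ⟨fun h1 => h1 hα.1, fun h1 => ?_⟩
  rw [commutator_comm]
  refine commutator_le.2 fun a ha v hv => ?_
  by_cases a1 : a = 1
  · simp [a1]
  by_cases v1 : v ∈ CC(A)
  · rw [commutatorElement_eq_one_iff_mul_comm.2 (v1 a ha)]; exact Subgroup.one_mem _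
  rwa [hα.2 a ha a1 v hv v1]

theorem cj_comm_iff (h : Pt p V P A) (c : Ctx p V P) (hD : Pt p V P D) (hB : Pt p V P B)
    (h2 : Nat.card A = 2) (h3 : Nat.card D = 2) (h4 : Nat.card B = 2) {d : G} (hd : d ∈ D)
    (d1 : d ≠ 1) (hn : ¬ A ≤ CC(D)) : H10.cj d A ≤ CC(B) ↔ (D ≤ CC(B) ↔ A ≤ CC(B)) := by
  obtain ⟨α, hα⟩ := h.exists_dir h2
  obtain ⟨β, hβ⟩ := hD.exists_dir h3
  have h5 := (h.comm_le c hα.1).1
  rw [(h.cj c (hD.le hd)).comm_iff c hB, h.comm_iff_dir c hα hB, hD.comm_iff_dir c hβ hB,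
    ← hB.mul_mem_iff h4 (hD.comm_le c hβ.1).1 h5, ← hβ.2 d hd d1 α h5 fun h6 =>
      hn ((h.comm_iff_dir c hα hD).2 h6), commutatorElement_def, inv_mul_cancel_right,
    ← c.cjW (hD.le hd), cj_le_iff, cj_centralizer, ← h.comm_iff c (hB.cj c (P.inv_mem (hD.le hd))),
    h.comm_iff_dir c hα (hB.cj c (P.inv_mem (hD.le hd))), ← cj_centralizer, mem_cj, inv_inv]

end Pt

theorem Ctx.star (c : Ctx p V P) {k : ℕ} (hk : Even k) (hk2 : 2 ≤ k) (D : Fin k → Subgroup G)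
    (hD : ∀ x, Pt p V P (D x)) (h2 : ∀ x, Nat.card (D x) = 2)
    (hnc : ∀ x y, x ≠ y → ¬ D x ≤ CC(D y)) : V ≤ ⁅V, ⨆ x, D x⁆ ⊔ V ⊓ CC(⨆ x, D x) ∧
      Nonempty ((⨆ x, D x : Subgroup G) ≃* Equiv.Perm (Fin (k + 1))) ∧
      ActsAsOddPermModuleOnSection (k + 1) ⊤ (⨆ x, D x) ⁅V, ⨆ x, D x⁆
        (⁅V, ⨆ x, D x⁆ ⊓ CC(⨆ x, D x)) := by
  classical
  set E := ⨆ x, D x with hE
  have hEP : E ≤ P := iSup_le fun x => (hD x).le
  have hDE : ∀ x, D x ≤ E := le_iSup D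
  choose α hα using fun x => (hD x).exists_dir (h2 x)
  obtain ⟨F, hF⟩ : ∃ F : Fin k → G → ZMod 2, ∀ x v, F x v = if v ∈ CC(D x) then 0 else 1 :=
    ⟨_, fun _ _ => rfl⟩
  have F0 : ∀ x v, F x v = 0 ↔ v ∈ CC(D x) := fun x v => by rw [hF]; split_ifs <;> simp [*]
  have F1 : ∀ x, ∀ u ∈ V, ∀ v ∈ V, F x (u * v) = F x u + F x v := fun x u hu v hv => by
    rw [hF, hF, hF, (hD x).mul_mem_iff (h2 x) hu hv]
    by_cases a : u ∈ CC(D x) <;> by_cases b : v ∈ CC(D x) <;> simp [a, b]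
    rfl
  have z2 : ∀ a : ZMod 2, a + a = 0 := by decide
  have k0 : (k : ZMod 2) = 0 := (ZMod.natCast_eq_zero_iff_even).2 hk
  let Ψ : V →* Multiplicative (Fin (k + 1) → ZMod 2) := MonoidHom.mk'
    (fun v => .ofAdd (Fin.cons (∑ x, F x v) fun y => F y v + ∑ x, F x v)) fun u v => by
      refine Multiplicative.toAdd.injective (funext fun i => ?_)
      refine Fin.cases ?_ (fun y => ?_) i <;>
        simp [F1 _ _ u.2 _ v.2, Finset.sum_add_distrib, add_add_add_comm]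
  have P0 : ∀ v : V, (Ψ v).toAdd 0 = ∑ x, F x v := fun _ => rfl
  have P1 : ∀ (v : V) y, (Ψ v).toAdd (Fin.succ y) = F y v + ∑ x, F x v := fun _ _ => rfl
  have he : ∀ u, ∑ i, (Ψ u).toAdd i = 0 := fun u => by
    simp only [Fin.sum_univ_succ, P0, P1, Finset.sum_add_distrib, Finset.sum_const, Finset.card_univ,
      Fintype.card_fin, nsmul_eq_mul, k0, zero_mul, add_zero, z2]
  have hker : ∀ u : V, Ψ u = 1 ↔ (u : G) ∈ CC(E) := fun u => by
    refine ⟨fun h => le_CC_symm (iSup_le fun y => le_CC_symm (zpowers_le.2 ((F0 y u).1 ?_)))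
      (mem_zpowers _), fun h => Multiplicative.toAdd.injective (funext fun i => ?_)⟩
    · have a := P0 u
      have b := P1 u y
      rw [h] at a b
      rw [← a] at b
      exact (add_zero _).symm.trans b.symm
    · have : ∀ x, F x u = 0 := fun x => (F0 x u).2 (CC_anti (hDE x) h)
      refine Fin.cases ?_ (fun y => ?_) i <;> simp [P0, P1, this]
  have αV : ∀ y, α y ∈ V := fun y => ((hD y).comm_le c (hα y).1).1
  have Fα : ∀ x y, F x (α y) = if x = y then 0 else 1 := fun x y => by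
    rw [hF]
    refine if_congr ⟨fun h => by_contra fun h1 => hnc y x (Ne.symm h1)
      (((hD y).comm_iff_dir c (hα y) (hD x)).2 h), fun h => h ▸ (hD x).quad (hα x).1⟩ rfl rfl
  have Sα : ∀ y, ∑ x, F x (α y) = 1 := fun y => by
    have : ∑ x, (F x (α y) + if x = y then 1 else 0) = k := by
      rw [Finset.sum_congr rfl fun x _ => show _ = (1 : ZMod 2) by rw [Fα]; split_ifs <;> simp]; simp
    rw [Finset.sum_add_distrib, Finset.sum_ite_eq', if_pos (Finset.mem_univ _), k0] at this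
    exact (eq_neg_of_add_eq_zero_left this).trans rfl
  have Ψα : ∀ y, (Ψ ⟨α y, αV y⟩).toAdd = Pi.single 0 1 + Pi.single y.succ 1 := fun y => by
    funext i
    refine Fin.cases ?_ (fun x => ?_) i
    · simp [P0, Sα, (Fin.succ_ne_zero y).symm]
    · rw [P1, Sα, Fα]
      by_cases h : x = y <;> simp [h, z2]
  have hW : ⁅V, E⁆ ≤ V := comm_le_left (hEP.trans c.norm)
  have hs : ∀ v : Fin (k + 1) → ZMod 2, ∑ i, v i = 0 →
      ∃ u : (⁅V, E⁆ : Subgroup G), (Ψ (inclusion hW u)).toAdd = v := fun v hv => by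
    have e : v = ∑ y : Fin k, v y.succ • (Pi.single 0 1 + Pi.single y.succ 1) := by
      funext i
      rw [Fin.sum_univ_succ] at hv
      refine Fin.cases ?_ (fun x => ?_) i
      · simp [Finset.sum_apply, (Fin.succ_ne_zero _).symm]
        exact (eq_neg_of_add_eq_zero_left hv).trans (ZMod.neg_eq_self_mod_two _)
      · simp [Finset.sum_apply, Pi.single_apply]
    have : Multiplicative.ofAdd v ∈ (Ψ.comp (inclusion hW)).range := by
      rw [e, ofAdd_sum]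
      refine Subgroup.prod_mem _ fun y _ => ?_
      have : ∀ a : ZMod 2, a = 0 ∨ a = 1 := by decide
      rcases this (v y.succ) with h | h
      · rw [h, zero_smul]; exact Subgroup.one_mem _
      · rw [h, one_smul, ← Ψα]
        exact ⟨⟨α y, commutator_mono le_rfl (hDE y) (hα y).1⟩, rfl⟩
    obtain ⟨u, hu⟩ := this
    exact ⟨u, congrArg _ hu⟩
  have act : ∀ y, ∀ d ∈ D y, d ≠ 1 → ∀ u w : V, (w : G) = d * u * d⁻¹ →
      ∀ i, (Ψ w).toAdd i = (Ψ u).toAdd ((Equiv.swap 0 y.succ)⁻¹ i) := fun y d hd d1 u w e i => by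
    have e1 : (Ψ w).toAdd = F y u • (Pi.single 0 1 + Pi.single y.succ 1) + (Ψ u).toAdd := by
      rw [hF]
      split_ifs with h
      · rw [show w = u from Subtype.ext (by rw [e, h d hd, mul_inv_cancel_right]), zero_smul, zero_add]
      · rw [show w = ⟨α y, αV y⟩ * u from Subtype.ext (by
          show (w : G) = α y * u
          rw [e, ← (hα y).2 d hd d1 u u.2 h, commutatorElement_def, inv_mul_cancel_right]),
          map_mul, toAdd_mul, Ψα, one_smul]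
    rw [e1, Equiv.swap_inv]
    by_cases a : i = 0
    · simp [a, P0, P1, (Fin.succ_ne_zero _).symm]
    by_cases b : i = y.succ
    · simp [b, P0, P1, ← add_assoc, z2]
    · simp [Equiv.swap_apply_of_ne_of_ne a b, a, b]
  have h1 : V ≤ ⁅V, E⁆ ⊔ V ⊓ CC(E) := fun v hv => by
    obtain ⟨u, hu⟩ := hs _ (he ⟨v, hv⟩)
    rw [← mul_inv_cancel_left u.1 v]
    have := (hker ((inclusion hW u)⁻¹ * ⟨v, hv⟩)).1
      (by rw [map_mul, map_inv, Multiplicative.toAdd.injective hu, inv_mul_cancel])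
    exact mul_mem_sup u.2 ⟨V.mul_mem (V.inv_mem (hW u.2)) hv, this⟩
  obtain ⟨ρ, hρ⟩ := exists_permAct (n := k + 1) (by omega) (L := E) (Z := V ⊓ CC(E)) (ψ := Ψ)
    (hEP.trans c.norm) inf_le_left he (fun v hv => let ⟨_, h⟩ := hs v hv; ⟨_, h⟩)
    (fun u => (hker u).trans ⟨fun h => ⟨u.2, h⟩, fun h => h.2⟩) (s := ⋃ x, D x)
    (Set.iUnion_subset fun x => (hD x).le.trans c.norm) (iSup_eq_closure D).le (by
      rintro d ⟨_, ⟨y, rfl⟩, hd⟩
      by_cases d1 : d = 1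
      · exact ⟨1, fun u w e i => by rw [show w = u from Subtype.ext (by simpa [d1] using e)]; rfl⟩
      exact ⟨_, act y d hd d1⟩)
  have hr : ρ.range = ⊤ := perm_eq_top_of_star fun y => by
    obtain ⟨d, hd, d1⟩ := (hD y).exists_ne
    refine ⟨⟨d, hDE y hd⟩, perm_eq_of_even (by omega) fun v hv i => ?_⟩
    obtain ⟨u, rfl⟩ := hρ.surj v hv
    have m := conj_mem_of_mem_NN (c.norm ((hD y).le hd)) u.2
    exact (hρ.act ⟨d, hDE y hd⟩ u ⟨_, m⟩ rfl i).symm.trans (act y d hd d1 u _ rfl i)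
  refine ⟨h1, ⟨MulEquiv.ofBijective ρ ⟨(injective_iff_map_eq_one ρ).2 fun g hg => Subtype.ext
    (c.ker_trivial (S := Set.range D) hEP le_rfl ?_ h1 g.2 fun v hv => ?_),
    MonoidHom.range_eq_top.1 hr⟩⟩, actsAsPerm_iff.2 ⟨ρ, Ψ.comp (inclusion hW), hr,
    right_le_NN_comm _ _, inf_le_left, fun u => he _, hs, fun u => (hker _).trans
      ⟨fun h => ⟨u.2, h⟩, fun h => h.2⟩, fun e u w h => hρ.act e _ _ h⟩⟩
  · rintro _ ⟨y, rfl⟩
    refine ⟨hD y, hDE y, fun d hd h => by_contra fun d1 => ?_⟩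
    have := Fin.nontrivial_iff_two_le.2 hk2
    obtain ⟨x, hx⟩ := exists_ne y
    obtain ⟨v, hv, v1⟩ := SetLike.not_le_iff_exists.1 (hD y).not_le
    exact hnc y x hx.symm (((hD y).comm_iff_dir c (hα y) (hD x)).2
      ((hα y).2 d hd d1 v hv v1 ▸ CC_anti (hDE x) (h v hv)))
  · have m := conj_mem_of_mem_NN (c.norm (hEP g.2)) hv
    refine (hker (⟨_, m⟩ * (⟨v, hv⟩ : V)⁻¹)).1 ?_
    rw [map_mul, map_inv, mul_inv_eq_one]
    refine Multiplicative.toAdd.injective (funext fun i => ?_)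
    rw [hρ.act g ⟨v, hv⟩ ⟨_, m⟩ rfl, hg]; rfl

end H12
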