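import Cfsg.Agent.H12.FF8

/-! The structure theorem for `p`-minimal groups with an offender. -/

set_option autoImplicit false
set_option linter.unusedSectionVars false

open Cfsg Subgroup H10
open H4 (meas meas_def meas_bot)
open scoped commutatorElement MatrixGroups

namespace H12

variable {G : Type*} [Group G] [Finite G] {p : ℕ} [Fact p.Prime]
variable {V P T M A B Y C D N : Subgroup G} {X : Subgroup G → Subgroup G}

/-- equal points, or points with non-commuting lines -/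
def LRel (X : Subgroup G → Subgroup G) (B C : Subgroup G) : Prop := B = C ∨ ¬ X B ≤ CC(X C)

theorem LRel.symm (h : LRel X B C) : LRel X C B := h.imp Eq.symm fun h1 h2 => h1 (le_CC_symm h2)

/-- the component of the point `B` -/
def EC (p : ℕ) (V P T : Subgroup G) (X : Subgroup G → Subgroup G) (B : Subgroup G) : Subgroup G :=
  sSup {Y | ∃ C, Pt p V P C ∧ C ≤ T ∧ LRel X B C ∧ X C = Y}

theorem le_EC (hC : Pt p V P C) (hT : C ≤ T) (h : LRel X B C) : X C ≤ EC p V P T X B :=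
  le_sSup ⟨C, hC, hT, h, rfl⟩

theorem Good.nc_of_rel {X X' : Subgroup G} (h : Good p V P T M A X) (h' : Good p V P T M B X')
    (hne : A ≠ B) (hn : ¬ X ≤ CC(X')) {g k : G} (hg : g ∈ X) (hk : k ∈ X') (h1 : H10.cj g A ≠ A)
    (h2 : H10.cj k B ≠ B) : ¬ H10.cj g A ≤ CC(H10.cj k B) := fun h3 => hn (by
  have e1 := h.line.sup_eq h.ctx h.leP h.pt hg X.one_mem (by rwa [cj_one])
  have e2 := h'.line.sup_eq h.ctx h'.leP h'.pt hk X'.one_mem (by rwa [cj_one])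
  rw [cj_one] at e1 e2
  refine e1.ge.trans (sup_le ?_ (h'.cent' h.pt h.le hne))
  rw [← e2, CC_sup]
  exact le_inf h3 ((h.line.pt hg).le.trans (le_CC_symm (h.cent' h'.pt h'.le hne.symm))))

theorem Good.exists_ne {X : Subgroup G} (h : Good p V P T M A X) : ∃ x ∈ X, H10.cj x A ≠ A :=
  let ⟨x, hx, hn⟩ := h.line.ex
  ⟨x, hx, fun e => hn ((h.pt.mem_NN_iff h.ctx (h.leP hx)).2 (mem_NN.2 e))⟩

theorem Good.no_fork {X₁ X₂ X₃ : Subgroup G} (h1 : Good p V P T M A X₁) (h2 : Good p V P T M B X₂)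
    (h3 : Good p V P T M C X₃) (q : Nat.card A = 2) (n12 : A ≠ B) (n23 : B ≠ C) (n13 : A ≠ C)
    (r12 : ¬ X₁ ≤ CC(X₂)) (r23 : ¬ X₂ ≤ CC(X₃)) : ¬ X₁ ≤ CC(X₃) := fun r13 => by
  have c := h1.ctx
  have q2 : ∀ {D}, Pt p V P D → Nat.card D = 2 := fun hD => (h1.card_eq hD).trans q
  obtain ⟨x, hx, x1⟩ := h1.exists_ne
  obtain ⟨y, hy, y1⟩ := h2.exists_ne
  obtain ⟨z, hz, z1⟩ := h3.exists_ne
  have pA := (h1.d1_cj hx).pt
  have pB := (h2.d1_cj hy).pt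
  have pC := (h3.d1_cj hz).pt
  have lA := (h1.line.pt hx).le
  have lB := (h2.line.pt hy).le
  have lC := (h3.line.pt hz).le
  have nAB := h1.nc_of_rel h2 n12 r12 hx hy x1 y1
  have nBC := h2.nc_of_rel h3 n23 r23 hy hz y1 z1
  have nA := h1.line.not_comm c h1.leP h1.pt hx X₁.one_mem (by rwa [cj_one])
  have nB := h2.line.not_comm c h2.leP h2.pt hy X₂.one_mem (by rwa [cj_one])
  have nC := h3.line.not_comm c h3.leP h3.pt hz X₃.one_mem (by rwa [cj_one])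
  rw [cj_one] at nA nB nC
  have c12 := h2.cent' h1.pt h1.le n12
  have c21 := h1.cent' h2.pt h2.le n12.symm
  have c23 := h3.cent' h2.pt h2.le n23
  have c32 := h2.cent' h3.pt h3.le n23.symm
  have e1 : H10.cj (x * z) A = H10.cj x A := by
    rw [cj_mul, mem_NN.1 (CC_le_NN _ (CC_anti h1.line.le (le_CC_symm r13 hz)))]
  have e2 : H10.cj (x * z) C = H10.cj z C := by
    rw [cj_mul, mem_NN.1 (CC_le_NN _ (CC_anti lC (r13 hx)))]
  have e3 : ∀ E, Pt p V P E → E ≤ T → E ≠ A → E ≠ C → H10.cj (x * z) E = E := fun E a1 a2 a3 a4 => by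
    rw [cj_mul, mem_NN.1 (CC_le_NN _ (le_CC_symm (h3.cent' a1 a2 a4) hz)),
      mem_NN.1 (CC_le_NN _ (le_CC_symm (h1.cent' a1 a2 a3) hx))]
  generalize H10.cj x A = A' at *
  generalize H10.cj y B = B' at *
  generalize H10.cj z C = C' at *
  have cAC : A' ≤ CC(C') := lA.trans (r13.trans (CC_anti lC))
  have cAB : A' ≤ CC(B) := lA.trans (le_CC_symm c21)
  have cCB : C' ≤ CC(B) := lC.trans (le_CC_symm c23)
  have cAC' : A' ≤ CC(C) := lA.trans (r13.trans (CC_anti h3.line.le))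
  have cCA : C' ≤ CC(A) := lC.trans ((le_CC_symm r13).trans (CC_anti h1.line.le))
  have cBA : B' ≤ CC(A) := lB.trans (le_CC_symm c12)
  have cBC : B' ≤ CC(C) := lB.trans (le_CC_symm c32)
  have cBA0 : B ≤ CC(A) := c21.trans (CC_anti h1.line.le)
  have cBC0 : B ≤ CC(C) := c23.trans (CC_anti h3.line.le)
  have sy : ∀ {K L : Subgroup G}, ¬ K ≤ CC(L) → ¬ L ≤ CC(K) := fun h h' => h (le_CC_symm h')
  obtain ⟨a, ha, a1⟩ := pA.exists_ne
  obtain ⟨b, hb, b1⟩ := pB.exists_ne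
  obtain ⟨d, hd, d1⟩ := pC.exists_ne
  obtain ⟨e, he, e0⟩ := h2.pt.exists_ne
  have p1 := pB.cj c (pC.le hd)
  have t1 := fun E (hE : Pt p V P E) => pB.cj_comm_iff c pC hE (q2 pB) (q2 pC) (q2 hE) hd d1 nBC
  have p2 := p1.cj c (pA.le ha)
  have t2 := fun E (hE : Pt p V P E) => p1.cj_comm_iff c pA hE (q2 p1) (q2 pA) (q2 hE) ha a1
    (by rw [t1 _ pA]; simp [le_CC_symm cAC, sy nAB])
  have p3 := p2.cj c (h2.pt.le he)
  have t3 := fun E (hE : Pt p V P E) => p2.cj_comm_iff c h2.pt hE (q2 p2) (q2 h2.pt) (q2 hE) he e0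
    (by rw [t2 _ h2.pt, t1 _ h2.pt]; simp [cAB, cCB, nB])
  have p4 := p3.cj c (pB.le hb)
  have t4 := fun E (hE : Pt p V P E) => p3.cj_comm_iff c pB hE (q2 p3) (q2 pB) (q2 hE) hb b1
    (by rw [t3 _ pB, t2 _ pB, t1 _ pB]; simp [nAB, sy nB, sy nBC, pB.comm])
  have l4 : H10.cj b (H10.cj e (H10.cj a (H10.cj d B'))) ≤ X₁ ⊔ X₂ ⊔ X₃ :=
    cj_le_of_mem (mem_sup_left (mem_sup_right (lB hb))) (cj_le_of_mem (mem_sup_left (mem_sup_right
      (h2.line.le he))) (cj_le_of_mem (mem_sup_left (mem_sup_left (lA ha))) (cj_le_of_mem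
      (mem_sup_right (lC hd)) (lB.trans (le_sup_right.trans le_sup_left)))))
  have t5 := fun E (hE : Pt p V P E) => (t4 E hE).trans (by rw [t3 _ hE, t2 _ hE, t1 _ hE])
  generalize H10.cj b (H10.cj e (H10.cj a (H10.cj d B'))) = D at p4 l4 t5
  have hg := P.mul_mem (h1.leP hx) (h3.leP hz)
  have k1 := (h2.cj hg).le_of_comm p4 (by
    rw [← c.cj_JD hg]
    refine le_CC_symm (cj_sSup_le fun E hE => le_CC_symm ?_)
    by_cases f1 : E = A
    · rw [f1, e1, t5 _ pA]; simp [sy nAB, le_CC_symm cAB, le_CC_symm cAC, pA.comm]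
    by_cases f2 : E = C
    · rw [f2, e2, t5 _ pC]; simp [nBC, le_CC_symm cCB, cAC, pC.comm]
    rw [e3 E hE.1 hE.2 f1 f2]
    by_cases f3 : E = B
    · rw [f3, t5 _ h2.pt]; simp [nB, cAB, cCB, h2.pt.comm]
    exact l4.trans (sup_le (sup_le (le_CC_symm (h1.cent' hE.1 hE.2 f1))
      (le_CC_symm (h2.cent' hE.1 hE.2 f3))) (le_CC_symm (h3.cent' hE.1 hE.2 f2))))
  have k2 : ¬ D ≤ CC(A) := by rw [t5 _ h1.pt]; simp [nA, cBA, cBA0, cCA]
  have k3 : ¬ D ≤ CC(C) := by rw [t5 _ h3.pt]; simp [nC, cBC, cBC0, cAC']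
  have k4 := p4.cj c (P.inv_mem hg)
  rw [le_cj_iff] at k1
  have k5 := H10.cj_cj_inv (x * z) D
  by_cases f1 : H10.cj (x * z)⁻¹ D = A
  · rw [f1, e1] at k5; exact k3 (k5 ▸ cAC')
  by_cases f2 : H10.cj (x * z)⁻¹ D = C
  · rw [f2, e2] at k5; exact k2 (k5 ▸ cCA)
  rw [e3 _ k4 k1 f1 f2] at k5
  exact k2 (k5 ▸ (h1.cent' k4 k1 f1).trans (CC_anti h1.line.le))

namespace Fam

theorem eq_of_rel (h : Fam p V P T M X) (hA : Pt p V P A) (a : A ≤ T) (hB : Pt p V P B) (b : B ≤ T)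
    (q : 2 < Nat.card A) (r : LRel X A B) : A = B :=
  by_contra fun e => r.elim e fun h1 => h1 ((h.good A hA a).comm_of_two_lt (h.good B hB b) e q)

theorem rel_trans (h : Fam p V P T M X) (hA : Pt p V P A) (a : A ≤ T) (hB : Pt p V P B) (b : B ≤ T)
    (hC : Pt p V P C) (c : C ≤ T) (r1 : LRel X A B) (r2 : LRel X B C) : LRel X A C := by
  rcases (show 2 ≤ Nat.card A from hA.one_lt).eq_or_lt with q | q
  · by_cases e1 : A = B
    · rwa [e1]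
    by_cases e2 : B = C
    · rwa [← e2]
    by_cases e3 : A = C
    · exact Or.inl e3
    exact Or.inr ((h.good A hA a).no_fork (h.good B hB b) (h.good C hC c) q.symm e1 e2 e3
      (r1.resolve_left e1) (r2.resolve_left e2))
  · rwa [h.eq_of_rel hA a hB b q r1]

theorem rel_cj (h : Fam p V P T M X) (hA : Pt p V P A) (a : A ≤ T) (hB : Pt p V P B) (b : B ≤ T)
    {t : G} (ht : t ∈ T) (r : LRel X A B) : LRel X (cj t A) (cj t B) :=
  r.imp (congrArg _) fun h1 h2 => h1 (by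
    rwa [← h.equiv A hA a t ht, ← h.equiv B hB b t ht, ← cj_centralizer, cj_le_cj] at h2)

theorem pt_cj (h : Fam p V P T M X) (hA : Pt p V P A) {t : G} (ht : t ∈ T) : Pt p V P (cj t A) :=
  hA.cj h.ctx (h.hyp.syl.le ht)

theorem EC_le (h : Fam p V P T M X) : EC p V P T X B ≤ P :=
  sSup_le (by rintro _ ⟨C, h1, h2, -, rfl⟩; exact (h.good C h1 h2).leP)

theorem cj_EC (h : Fam p V P T M X) (hB : Pt p V P B) (b : B ≤ T) {t : G} (ht : t ∈ T) :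
    cj t (EC p V P T X B) = EC p V P T X (cj t B) := by
  have key : ∀ B, Pt p V P B → B ≤ T → ∀ t ∈ T, cj t (EC p V P T X B) ≤ EC p V P T X (cj t B) :=
    fun B hB b t ht => cj_sSup_le (by
      rintro _ ⟨C, h1, h2, h3, rfl⟩
      rw [h.equiv C h1 h2 t ht]
      exact le_EC (h.pt_cj h1 ht) (cj_le_of_mem ht h2) (h.rel_cj hB b h1 h2 ht h3))
  refine le_antisymm (key B hB b t ht) (le_cj_iff.2 ?_)
  have := key _ (h.pt_cj hB ht) (cj_le_of_mem ht b) _ (T.inv_mem ht)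
  rwa [H10.cj_inv_cj] at this

theorem EC_eq (h : Fam p V P T M X) (hA : Pt p V P A) (a : A ≤ T) (hB : Pt p V P B) (b : B ≤ T)
    (r : LRel X A B) : EC p V P T X A = EC p V P T X B :=
  le_antisymm (sSup_le (by
    rintro _ ⟨C, h1, h2, h3, rfl⟩; exact le_EC h1 h2 (h.rel_trans hB b hA a h1 h2 r.symm h3)))
    (sSup_le (by rintro _ ⟨C, h1, h2, h3, rfl⟩; exact le_EC h1 h2 (h.rel_trans hA a hB b h1 h2 r h3)))

theorem EC_comm (h : Fam p V P T M X) (hA : Pt p V P A) (a : A ≤ T) (hB : Pt p V P B) (b : B ≤ T)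
    (r : ¬ LRel X A B) : EC p V P T X A ≤ CC(EC p V P T X B) ∧
      ⁅V, EC p V P T X A⁆ ≤ CC(EC p V P T X B) := by
  have key : ∀ C, Pt p V P C → C ≤ T → LRel X A C → ∀ D, Pt p V P D → D ≤ T → LRel X B D →
      X C ≤ CC(X D) := fun C c1 c2 c3 D d1 d2 d3 => by_contra fun h1 =>
    r (h.rel_trans hA a d1 d2 hB b (h.rel_trans hA a c1 c2 d1 d2 c3 (Or.inr h1)) d3.symm)
  have k1 : ∀ C, Pt p V P C → C ≤ T → LRel X A C → X C ≤ CC(EC p V P T X B) := fun C c1 c2 c3 =>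
    le_CC_symm (sSup_le (by
      rintro _ ⟨D, d1, d2, d3, rfl⟩; exact le_CC_symm (key C c1 c2 c3 D d1 d2 d3)))
  refine ⟨sSup_le (by rintro _ ⟨C, c1, c2, c3, rfl⟩; exact k1 C c1 c2 c3), h.ctx.comm_sSup_le ?_⟩
  rintro _ ⟨C, c1, c2, c3, rfl⟩
  have g := h.good C c1 c2
  refine ⟨g.leP, (k1 C c1 c2 c3).trans (CC_le_NN _), le_CC_symm (sSup_le ?_)⟩
  rintro _ ⟨D, d1, d2, d3, rfl⟩
  have g' := h.good D d1 d2
  exact le_CC_symm (g.line.comm_le_CC h.ctx g.leP c1 g'.line g'.leP d1 (key C c1 c2 c3 D d1 d2 d3))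

theorem EC_eq_line (h : Fam p V P T M X) (hA : Pt p V P A) (a : A ≤ T) (q : 2 < Nat.card A) :
    EC p V P T X A = X A :=
  le_antisymm (sSup_le (by rintro _ ⟨C, h1, h2, h3, rfl⟩; rw [h.eq_of_rel hA a h1 h2 q h3]))
    (le_EC hA a (Or.inl rfl))

theorem exists_star (h : Fam p V P T M X) (hA : Pt p V P A) (a : A ≤ T) (q : Nat.card A = 2) :
    ∃ n, 1 ≤ n ∧ ∃ D : Fin (p ^ n) → Subgroup G, (∀ x, Pt p V P (D x)) ∧
      (∀ x y, x ≠ y → ¬ D x ≤ CC(D y)) ∧ ⨆ x, D x = EC p V P T X A := by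
  have c := h.ctx
  have g := h.good A hA a
  let R : Subgroup G :=
    { carrier := {t | t ∈ T ∧ LRel X A (cj t A)}
      one_mem' := ⟨T.one_mem, Or.inl (cj_one A).symm⟩
      mul_mem' := fun {s t} hs ht => ⟨T.mul_mem hs.1 ht.1, h.rel_trans hA a (h.pt_cj hA hs.1)
        (cj_le_of_mem hs.1 a) (h.pt_cj hA (T.mul_mem hs.1 ht.1)) (cj_le_of_mem (T.mul_mem hs.1 ht.1) a)
        hs.2 (by rw [cj_mul]; exact h.rel_cj hA a (h.pt_cj hA ht.1) (cj_le_of_mem ht.1 a) hs.1 ht.2)⟩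
      inv_mem' := fun {t} ht => ⟨T.inv_mem ht.1, by
        have := h.rel_cj hA a (h.pt_cj hA ht.1) (cj_le_of_mem ht.1 a) (T.inv_mem ht.1) ht.2
        rw [H10.cj_inv_cj] at this
        exact this.symm⟩ }
  have hR : IsPGroup p R := h.hyp.syl.isPGroup.to_le fun _ ht => ht.1
  letI : MulAction R (Subgroup G) :=
    { smul := fun t K => cj (t : G) K, one_smul := cj_one,
      mul_smul := fun s t => cj_mul (s : G) (t : G) }
  obtain ⟨x, hx, x1⟩ := g.exists_ne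
  obtain ⟨n, hn⟩ := hR.card_orbit (cj x A)
  have on : ∀ t : R, ∃ y ∈ X (cj (t : G) A), cj (t : G) (cj x A) = cj y (cj (t : G) A) ∧
      cj y (cj (t : G) A) ≠ cj (t : G) A := fun t => by
    have e : cj (t : G) (cj x A) = cj (t * x * (t : G)⁻¹) (cj (t : G) A) := by
      rw [← cj_mul, ← cj_mul, inv_mul_cancel_right]
    refine ⟨_, ?_, e, fun e1 => x1 (cj_inj.1 (e.trans e1))⟩
    rw [← h.equiv A hA a t t.2.1]
    exact conj_mem_cj hx
  have gd := fun t : R => h.good _ (h.pt_cj hA t.2.1) (cj_le_of_mem t.2.1 a)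
  have two : ∀ t : R, ∃ s : R, cj (s : G) (cj x A) ≠ cj (t : G) (cj x A) ∧
      cj (s : G) (cj x A) ⊔ cj (t : G) (cj x A) = X (cj (t : G) A) := fun t => by
    obtain ⟨y, hy, e, y1⟩ := on t
    obtain ⟨b, hb, b1⟩ := (gd t).pt.exists_ne
    have b2 := (gd t).line.le hb
    have e1 : cj (b * t) A = cj (t : G) A := by rw [cj_mul, cj_eq_of_mem hb]
    have ne : cj (b * y) (cj (t : G) A) ≠ cj y (cj (t : G) A) := fun e2 =>
      ((gd t).line.pt hy).not_mem_NN ((X _).inv_mem hy) (fun h1 => y1 (by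
        have := mem_NN.1 ((((gd t).d1_cj hy).pt.mem_NN_iff c ((gd t).leP ((X _).inv_mem hy))).1 h1)
        rwa [H10.cj_inv_cj, eq_comm] at this)) (by rwa [H10.cj_inv_cj]) b1
        ((((gd t).d1_cj hy).pt.mem_NN_iff c ((gd t).leP b2)).2 (mem_NN.2 (by rwa [← cj_mul])))
    refine ⟨⟨b * t, T.mul_mem ((gd t).le hb) t.2.1, by rw [e1]; exact t.2.2⟩, ?_⟩
    show cj (b * t) _ ≠ _ ∧ cj (b * t) _ ⊔ _ = _
    rw [cj_mul, e, ← cj_mul]
    exact ⟨ne, (gd t).line.sup_eq c (gd t).leP (gd t).pt ((X _).mul_mem b2 hy) hy ne⟩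
  let e := Finite.equivFinOfCardEq hn
  have ex : ∀ i, ∃ t : R, cj (t : G) (cj x A) = (e.symm i).1 := fun i => (e.symm i).2
  refine ⟨n, Nat.one_le_iff_ne_zero.2 fun h0 => ?_, fun i => (e.symm i).1, fun i => ?_,
    fun i j hij => ?_, le_antisymm (iSup_le fun i => ?_) (sSup_le ?_)⟩
  · obtain ⟨s, h1, -⟩ := two 1
    rw [h0, pow_zero] at hn
    have := (Nat.card_eq_one_iff_unique.1 hn).1
    exact h1 (congrArg Subtype.val (Subsingleton.elim (⟨_, s, rfl⟩ : MulAction.orbit R (cj x A))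
      ⟨_, 1, rfl⟩))
  · obtain ⟨t, ht⟩ := ex i
    show Pt p V P (e.symm i).1
    rw [← ht]
    exact h.pt_cj (g.d1_cj hx).pt t.2.1
  · have ne : (e.symm i).1 ≠ (e.symm j).1 := fun h1 => hij (e.symm.injective (Subtype.ext h1))
    obtain ⟨s, hs⟩ := ex i
    obtain ⟨t, ht⟩ := ex j
    obtain ⟨y, hy, y0, y1⟩ := on s
    obtain ⟨z, hz, z0, z1⟩ := on t
    show ¬ (e.symm i).1 ≤ CC((e.symm j).1)
    rw [← hs, y0, ← ht, z0] at ne ⊢
    by_cases h1 : cj (s : G) A = cj (t : G) A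
    · rw [h1] at hy ne ⊢
      exact (gd t).line.not_comm c (gd t).leP (gd t).pt hy hz ne
    exact (gd s).nc_of_rel (gd t) h1 ((h.rel_trans (gd s).pt (gd s).le hA a (gd t).pt (gd t).le
      s.2.2.symm t.2.2).resolve_left h1) hy hz y1 z1
  · obtain ⟨t, ht⟩ := ex i
    obtain ⟨y, hy, y0, -⟩ := on t
    exact (ht.symm.trans y0).le.trans (((gd t).line.pt hy).le.trans (le_EC (gd t).pt (gd t).le t.2.2))
  · rintro _ ⟨C, c1, c2, c3, rfl⟩
    obtain ⟨t, ht, rfl⟩ := g.trans c1 c2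
    obtain ⟨s, -, h1⟩ := two ⟨t, ht, c3⟩
    have k : ∀ s : R, cj (s : G) (cj x A) ≤ ⨆ i, (e.symm i).1 := fun s =>
      le_iSup_of_le (e ⟨_, s, rfl⟩) (by rw [e.symm_apply_apply]; rfl)
    exact h1.ge.trans (sup_le (k s) (k ⟨t, ht, c3⟩))

end Fam

namespace Fam

/-- the structure of a component -/
def CompStr (p : ℕ) (V E : Subgroup G) : Prop :=
  ∃ n : ℕ, 1 ≤ n ∧ ((∃ (F : Type) (_ : Field F) (_ : Fintype F), Fintype.card F = p ^ n ∧
    Nonempty (E ≃* SL(2, F)) ∧ ActsAsSL2OnSection F ⊤ E ⁅V, E⁆ (⁅V, E⁆ ⊓ CC(E))) ∨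
    (p = 2 ∧ Nonempty (E ≃* Equiv.Perm (Fin (2 ^ n + 1))) ∧
      ActsAsOddPermModuleOnSection (2 ^ n + 1) ⊤ E ⁅V, E⁆ (⁅V, E⁆ ⊓ CC(E))))

theorem EC_str (h : Fam p V P T M X) (hA : Pt p V P A) (a : A ≤ T) :
    V ≤ ⁅V, EC p V P T X A⁆ ⊔ V ⊓ CC(EC p V P T X A) ∧ CompStr p V (EC p V P T X A) := by
  have c := h.ctx
  have g := h.good A hA a
  obtain ⟨m, hm⟩ := IsPGroup.iff_card.1 hA.isPGroup
  have m1 : 1 ≤ m := Nat.one_le_iff_ne_zero.2 fun e => hA.one_lt.ne' (by rw [hm, e, pow_zero])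
  rcases (show 2 ≤ Nat.card A from hA.one_lt).eq_or_lt with q | q
  · obtain rfl : p = 2 := (Nat.prime_dvd_prime_iff_eq Fact.out Nat.prime_two).1
      (by rw [q, hm]; exact dvd_pow_self p (by omega))
    obtain ⟨n, n1, D, d1, d2, d3⟩ := h.exists_star hA a q.symm
    obtain ⟨k1, k2, k3⟩ := c.star ((Nat.even_pow' (by omega)).2 even_two)
      (Nat.le_self_pow (by omega) 2) D d1 (fun x => (g.card_eq (d1 x)).trans q.symm) d2
    rw [d3] at k1 k2 k3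
    exact ⟨k1, n, n1, Or.inr ⟨rfl, k2, k3⟩⟩
  · rw [h.EC_eq_line hA a q]
    obtain ⟨F, _, _, k1, k2, -, k3⟩ := g.line.exists_sl2 c.pow (g.line.ker_trivial c g.leP hA)
    exact ⟨g.line.sup_Z.ge, m, m1, Or.inl ⟨F, inferInstance, inferInstance, k1.trans hm, k2, k3⟩⟩

end Fam

theorem decomp_of_comm {ι : Type*} [Finite ι] (hV : V ≤ CC(V)) {E : ι → Subgroup G}
    (h0 : ∀ i, E i ≤ NN(V)) (h1 : ∀ i, V ≤ ⁅V, E i⁆ ⊔ V ⊓ CC(E i))
    (h2 : ∀ i j, i ≠ j → ⁅V, E i⁆ ≤ CC(E j)) : V ⊓ CC(⨆ i, E i) ⊔ ⨆ i, ⁅V, E i⁆ = V := by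
  classical
  have := Fintype.ofFinite ι
  have hW : ⨆ i, ⁅V, E i⁆ ≤ V := iSup_le fun i => comm_le_left (h0 i)
  have key : ∀ s : Finset ι, ∀ v ∈ V, ∃ w ∈ ⨆ i, ⁅V, E i⁆, ∀ i ∈ s, w⁻¹ * v ∈ CC(E i) := by
    intro s v hv
    induction s using Finset.induction_on with
    | empty => exact ⟨1, Subgroup.one_mem _, by simp⟩
    | insert j s hj ih =>
      obtain ⟨w, hw, h3⟩ := ih
      obtain ⟨u, hu, z, hz, e⟩ := (mem_sup_of_NN (ab_le_NN hV (comm_le_left (h0 j)) inf_le_left)).1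
        (h1 j (V.mul_mem (V.inv_mem (hW hw)) hv))
      refine ⟨w * u, Subgroup.mul_mem _ hw (mem_iSup_of_mem j hu), fun i hi => ?_⟩
      rw [mul_inv_rev, mul_assoc]
      rcases Finset.mem_insert.1 hi with rfl | hi
      · rw [← e, inv_mul_cancel_left]; exact hz.2
      · exact Subgroup.mul_mem _ (Subgroup.inv_mem _ (h2 j i (fun e => hj (e ▸ hi)) hu)) (h3 i hi)
  refine le_antisymm (sup_le inf_le_left hW) fun v hv => ?_
  obtain ⟨w, hw, h3⟩ := key Finset.univ v hv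
  rw [← mul_inv_cancel_left w v, sup_comm]
  exact mul_mem_sup hw ⟨V.mul_mem (V.inv_mem (hW hw)) hv, le_CC_symm (iSup_le fun i => le_CC_symm
    (zpowers_le.2 (h3 i (Finset.mem_univ i)))) (mem_zpowers _)⟩

/-- the conclusion of the structure theorem -/
structure FFStr (p : ℕ) (V P T : Subgroup G) {r : ℕ} (E : Fin r → Subgroup G) : Prop where
  pos : 1 ≤ r
  le : ∀ i, E i ≤ P
  comm : ∀ i j, i ≠ j → E i ≤ CC(E j)
  ind : ∀ i, E i ⊓ (⨆ j ∈ {j | j ≠ i}, E j) = ⊥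
  sup : (⨆ i, E i) ⊔ T = P
  conj : ∀ i j, ∃ t ∈ T, cj t (E i) = E j
  perm : ∀ i, ∀ t ∈ T, ∃ j, cj t (E i) = E j
  dec : V ⊓ CC(⨆ i, E i) ⊔ ⨆ i, ⁅V, E i⁆ = V
  dec1 : ∀ i, V ≤ ⁅V, E i⁆ ⊔ V ⊓ CC(E i)
  comm' : ∀ i j, i ≠ j → ⁅V, E i⁆ ≤ CC(E j)
  str : ∀ i, Fam.CompStr p V (E i)
  norm : P ≤ NN(⨆ i, E i)
  off : ∀ B ≤ P, IsElementaryAbelian p B → Nat.card V ≤ meas V B → B ≤ ⨆ i, E i
  min : ∀ N B, P ≤ NN(N) → B ≤ N → B ≤ P → IsElementaryAbelian p B → B ≠ ⊥ →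
    Nat.card V ≤ meas V B → ⨆ i, E i ≤ N

theorem Fam.ffStr (h : Fam p V P T M X) : ∃ (r : ℕ) (E : Fin r → Subgroup G), FFStr p V P T E ∧
    ∀ i, ∃ B, Pt p V P B ∧ B ≤ T ∧ EC p V P T X B = E i := by
  have c := h.ctx
  let S := {E : Subgroup G // ∃ B, Pt p V P B ∧ B ≤ T ∧ EC p V P T X B = E}
  let e := Finite.equivFin S
  let E : Fin (Nat.card S) → Subgroup G := fun i => (e.symm i).1
  have k0 : ∀ i, ∃ B, Pt p V P B ∧ B ≤ T ∧ EC p V P T X B = E i := fun i => (e.symm i).2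
  have k1 : ∀ B, Pt p V P B → B ≤ T → ∃ i, EC p V P T X B = E i := fun B b1 b2 =>
    ⟨e ⟨_, B, b1, b2, rfl⟩, by simp [E]⟩
  have k2 : ∀ i j, i ≠ j → E i ≤ CC(E j) ∧ ⁅V, E i⁆ ≤ CC(E j) := fun i j hij => by
    obtain ⟨B, b1, b2, b3⟩ := k0 i
    obtain ⟨C, c1, c2, c3⟩ := k0 j
    rw [← b3, ← c3]
    exact h.EC_comm b1 b2 c1 c2 fun r => hij (e.symm.injective (Subtype.ext
      (b3.symm.trans ((h.EC_eq b1 b2 c1 c2 r).trans c3))))
  have k3 : ∀ i, E i ≤ P := fun i => by obtain ⟨B, -, -, b3⟩ := k0 i; exact b3 ▸ h.EC_le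
  have k4 : ∀ i, V ≤ ⁅V, E i⁆ ⊔ V ⊓ CC(E i) ∧ Fam.CompStr p V (E i) := fun i => by
    obtain ⟨B, b1, b2, b3⟩ := k0 i; exact b3 ▸ h.EC_str b1 b2
  have k5 : ∀ B, Pt p V P B → B ≤ T → X B ≤ ⨆ i, E i := fun B b1 b2 => by
    obtain ⟨i, hi⟩ := k1 B b1 b2
    exact (le_EC b1 b2 (Or.inl rfl)).trans (hi.le.trans (le_iSup E i))
  have k6 : ∀ i, ∀ t ∈ T, ∃ j, cj t (E i) = E j := fun i t ht => by
    obtain ⟨B, b1, b2, b3⟩ := k0 i
    rw [← b3, h.cj_EC b1 b2 ht]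
    exact k1 _ (h.pt_cj b1 ht) (cj_le_of_mem ht b2)
  obtain ⟨A, hA, a⟩ := h.ex
  have g := h.good A hA a
  have k7 : (⨆ i, E i) ⊔ T = P := by_contra fun h1 => g.nle ((k5 A hA a).trans (le_sup_left.trans
    (h.hyp.um.2.2 _ le_sup_right (lt_of_le_of_ne (sup_le (iSup_le k3) h.hyp.syl.le) h1))))
  have k8 : P ≤ NN(⨆ i, E i) := k7.ge.trans (sup_le (le_NN_self _) (le_NN_of_cj_le fun t ht => by
    rw [cj_iSup]
    exact iSup_le fun i => let ⟨j, hj⟩ := k6 i t ht; hj.le.trans (le_iSup E j)))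
  refine ⟨_, E, ⟨?_, k3, fun i j hij => (k2 i j hij).1, fun i => (eq_bot_iff_forall _).2
    fun x hx => c.eq_one (k3 i hx.1) (CC_anti (k4 i).1 ?_), k7, fun i j => ?_, k6,
    decomp_of_comm c.comm (fun i => (k3 i).trans c.norm) (fun i => (k4 i).1)
      fun i j hij => (k2 i j hij).2, fun i => (k4 i).1, fun i j hij => (k2 i j hij).2,
    fun i => (k4 i).2, k8, fun B b1 b2 b3 => ?_, fun N B n1 n2 b1 b2 b3 b4 => iSup_le fun i => ?_⟩,
    k0⟩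
  · obtain ⟨i, -⟩ := k1 A hA a
    exact i.pos
  · rw [CC_sup]
    exact ⟨iSup₂_le (fun j hj => le_CC_symm (k2 i j (Ne.symm hj)).2) hx.2,
      le_CC_symm inf_le_right hx.1⟩
  · obtain ⟨B, b1, b2, b3⟩ := k0 i
    obtain ⟨C, c1, c2, c3⟩ := k0 j
    obtain ⟨t, ht, rfl⟩ := (h.good B b1 b2).trans c1 c2
    exact ⟨t, ht, by rw [← b3, h.cj_EC b1 b2 ht, c3]⟩
  · obtain ⟨x, hx, h1⟩ := h.hyp.syl.exists_cj_le (elab_isPGroup b2) b1
    have h2 := h.le_JD _ h1 (elab_cj x b2) (by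
      rwa [← meas_cj' x, cj_eq_of_mem_NN (c.norm hx)] at b3)
    exact cj_le_cj.1 ((h2.trans (sSup_le fun C hC => (h.good C hC.1 hC.2).line.le.trans
      (k5 C hC.1 hC.2))).trans (mem_NN.1 (k8 hx)).ge)
  · obtain ⟨C, -, -, c3⟩ := k0 i
    obtain ⟨D, d1, d2⟩ := h.hyp.exists_pt b1 b2 b3 b4
    have key : ∀ C, Pt p V P C → C ≤ N := fun C hC => by
      obtain ⟨T1, t1, t2⟩ := exists_isSylowIn_ge d2.isPGroup d2.le
      obtain ⟨T2, t3, t4⟩ := exists_isSylowIn_ge hC.isPGroup hC.le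
      obtain ⟨x, hx, -, rfl⟩ := g.conj d2 t1 t2
      obtain ⟨y, hy, -, rfl⟩ := g.conj hC t3 t4
      exact cj_le_of_mem_NN (n1 hy) (cj_le_cj.1 ((d1.trans n2).trans (mem_NN.1 (n1 hx)).ge))
    rw [← c3]
    refine sSup_le ?_
    rintro _ ⟨C, c1, c2, -, rfl⟩
    have g := h.good C c1 c2
    obtain ⟨x, hx, hn⟩ := g.line.ex
    exact (g.line.gen hx hn).ge.trans (sup_le (key C c1) (key _ (g.d1_cj hx).pt))

theorem Hyp.ffStr (h : Hyp p V P T M) (hB : B ≤ P) (he : IsElementaryAbelian p B) (h0 : B ≠ ⊥)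
    (h1 : Nat.card V ≤ meas V B) : ∃ (r : ℕ) (E : Fin r → Subgroup G), FFStr p V P T E := by
  obtain ⟨A, -, hA⟩ := h.exists_pt hB he h0 h1
  obtain ⟨x, hx, h2⟩ := h.syl.exists_cj_le hA.isPGroup hA.le
  obtain ⟨X, hX⟩ := h.exists_fam fun e => (hA.cj h.ctx hx).ne_bot
    (eq_bot_iff.2 (((hA.cj h.ctx hx).le_JD h2).trans e.le))
  obtain ⟨r, E, h3, -⟩ := hX.ffStr
  exact ⟨r, E, h3⟩

end H12
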