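import Cfsg.Agent.H12.SylN
import Cfsg.Agent.H25.ConjRep
import Cfsg.Agent.H1.Frattini
import Cfsg.Agent.S0256

set_option autoImplicit false
open Cfsg Subgroup H10 Module

namespace H12

theorem map_mk_bot {G : Type*} [Group G] {N H : Subgroup G} [N.Normal] :
    H.map (QuotientGroup.mk' N) = ⊥ ↔ H ≤ N := by
  rw [Subgroup.map_eq_bot_iff, QuotientGroup.ker_mk']

theorem exists_SL_of_rep {Γ V : Type*} [Group Γ] [AddCommGroup V] [Module (ZMod 2) V] [Finite V]
    {n : ℕ} (hc : finrank (ZMod 2) V ≤ n) (ρ : Γ →* (V ≃ₗ[ZMod 2] V)) :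
    ∃ f : Γ →* Matrix.SpecialLinearGroup (Fin n) (ZMod 2), f.ker = ρ.ker := by
  classical
  let W := V × (Fin (n - finrank (ZMod 2) V) → ZMod 2)
  have hW : finrank (ZMod 2) W = n := by
    rw [finrank_prod, finrank_fin_fun]; omega
  let b := finBasisOfFinrankEq (ZMod 2) W hW
  let σ : Γ →* End (ZMod 2) W :=
    { toFun := fun g => LinearMap.prodMap (ρ g).toLinearMap LinearMap.id
      map_one' := by rw [map_one]; rfl
      map_mul' := fun a b => by rw [map_mul]; rfl }
  let M : Γ →* Matrix (Fin n) (Fin n) (ZMod 2) :=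
    (LinearMap.toMatrixAlgEquiv b).toMonoidHom.comp σ
  have hd : ∀ g, (M g).det = 1 := fun g => by
    have h : (M g).det * (M g⁻¹).det = 1 := by
      rw [← Matrix.det_mul, ← map_mul, mul_inv_cancel, map_one, Matrix.det_one]
    have : ∀ a b : ZMod 2, a * b = 1 → a = 1 := by decide
    exact this _ _ h
  refine ⟨{ toFun := fun g => ⟨M g, hd g⟩
            map_one' := Subtype.ext (map_one M)
            map_mul' := fun a b => Subtype.ext (map_mul M a b) }, ?_⟩
  ext g
  rw [MonoidHom.mem_ker, MonoidHom.mem_ker]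
  constructor
  · intro h
    have h1 : M g = 1 := congrArg Subtype.val h
    have h2 : σ g = 1 := (LinearMap.toMatrixAlgEquiv b).injective (h1.trans (map_one _).symm)
    ext v
    exact congrArg Prod.fst (LinearMap.congr_fun h2 (v, 0))
  · intro h
    apply Subtype.ext
    change LinearMap.toMatrixAlgEquiv b (LinearMap.prodMap (ρ g).toLinearMap LinearMap.id) = 1
    rw [h]
    exact map_one _

theorem center_SL_two {n : ℕ} : center (Matrix.SpecialLinearGroup (Fin n) (ZMod 2)) = ⊥ := by
  rw [eq_bot_iff]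
  intro A hA
  obtain ⟨r, h1, h2⟩ := Matrix.SpecialLinearGroup.mem_center_iff.1 hA
  rw [mem_bot]
  rcases Nat.eq_zero_or_pos n with rfl | hn
  · exact Subsingleton.elim _ _
  have : r = 1 := by
    have : ∀ a : ZMod 2, a = 0 ∨ a = 1 := by decide
    refine (this r).resolve_left ?_
    rintro rfl
    rw [zero_pow (by simpa using hn.ne')] at h1
    exact zero_ne_one h1
  apply Subtype.ext
  rw [← h2, this]
  simp

theorem exists_A8_of_rep {Γ V : Type*} [Group Γ] [AddCommGroup V] [Module (ZMod 2) V] [Finite V]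
    (hc : Nat.card V ≤ 16) (ρ : Γ →* (V ≃ₗ[ZMod 2] V)) :
    ∃ f : Γ →* alternatingGroup (Fin 8), f.ker = ρ.ker := by
  have h4 : finrank (ZMod 2) V ≤ 4 := by
    rw [Module.natCard_eq_pow_finrank (K := ZMod 2), Nat.card_zmod] at hc
    exact (Nat.pow_le_pow_iff_right (by norm_num)).1 (hc.trans_eq (by norm_num : 16 = 2 ^ 4))
  obtain ⟨f, hf⟩ := exists_SL_of_rep h4 ρ
  obtain ⟨e⟩ := Cfsg.Agent.S0256.result (F := ZMod 2) (ZMod.card 2)
  refine ⟨e.toMonoidHom.comp ((QuotientGroup.mk' _).comp f), ?_⟩
  rw [← hf]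
  ext g
  simp only [MonoidHom.mem_ker, MonoidHom.comp_apply, MulEquiv.coe_toMonoidHom,
    EmbeddingLike.map_eq_one_iff]
  exact (QuotientGroup.eq_one_iff (f g)).trans (by rw [center_SL_two, mem_bot])

/-- in a group of characteristic `p`, `C(O_p/Φ(O_p)) = O_p` -/
theorem comap_cent_frattini {G : Type*} [Group G] [Finite G] {p : ℕ} [hp : Fact p.Prime]
    (hc : CC(pCore p G) ≤ pCore p G) [((frattini (pCore p G)).map (pCore p G).subtype).Normal] :
    CC((pCore p G).map (QuotientGroup.mk' ((frattini (pCore p G)).map (pCore p G).subtype))).comap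
      (QuotientGroup.mk' _) = pCore p G := by
  set P := pCore p G with hP
  have hPp : IsPGroup p P := H1.isPGroup_pCore p
  set F := (frattini P).map P.subtype
  have := (inferInstance : P.Normal).map _ (QuotientGroup.mk'_surjective F)
  refine le_antisymm ?_ ?_
  · refine H1.le_pCore (H1.isPiNat_card_singleton_iff.1 fun q hq hd => ?_)
    by_contra hqp
    have := Fact.mk hq
    obtain ⟨x, hx⟩ := exists_prime_orderOf_dvd_card' q hd
    have h1 : Nat.card (zpowers (x : G)) = q := by
      rw [Nat.card_zpowers, orderOf_coe, hx]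
    have hc' : q.Coprime p := (Nat.coprime_primes hq hp.out).2 hqp
    have h2 := H1.le_centralizer_of_commutator_le_frattini (A := zpowers (x : G)) (K := P)
      le_normalizer_of_normal
      (h1 ▸ (H1.IsPGroup.coprime_card (hPp.to_subgroup _) hc').symm) (by
        rw [← map_mk_bot, map_commutator, Subgroup.commutator_comm,
          commutator_eq_bot_iff_le_centralizer, map_le_iff_le_comap]
        exact zpowers_le_of_mem x.2)
    have h3 := card_dvd_of_le (h2.trans hc)
    rw [h1] at h3
    exact hq.one_lt.ne' (Nat.Coprime.eq_one_of_dvd (H1.IsPGroup.coprime_card hPp hc').symm h3)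
  · rw [← map_le_iff_le_comap, ← comm_eq_bot, ← map_commutator, map_mk_bot]
    have := hPp.isNilpotent
    have h := map_mono (f := P.subtype) (H1.isNilpotent_iff_commutator_le_frattini.1 this)
    rwa [_root_.commutator_def, map_commutator, map_top_subtype] at h

end H12
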