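import Cfsg.Agent.H7.Jh
/-! Five involutions satisfying the relations of `G33`. -/
set_option autoImplicit false
open Subgroup Equiv H7J
namespace H12.Gen
variable {G : Type*} [Group G] [Finite G] {ψ : P →* G}

theorem ev2 : ∀ i j : Fin 5, i ≠ j → ∃ σ : Perm (Fin 5), Perm.sign σ = 1 ∧ σ 1 = i ∧ σ 2 = j := by decide +kernel
theorem ev1 : ∀ i : Fin 5, ∃ σ : Perm (Fin 5), Perm.sign σ = 1 ∧ σ 0 = i := by decide +kernel
def c0 : P := ⟨qw, 1, false⟩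
theorem d1 : ∀ i j : Fin 5, pt i * pt j * (pt j * pt i)⁻¹ = 1 ∨ pt i * pt j * (pt j * pt i)⁻¹ = k0 := by decide +kernel
theorem d2 : ∀ i k : Fin 5, i ≠ 0 → ¬ (c0 * pt i * c0⁻¹ * (pt k)⁻¹ = 1 ∨ c0 * pt i * c0⁻¹ * (pt k)⁻¹ = k0) := by
  decide +kernel
theorem d3 : ∀ i : Fin 5, pt i * pt i = 1 ∨ pt i * pt i = k0 := by decide +kernel

omit [Finite G] in
theorem eqv (h : H2 ψ) (a b : P) : ψ a = ψ b ↔ a * b⁻¹ = 1 ∨ a * b⁻¹ = k0 := by
  rw [← h.ker, map_mul, map_inv, mul_inv_eq_one]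

omit [Finite G] in
theorem two (h : H2 ψ) (k : KA ψ) (g : G) {x : G} (hx : IsConj (ψ z0) x) {i j : Fin 5} (ij : i ≠ j)
    (hi : Commute x (g * ψ (pt i) * g⁻¹)) (hj : Commute x (g * ψ (pt j) * g⁻¹)) :
    ∃ l, x = g * ψ (pt l) * g⁻¹ := by
  obtain ⟨σ, s, rfl, rfl⟩ := ev2 i j ij
  obtain ⟨n, hn⟩ := h.nv σ s
  have e := (hi.mul_right hj).eq
  rw [← hn, ← hn, conj_mul, conj_mul, ← map_mul] at e
  obtain ⟨l, hl⟩ := k ((g * n)⁻¹ * x * (g * n)) (hx.trans (isConj_iff.2 ⟨(g * n)⁻¹, by rw [inv_inv]⟩)) (by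
    calc _ = (g * n)⁻¹ * (x * (g * (n * ψ (pt 1 * pt 2) * n⁻¹) * g⁻¹)) * (g * n) := by rw [a0]; group
      _ = _ := by rw [e, a0]; group)
  refine ⟨σ l, ?_⟩
  rw [← hn, ← hl]; group

theorem gen (h : H2 ψ) (k : KA ψ) (c : ∀ x, IsConj (ψ z0) x → ∃ i, x * ψ (pt i) = ψ (pt i) * x)
    (d : ∀ x y, IsConj (ψ z0) x → IsConj (ψ z0) y → x * y = y * x ∨ (x * y) ^ 3 = 1) :
    ∃ s t u v w : G, R33 s t u v w ∧ s * t ≠ t * s := by
  have p0 : pt 0 = z0 := rfl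
  have pD : ∀ i, IsConj (ψ z0) (ψ (pt i)) := fun i => by
    obtain ⟨σ, s, rfl⟩ := ev1 i
    obtain ⟨n, hn⟩ := h.nv σ s
    exact isConj_iff.2 ⟨n, hn 0⟩
  have cj : ∀ g x, IsConj (ψ z0) x → IsConj (ψ z0) (g * x * g⁻¹) := fun g x hx => hx.trans (isConj_iff.2 ⟨g, rfl⟩)
  have pc : ∀ i j, Commute (ψ (pt i)) (ψ (pt j)) := fun i j => by
    rw [commute_iff_eq, ← map_mul, ← map_mul, eqv h]; exact d1 i j
  have sq : ∀ x, IsConj (ψ z0) x → x * x = 1 := fun x hx => by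
    obtain ⟨g, rfl⟩ := isConj_iff.1 hx
    rw [conj_mul, ← map_mul, show ψ (z0 * z0) = 1 from (h.ker _).2 (d3 0), mul_one, mul_inv_cancel]
  obtain ⟨σ, s, hσ⟩ := ev1 1
  obtain ⟨n, hn⟩ := h.nv σ s
  have c00 : ψ c0 * ψ (pt 0) * (ψ c0)⁻¹ = ψ (pt 0) := by
    rw [p0, (h.cz _).2 ⟨c0, rfl⟩, mul_inv_cancel_right]
  obtain ⟨g, hg⟩ : ∃ g, g = n * ψ c0 := ⟨_, rfl⟩
  have g0 : g * ψ (pt 0) * g⁻¹ = ψ (pt 1) := by
    rw [← hσ, ← hn 0, ← c00, hg]; conv_lhs => rw [← c00]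
    rw [c00, c00]
    calc _ = n * (ψ c0 * ψ (pt 0) * (ψ c0)⁻¹) * n⁻¹ := by group
      _ = _ := by rw [c00]
  have Lv : ∀ i, Commute (g * ψ (pt i) * g⁻¹) (ψ (pt 1)) := fun i => by
    rw [← g0, commute_iff_eq, conj_mul, conj_mul, pc]
  have Ln : ∀ i j, i ≠ 0 → j ≠ 1 → ¬ Commute (g * ψ (pt i) * g⁻¹) (ψ (pt j)) := fun i j hi hj e => by
    obtain ⟨l, hl⟩ := two h k 1 (cj g _ (pD i)) hj (by simpa using e) (by simpa using Lv i)
    rw [one_mul, inv_one, mul_one, ← σ.apply_symm_apply l, ← hn, hg] at hl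
    refine d2 i (σ.symm l) hi ((eqv h _ _).1 ?_)
    rw [map_mul, map_mul, map_inv]
    calc _ = n⁻¹ * (n * ψ c0 * ψ (pt i) * (n * ψ c0)⁻¹) * n := by group
      _ = _ := by rw [hl]; group
  have one : ∀ x, IsConj (ψ z0) x → ¬ Commute x (ψ (pt 1)) → ∀ i j, i ≠ j → Commute x (g * ψ (pt i) * g⁻¹) →
      ¬ Commute x (g * ψ (pt j) * g⁻¹) := fun x hx hv i j ij hi hj => by
    obtain ⟨l, rfl⟩ := two h k g hx ij hi hj
    exact hv (Lv l)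
  obtain ⟨u, hu⟩ : ∃ u, u = ψ (tq qw) := ⟨_, rfl⟩
  have uD : IsConj (ψ z0) u := by
    have := cj (ψ c0) _ (pD 1)
    rwa [← map_inv, ← map_mul, ← map_mul, show c0 * pt 1 * c0⁻¹ = tq qw by decide +kernel, ← hu] at this
  have uu := sq u uD
  have ui : u⁻¹ = u := inv_eq_of_mul_eq_one_right uu
  have u'D : IsConj (ψ z0) (u * ψ (pt 2) * u) := by
    have := cj u _ (pD 2)
    rwa [ui] at this
  have uv : ¬ Commute u (ψ (pt 1)) := by
    rw [commute_iff_eq, hu, ← map_mul, ← map_mul, eqv h]; decide +kernel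
  have uw : ¬ Commute u (ψ (pt 2)) := by
    rw [commute_iff_eq, hu, ← map_mul, ← map_mul, eqv h]; decide +kernel
  have u'v : ¬ Commute (u * ψ (pt 2) * u) (ψ (pt 1)) := by
    rw [commute_iff_eq, hu, ← map_mul, ← map_mul, ← map_mul, ← map_mul, eqv h]; decide +kernel
  obtain ⟨i, i0, h1, h2⟩ : ∃ i : Fin 5, i ≠ 0 ∧ ¬ Commute u (g * ψ (pt i) * g⁻¹) ∧
      ¬ Commute (u * ψ (pt 2) * u) (g * ψ (pt i) * g⁻¹) := by
    by_contra hc
    push Not at hc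
    have a := one u uD uv
    have b := one _ u'D u'v
    by_cases x1 : Commute u (g * ψ (pt 1) * g⁻¹)
    · exact b 2 3 (by decide) (hc 2 (by decide) (a 1 2 (by decide) x1)) (hc 3 (by decide) (a 1 3 (by decide) x1))
    · by_cases x2 : Commute u (g * ψ (pt 2) * g⁻¹)
      · exact b 1 3 (by decide) (hc 1 (by decide) x1) (hc 3 (by decide) (a 2 3 (by decide) x2))
      · exact b 1 2 (by decide) (hc 1 (by decide) x1) (hc 2 (by decide) x2)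
  have tD := cj g _ (pD i)
  have ts := Ln i 0 i0 (by decide)
  have tw := Ln i 2 i0 (by decide)
  have tv := Lv i
  generalize g * ψ (pt i) * g⁻¹ = t at h1 h2 tD ts tw tv
  have utD : IsConj (ψ z0) (u * t * u) := by
    have := cj u _ tD
    rwa [ui] at this
  refine ⟨ψ (pt 0), t, u, ψ (pt 1), ψ (pt 2), ⟨sq _ (pD 0), sq _ tD, uu, sq _ (pD 1), sq _ (pD 2),
    (d _ _ (pD 0) tD).resolve_left fun e => ts e.symm, (d _ _ tD uD).resolve_left fun e => h1 e.symm,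
    (d _ _ uD (pD 1)).resolve_left uv, (d _ _ tD (pD 2)).resolve_left tw, (d _ _ uD (pD 2)).resolve_left uw,
    ?_, pc 0 1, pc 0 2, tv, pc 1 2, (d _ _ utD (pD 2)).resolve_left fun e => h2 ?_⟩, fun e => ts e.symm⟩
  · rw [p0, hu]; exact ((h.cz _).2 ⟨_, rfl⟩).symm
  · rw [commute_iff_eq]
    calc _ = u * (ψ (pt 2) * (u * t * u)) * u := by simp only [mul_assoc, uu, mul_one]
      _ = u * u * t * (u * ψ (pt 2) * u) := by rw [← e]; simp only [mul_assoc]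
      _ = _ := by rw [uu, one_mul]

end H12.Gen
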