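import Cfsg.Agent.Lead.Fv0

/-! The local hypothesis passes to central `p`-quotients. -/

set_option autoImplicit false
set_option linter.unusedSectionVars false

namespace H12.Hm

open Subgroup Cfsg H4 H12 Lead.Fv
open scoped commutatorElement

universe u

variable {X : Type u} [Group X] [Finite X] {p : ℕ} [hp : Fact p.Prime] {G R P Y : Subgroup X}

theorem hyp_map {X' : Type*} [Group X'] [Finite X'] (f : X →* X') (hn : R ≤ 𝒩 G) (hc : (Nat.card R).Coprime (Nat.card G)) (_hab : IsMulCommutative R) (hk : f.ker ≤ G ⊓ 𝒞 G) (hkp : IsPGroup p f.ker) (h : Hyp p G R) : Hyp p (G.map f) (R.map f) := by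
  rintro _ ⟨a, ha, rfl⟩ a1
  obtain ⟨T, hTG, hT, hRT, hCT, hP⟩ := h a ha fun e => a1 (by rw [e, map_one])
  have hz := zpowers_le.2 ha
  have e := H1.map_inf_centralizer_of_coprime f (hz.trans hn)
    (hc.coprime_dvd_left (card_dvd_of_le hz)) (Or.inl inferInstance)
  rw [MonoidHom.map_zpowers, zpowers_eq_closure, zpowers_eq_closure, centralizer_closure,
    centralizer_closure] at e
  refine ⟨T.map f, map_mono hTG, hT.map f, H1.le_normalizer_map hRT f,
    e ▸ H1.le_normalizer_map hCT f, (hP.map f).to_le ?_⟩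
  rw [map_commutator]
  refine commutator_mono ((res_mono (K := (G ⊓ centralizer {a} ⊓ (𝒞 (T.map f)).comap f).map f)
    fun y hy => ?_).trans ?_) le_rfl
  · obtain ⟨x, hx, rfl⟩ := e.ge hy.1
    exact ⟨x, ⟨hx, hy.2⟩, rfl⟩
  · rw [← map_res]
    refine map_mono (res_le_iff.2 fun y hy hyp => mem_res ⟨hy.1,
      H11.mem_centralizer_of_commutator_le hkp hyp (fun q hq => ?_)
        fun z hz => ((hk hz).2 y hy.1.1).symm⟩ hyp)
    have := hy.2 _ ⟨q, hq, rfl⟩
    rw [MonoidHom.mem_ker, map_mul, map_mul, map_mul, ← this, map_inv, map_inv]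
    group

end H12.Hm
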