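import Cfsg.Agent.H12.AZ
import Cfsg.Agent.H1.Factor
import Cfsg.Agent.H5.Fstar
import Cfsg.Agent.H9.Basic
import Cfsg.Agent.H10.PMin2

/-! Isolated `p`-minimal subgroups: the abstract configuration. -/

set_option autoImplicit false

namespace H12.IM

open Subgroup Cfsg H16 H12.BG
open H15 hiding card_cj cent_anti cent_bot cent_comm cent_le_cent1 cent_le_norm cent_sup cent_zpowers cj_bot cj_cent cj_cj_inv cj_comm cj_eq_bot cj_eq_iff cj_eq_top cj_inf cj_inj cj_inv_cj cj_le_cj cj_le_iff cj_le_of_mem cj_lt_cj cj_mono cj_norm cj_one cj_sup cj_top comm_le_left comm_le_right comm_of_cyclic comm_of_le comm_sup le_cj_iff mem_cent mem_cent1 mem_cj mem_norm_of_cj_le norm_bot norm_top relIndex_cj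
open H5 (CompOf SN layerOf)
open scoped commutatorElement

variable {G : Type*} [Group G] {S L X Q K N R T Y : Subgroup G} {p : ℕ}

/-- the configuration attached to an isolated `p`-minimal subgroup -/
structure Iso (p : ℕ) (S L X Q : Subgroup G) : Prop where
  sy : Pg[p] S
  sl : S ≤ L
  qs : Q ≤ S
  qn : L ≤ N[Q]
  nx : S ≤ N[X]
  xl : ¬ X ≤ L
  top : L ⊔ X = ⊤
  dich : ∀ K, S ≤ N[K] → K ≤ L ∨ (X ≤ K ∧ K ≤ (L ⊓ K) ⊔ X)

theorem Iso.map {G' : Type*} [Group G'] (h : Iso p S L X Q) {f : G →* G'}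
    (hf : Function.Surjective f) (hk : f.ker ≤ S) :
    Iso p (S.map f) (L.map f) (X.map f) (Q.map f) := by
  refine ⟨h.sy.map f, map_mono h.sl, map_mono h.qs, (map_mono h.qn).trans (le_normalizer_map f),
    (map_mono h.nx).trans (le_normalizer_map f), fun e => h.xl ?_, ?_, fun K hK => ?_⟩
  · rw [map_le_iff_le_comap, comap_map_eq, sup_eq_left.2 (hk.trans h.sl)] at e
    exact e
  · rw [← Subgroup.map_sup, h.top, map_top_of_surjective f hf]
  · have h1 : S ≤ N[K.comap f] := (le_comap_map f S).trans (AZ.norm_comap hK)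
    have e := map_comap_eq_self_of_surjective hf K
    rcases h.dich _ h1 with h2 | ⟨h2, h3⟩
    · exact Or.inl (e ▸ map_mono h2)
    · refine Or.inr ⟨map_le_iff_le_comap.2 h2, e.ge.trans ((map_mono h3).trans ?_)⟩
      rw [Subgroup.map_sup]
      exact sup_le_sup_right (le_inf (map_mono inf_le_left)
        (map_le_iff_le_comap.2 inf_le_right)) _

/-- the configuration modulo `O_p(G)` -/
structure Is0 (p : ℕ) (S L X Q : Subgroup G) : Prop extends Iso p S L X Q where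
  op : Op[{p}] (⊤ : Subgroup G) = ⊥
  q0 : Q ≠ ⊥

variable [Finite G]

theorem Is0.qp (h : Is0 p S L X Q) : Pg[p] Q := h.sy.of_le h.qs

theorem Is0.not_cent (h : Is0 p S L X Q) : ¬ X ≤ C[Q] := fun e => h.q0 (eq_bot_of_le h.op
  (le_piCoreOf le_top (h.top ▸ sup_le h.qn (norm_of_cent e)) h.qp))

theorem Is0.cq1 (h : Is0 p S L X Q) [N.Normal] (hN : Pg'[p] N) (h1 : K ≤ N) (h2 : K ≤ L) :
    K ≤ C[Q] := by
  rw [← comm_eq_bot, eq_bot_iff, ← h.qp.inf_eq_bot hN]
  exact le_inf (comm_le_right (h2.trans h.qn))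
    ((commutator_mono h1 le_rfl).trans (comm_le_left (le_norm_normal _)))

theorem Is0.cq2 (h : Is0 p S L X Q) [N.Normal] (h1 : K ≤ N) (h3 : N ≤ N[K]) (h4 : S ≤ N[K])
    (h2 : K ≤ L) : K ≤ C[Q] := by
  rw [← comm_eq_bot, eq_bot_iff, ← h.op]
  refine (le_inf (comm_le_right (h2.trans h.qn)) (comm_le_left (h.qs.trans h4))).trans
    ((le_piCoreOf inf_le_right (norm_inf (h2.trans h.qn) (le_norm _)) h.qp.inf_left).trans
      ((piCoreOf_le_of_normal _ h1 h3).trans (piCoreOf_le_of_normal _ le_top (le_norm_normal _))))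

theorem Is0.fstar (h : Is0 p S L X Q) : ¬ generalizedFittingSubgroup G ≤ L := fun e => by
  have h1 := h.cq2 le_rfl (le_norm _) (le_norm_normal _) e
  have h2 : Q ≤ fittingOf ⊤ := by
    rw [fittingOf_top]; exact (cent_symm h1).trans H5.centralizer_fstar_le_fitting
  exact h.q0 (eq_bot_of_le h.op (le_piCoreOf_of_le_fittingOf h2 h.qp))

theorem Is0.le_fstar (h : Is0 p S L X Q) : X ≤ generalizedFittingSubgroup G :=
  ((h.dich _ (le_norm_normal _)).resolve_left h.fstar).1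

theorem Is0.caseA [hp : Fact p.Prime] (h : Is0 p S L X Q) (hF : ¬ fittingSubgroup G ≤ L) :
    X.Normal ∧ ∃ t : ℕ, t.Prime ∧ t ≠ p ∧ Pg[t] X ∧ ⁅⁅X, X⁆, X⁆ = ⊥ := by
  obtain ⟨t, ht, h1⟩ : ∃ t : ℕ, t.Prime ∧ ¬ Op[{t}] (⊤ : Subgroup G) ≤ L := by
    by_contra! h1
    refine hF ((fittingOf_top (G := G)).ge.trans
      (le_of_piCoreOf_le (nilpotent_fittingOf _) fun q hq _ => ?_))
    haveI := Fact.mk hq
    rw [pCoreOf_fittingOf]
    exact h1 q hq
  haveI := Fact.mk ht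
  have htp : t ≠ p := by
    rintro rfl
    exact h1 (h.op ▸ bot_le)
  haveI : (Op[{t}] (⊤ : Subgroup G)).Normal := normal_of_top (le_norm_piCoreOf_self _ _)
  have hT : Pg[t] (Op[{t}] (⊤ : Subgroup G)) := isPi_piCoreOf _ _
  generalize Op[{t}] (⊤ : Subgroup G) = T at *
  have hT' := hT.compl_of_ne htp
  have hXT := ((h.dich T (le_norm_normal _)).resolve_left h1).1
  have hc := h.qp.coprime hT'
  have hRT : ⁅T, Q⁆ ≤ T := comm_le_left (le_norm_normal _)
  have hLR : L ≤ N[⁅T, Q⁆] := norm_comm (le_norm_normal _) h.qn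
  have hRL : ¬ ⁅T, Q⁆ ≤ L := fun e => h.not_cent (hXT.trans (cent_symm
    (cop_cent_of_comm_cent (le_norm_normal _) hc (h.cq1 hT' hRT e))))
  obtain ⟨h2, h3⟩ := (h.dich _ (h.sl.trans hLR)).resolve_left hRL
  have hRR := cop_comm_comm (le_norm_normal Q) hc (Or.inl h.qp.solvable)
  have hTR : T ≤ N[⁅T, Q⁆] := normalizer_commutator_ge_left _ _
  generalize ⁅T, Q⁆ = R at *
  have hX : R = X := by
    haveI := (hT.of_le hRT).nilpotent
    refine le_antisymm (H9.le_of_le_sup_commutator h2 ?_) h2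
    have hn : R ≤ N[(X ⊔ ⁅R, R⁆ : Subgroup G)] :=
      norm_of_der_le le_sup_right (sup_le h2 (der_le R))
    refine hRR.ge.trans ((commutator_mono h3 le_rfl).trans (sup_comm_le ?_ ?_
      (inf_le_right.trans hn) (h2.trans hn)))
    · rw [comm_eq_bot.2 (h.cq1 hT' (inf_le_right.trans hRT) inf_le_left)]; exact bot_le
    · exact (comm_le_left (h.qs.trans h.nx)).trans le_sup_left
  subst hX
  refine ⟨normal_of_top (h.top ▸ sup_le hLR (le_norm _)), t, ht, htp, hT.of_le hRT, ?_⟩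
  have h4 : ⁅R, R⁆ < R := der_lt_of_nil (hT.of_le hRT).solvable fun e => h.xl (e ▸ bot_le)
  have h5 : ⁅R, R⁆ ≤ C[Q] := h.cq1 hT' (h4.le.trans hRT)
    ((h.dich _ (norm_der h.nx)).resolve_right fun e => h4.not_ge e.1)
  rw [commutator_comm]
  nth_rewrite 1 [← hRR]
  refine commutator_commutator_eq_bot_of_rotate ?_ ?_
  · rw [comm_eq_bot.2 (cent_symm h5), commutator_bot_left]
  · exact comm_eq_bot.2 ((comm_le_left (norm_der_self R)).trans h5)

/-- the product of the `S`-conjugates -/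
def orb (S K : Subgroup G) : Subgroup G := sSup {M | ∃ s ∈ S, M = K :^ s}

omit [Finite G] in
theorem le_orb {s : G} (hs : s ∈ S) : K :^ s ≤ orb S K := le_sSup ⟨s, hs, rfl⟩

omit [Finite G] in
theorem orb_le (h : ∀ s ∈ S, K :^ s ≤ N) : orb S K ≤ N :=
  sSup_le (by rintro _ ⟨s, hs, rfl⟩; exact h s hs)

omit [Finite G] in
theorem norm_orb {A : Subgroup G} (h : ∀ a ∈ A, ∀ s ∈ S, K :^ (a * s) ≤ orb S K) :
    A ≤ N[orb S K] :=
  le_norm_iff_cj.2 fun a ha => cj_le_iff.2 (orb_le fun s hs => by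
    rw [← cj_le_iff, cj_cj]; exact h a ha s hs)

omit [Finite G] in
theorem comp_cj (h : CompOf K ⊤) (g : G) : CompOf (K :^ g) ⊤ :=
  h.cj_of_mem (le_norm_normal ⊤ (mem_top g))

omit [Finite G] in
theorem orb_comp (h : CompOf K ⊤) : ∀ M ∈ {M | ∃ s ∈ S, M = K :^ s}, CompOf M ⊤ := by
  rintro _ ⟨s, -, rfl⟩; exact comp_cj h s

theorem Is0.orb_cent (h : Is0 p S L X Q) (hK : CompOf K ⊤) (h1 : orb S K ≤ L) :
    orb S K ≤ C[Q] := by
  refine h.cq2 (N := layer G) (orb_le fun s _ => ?_) (norm_orb fun a ha s hs => ?_)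
    (norm_orb fun a ha s hs => le_orb (mul_mem ha hs)) h1
  · rw [← H5.layerOf_top]; exact (comp_cj hK s).le_layerOf
  · rw [← cj_cj, cj_norm ((comp_cj hK s).layerOf_le_normalizer ((H5.layerOf_top (G := G)).ge ha))]
    exact le_orb hs

theorem Is0.le_orb (h : Is0 p S L X Q) (h1 : ¬ orb S K ≤ L) : X ≤ orb S K :=
  ((h.dich _ (norm_orb fun _ ha _ hs => IM.le_orb (mul_mem ha hs))).resolve_left h1).1

theorem zorb (hK : CompOf K ⊤) : orb S K ⊓ C[orb S K] ≤ fittingSubgroup G := by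
  rw [← H5.fitOf_top]
  exact (H5.sn_sSup_compOf (orb_comp hK)).zOf_le_fitOf

theorem Is0.same (h : Is0 p S L X Q) (hF : fittingSubgroup G ≤ L) {K0 : Subgroup G}
    (h0 : CompOf K0 ⊤) (h1 : ¬ orb S K0 ≤ L) (hK : CompOf K ⊤) (h2 : ¬ K ≤ C[Q]) :
    ∃ s ∈ S, K = K0 :^ s := by
  by_contra! h3
  have h4 : ¬ orb S K ≤ L := fun e => h2 ((cj_one K).ge.trans
    ((IM.le_orb (one_mem S)).trans (h.orb_cent hK e)))
  refine h.xl ((le_inf (h.le_orb h1) ((h.le_orb h4).trans ?_)).trans ((zorb h0).trans hF))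
  refine orb_le fun s hs => cent_symm (orb_le fun s' hs' => comm_eq_bot.1 ?_)
  refine (comp_cj h0 s').commutator_eq_bot (comp_cj hK s) fun e => h3 (s⁻¹ * s')
    (mul_mem (inv_mem hs) hs') ?_
  rw [← cj_cj, e, H16.cj_cj_inv]

theorem Is0.dvd [hp : Fact p.Prime] (h : Is0 p S L X Q) (hF : fittingSubgroup G ≤ L) [Y.Normal]
    (hX : X ≤ Y) : p ∣ Nat.card Y := by
  by_contra hd
  have hY : Pg'[p] Y := isPi_compl_of_not_dvd hd
  have hc := h.sy.coprime hY
  have key : ∀ r : ℕ, r.Prime → ∃ R, Sy[r] R Y ∧ S ≤ N[R] := fun r hr => by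
    haveI := Fact.mk hr
    exact sy_inv r (le_norm_normal S) hc (Or.inl h.sy.solvable)
  obtain ⟨r, hr, R, hR, h1, h2⟩ : ∃ r : ℕ, r.Prime ∧ ∃ R, Sy[r] R Y ∧ S ≤ N[R] ∧ ¬ R ≤ L := by
    by_contra! h1
    refine h.xl (hX.trans (le_of_sy fun r hr _ => ?_))
    obtain ⟨R, h2, h3⟩ := key r hr
    exact ⟨R, h2, h1 r hr R h2 h3⟩
  haveI := Fact.mk hr
  have h3 := ((h.dich R h1).resolve_left h2).1
  have h4 : H1.IsProd Y R (Y ⊓ C[Q]) := by
    refine H1.isProd_of_coprime hR.1 inf_le_left (Nat.coprime_of_dvd fun s hs e1 e2 => ?_)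
    obtain ⟨R', h5, h6⟩ := key s hs
    have hsr : s ≠ r := by
      rintro rfl
      exact sy_not_dvd hR hs e1
    rcases h.dich R' h6 with h7 | ⟨h7, -⟩
    · exact sy_not_dvd h5 hs
        (e2.trans (relIndex_dvd_of_le_left _ (le_inf h5.1 (h.cq1 hY h5.1 h7))))
    · have := (hl_pi hR).inf_eq_bot ((hl_pi h5).compl_of_ne hsr)
      exact h.xl ((le_inf h3 h7).trans (this ▸ bot_le))
  have h5 : ⁅Y, Q⁆ ≤ R := by
    refine commutator_le.2 fun y hy q hq => ?_
    obtain ⟨a, ha, d, hd, rfl⟩ := h4.2.2 y hy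
    have e : ⁅a * d, q⁆ = a * (q * a⁻¹ * q⁻¹) := by
      rw [commutatorElement_def, mul_assoc a, ← mem_cent.1 hd.2 q hq]; group
    rw [e]
    exact mul_mem ha (conj_mem (h1 (h.qs hq)) (inv_mem ha))
  have h6 : ⁅Y, Q⁆ ≤ L := by
    refine (le_piCoreOf le_top ?_ ((hl_pi hR).of_le h5)).trans
      ((pCoreOf_le_fittingOf r ⊤).trans ((fittingOf_top (G := G)).le.trans hF))
    rw [← h.top]
    exact sup_le (norm_comm (le_norm_normal _) h.qn)
      (hX.trans (normalizer_commutator_ge_left _ _))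
  exact h.not_cent (hX.trans (cent_symm (cop_cent_of_comm_cent (le_norm_normal _)
    (h.qp.coprime hY) (h.cq1 hY (comm_le_left (le_norm_normal _)) h6))))

theorem Is0.caseB (h : Is0 p S L X Q) (hF : fittingSubgroup G ≤ L)
    (hY : Y = normalClosure (X : Set G)) :
    layerOf Y = Y ∧ ∀ K₁ K₂, CompOf K₁ Y → CompOf K₂ Y → ∃ s ∈ S, K₂ = K₁ :^ s := by
  obtain ⟨K0, h0, h1⟩ : ∃ K0 : Subgroup G, CompOf K0 ⊤ ∧ ¬ K0 ≤ L := by
    by_contra! h1
    exact h.fstar (sup_le ((H5.layerOf_top (G := G)).ge.trans (H5.layerOf_le_iff.2 h1)) hF)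
  have h2 : ¬ orb S K0 ≤ L := fun e => h1 ((cj_one K0).ge.trans ((IM.le_orb (one_mem S)).trans e))
  have h3 := h.le_orb h2
  have h4 : ∀ g ∈ L, ¬ K0 :^ g ≤ C[Q] := fun g hg e => h.not_cent (h3.trans (orb_le fun s hs => by
    have := cj_mono (s * g⁻¹) e
    rwa [cj_cj, inv_mul_cancel_right, ← cent_cj,
      cj_norm (h.qn (mul_mem (h.sl hs) (inv_mem hg)))] at this))
  haveI : (orb S K0).Normal := by
    apply normal_of_top
    rw [← h.top]
    refine sup_le (norm_orb fun a ha s hs => ?_) (norm_of_le h3)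
    obtain ⟨s', hs', e⟩ := h.same hF h0 h2 (comp_cj h0 (a * s)) (h4 _ (mul_mem ha (h.sl hs)))
    rw [e]; exact IM.le_orb hs'
  haveI : Y.Normal := hY ▸ inferInstance
  have hXY : X ≤ Y := hY ▸ le_normalClosure
  have hsn : SN Y ⊤ := SN.of_normal le_top (le_norm_normal _)
  have h5 : Y = orb S K0 := by
    refine le_antisymm (hY ▸ normalClosure_le_normal h3) ?_
    rcases h0.le_or_commutator_eq_bot hsn with h5 | h5
    · exact orb_le fun s _ => cj_le_of_norm (le_norm_normal ⊤ (mem_top s)) h5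
    · refine absurd ((le_inf h3 (hXY.trans (cent_symm (orb_le fun s _ => ?_)))).trans
        ((zorb h0).trans hF)) h.xl
      exact cj_le_of_norm (le_norm_normal ⊤ (mem_top s)) (comm_eq_bot.1 h5)
  have h6 : ∀ K, CompOf K Y → ∃ s ∈ S, K = K0 :^ s := fun K hK =>
    (hK.trans hsn).mem_of_le_sSup (orb_comp h0) (hK.le.trans h5.le)
  refine ⟨le_antisymm (H5.layerOf_le _) (h5.le.trans (orb_le fun s hs =>
    ((comp_cj h0 s).mono ((IM.le_orb hs).trans h5.ge) le_top).le_layerOf)), fun K₁ K₂ a b => ?_⟩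
  obtain ⟨s, hs, rfl⟩ := h6 _ a
  obtain ⟨s', hs', rfl⟩ := h6 _ b
  exact ⟨s' * s⁻¹, mul_mem hs' (inv_mem hs), by rw [cj_cj, inv_mul_cancel_right]⟩

end H12.IM
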