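import Cfsg.Agent.H12.BG2
import Cfsg.Agent.H1.Factor
import Cfsg.Agent.S0143
import Cfsg.Agent.S0562

/-! Products of two nilpotent groups, part 1: a minimal counterexample is simple with
factors of coprime order. -/

set_option autoImplicit false

namespace H12.KW

open Subgroup Cfsg H16 H12.BG
open H15 hiding card_cj cent_anti cent_bot cent_comm cent_le_cent1 cent_le_norm cent_sup cent_zpowers cj_bot cj_cent cj_cj_inv cj_comm cj_eq_bot cj_eq_iff cj_eq_top cj_inf cj_inj cj_inv_cj cj_le_cj cj_le_iff cj_le_of_mem cj_lt_cj cj_mono cj_norm cj_one cj_sup cj_top comm_le_left comm_le_right comm_of_cyclic comm_of_le comm_sup le_cj_iff mem_cent mem_cent1 mem_cj mem_norm_of_cj_le norm_bot norm_top relIndex_cj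
open H1 (IsProd)
open scoped commutatorElement Pointwise

universe u

section basic

variable {G : Type*} [Group G] {G' : Type*} [Group G'] {A B H K N M L P Q R X Y : Subgroup G}
  {p q : ℕ} {π : Set ℕ}

theorem prod_cj (h : IsProd L A B) (g : G) : IsProd (L :^ g) (A :^ g) (B :^ g) := h.conj g

theorem prod_cj_right (h : IsProd ⊤ A B) (g : G) : IsProd ⊤ A (B :^ g) := by
  have := h.conj_conj (mem_top 1) (mem_top g)
  rwa [H1.conj_one_smul] at this

theorem prod_sub (h : IsProd R P Q) (hR : R ≤ L) :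
    IsProd (R.subgroupOf L) (P.subgroupOf L) (Q.subgroupOf L) := by
  refine ⟨comap_mono h.1, comap_mono h.2.1, fun g hg => ?_⟩
  obtain ⟨a, ha, b, hb, e⟩ := h.2.2 g hg
  exact ⟨⟨a, hR (h.1 ha)⟩, ha, ⟨b, hR (h.2.1 hb)⟩, hb, Subtype.ext e⟩

theorem nil_sub (h : Group.IsNilpotent A) (L : Subgroup G) :
    Group.IsNilpotent (A.subgroupOf L) := by
  have h1 : Group.IsNilpotent (A ⊓ L : Subgroup G) := nil_of_le h inf_le_left
  rw [← inf_subgroupOf_right]
  exact Group.nilpotent_of_mulEquiv (subgroupOfEquivOfLe (inf_le_right : A ⊓ L ≤ L)).symm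

theorem nil_map (h : Group.IsNilpotent A) (f : G →* G') : Group.IsNilpotent (A.map f) :=
  Group.nilpotent_of_surjective (f.subgroupMap A) (f.subgroupMap_surjective A)

theorem kegel [Finite G] (h : ∀ x : G, ∃ R, IsProd R P (Q :^ x)) (hne : P ⊔ Q ≠ ⊤) :
    ∃ N : Subgroup G, N.Normal ∧ N ≠ ⊤ ∧ (P ≤ N ∨ Q ≤ N) :=
  H1.kegel_lemma Q P (fun x => by
    obtain ⟨R, hR⟩ := h x
    have e := hR.eq_sup
    rw [e] at hR
    exact hR) hne

theorem kegel_sub [Finite G] (hP : P ≤ L) (hQ : Q ≤ L)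
    (h : ∀ x ∈ L, ∃ R, IsProd R P (Q :^ x)) (hne : P ⊔ Q ≠ L) :
    ∃ M : Subgroup G, M ≤ L ∧ L ≤ N[M] ∧ M ≠ L ∧ (P ≤ M ∨ Q ≤ M) := by
  obtain ⟨N, hN, h1, h2⟩ := kegel (P := P.subgroupOf L) (Q := Q.subgroupOf L) (fun x => by
    obtain ⟨R, hR⟩ := h x x.2
    have hRL : R ≤ L := by
      rw [hR.eq_sup]; exact sup_le hP (cj_le_of_mem x.2 hQ)
    refine ⟨R.subgroupOf L, ?_⟩
    have e : (Q.subgroupOf L) :^ x = (Q :^ (x : G)).subgroupOf L := by
      ext y
      simp only [mem_cj, mem_subgroupOf]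
      rfl
    rw [e]
    exact prod_sub hR hRL) (by
      intro e
      apply hne
      have := congrArg (Subgroup.map L.subtype) e
      rwa [Subgroup.map_sup, map_subgroupOf_eq_of_le hP, map_subgroupOf_eq_of_le hQ,
        ← MonoidHom.range_eq_map, range_subtype] at this)
  refine ⟨N.map L.subtype, map_subtype_le _, ?_, ?_, ?_⟩
  · rw [← normal_subgroupOf_iff_le_normalizer (map_subtype_le _)]
    rw [subgroupOf, comap_map_eq_self_of_injective L.subtype_injective]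
    exact hN
  · intro e
    apply h1
    apply Subgroup.map_injective L.subtype_injective
    rw [e, ← MonoidHom.range_eq_map, range_subtype]
  · rcases h2 with h2 | h2
    · left
      rw [← map_subgroupOf_eq_of_le hP]; exact map_mono h2
    · right
      rw [← map_subgroupOf_eq_of_le hQ]; exact map_mono h2

/-- the Sylow subgroups of nilpotent factors permute -/
theorem sy_perm [Finite G] [Fact p.Prime] (hA : Group.IsNilpotent A) (hB : Group.IsNilpotent B)
    (h : IsProd ⊤ A B) (g : G) :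
    ∃ R, Pg[p] R ∧ IsProd R (Op[{p}] A) ((Op[{p}] B) :^ g) := by
  obtain ⟨P, Q, R, hP, hQ, hR, h1⟩ := (prod_cj_right h g).exists_sylow p
  refine ⟨R, hl_pi hR, ?_⟩
  have e1 := hl_nil_eq hA hP
  have hB' := (nil_cj g).2 hB
  have e2 := (hl_nil_eq hB' hQ).trans (hl_nil_eq hB' (hl_cj (hl_core_nil {p} hB) g)).symm
  rwa [e1, e2] at h1

theorem cover [Finite G] [N.Normal] (hA : Group.IsNilpotent A) (h : A ⊔ N = ⊤) (hY : Pg[q] Y) :
    Y ≤ N ⊔ Op[{q}] A := by
  have hn : A ≤ N[(N ⊔ Op[{q}] A : Subgroup G)] :=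
    norm_sup (le_norm_normal A) (le_norm_piCoreOf_self _ _)
  have e : (N ⊔ Op[{q}] A) ⊔ A = ⊤ := by
    rw [eq_top_iff, ← h]
    exact sup_le le_sup_right (le_sup_left.trans le_sup_left)
  refine le_of_cop_idx (K := ⊤) le_top ?_ hY ?_
  · rw [← e]; exact sup_le (le_norm _) hn
  · rw [← e, relIndex_sup_l hn]
    exact (hl_idx (hl_core_nil {q} hA)).of_dvd (relIndex_dvd_of_le_left A le_sup_right)

end basic

/-- a minimal counterexample -/
structure Ce {G : Type u} [Group G] (A B : Subgroup G) : Prop where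
  ih : ∀ (H : Type u) [Group H] [Finite H], Nat.card H < Nat.card G → ∀ A B : Subgroup H,
    Group.IsNilpotent A → Group.IsNilpotent B → IsProd ⊤ A B → Group.IsSolvable H
  nA : Group.IsNilpotent A
  nB : Group.IsNilpotent B
  prod : IsProd ⊤ A B
  ns : ¬ Group.IsSolvable G

variable {G : Type u} [Group G] [Finite G] {A B H K N M L P Q R X Y : Subgroup G}
  {p q : ℕ} {π : Set ℕ}

omit [Finite G] in
theorem Ce.symm (h : Ce A B) : Ce B A := ⟨h.ih, h.nB, h.nA, h.prod.symm, h.ns⟩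

omit [Finite G] in
theorem Ce.cj (h : Ce A B) (g : G) : Ce A (B :^ g) :=
  ⟨h.ih, h.nA, (nil_cj g).2 h.nB, prod_cj_right h.prod g, h.ns⟩

theorem Ce.sub (h : Ce A B) (hL : L ≠ ⊤) (hp : IsProd L X Y) (hX : Group.IsNilpotent X)
    (hY : Group.IsNilpotent Y) : Group.IsSolvable L := by
  refine h.ih L ?_ _ _ (nil_sub hX L) (nil_sub hY L) hp.subgroupOf
  rw [← Subgroup.card_top (G := G)]
  exact card_lt (lt_top_iff_ne_top.2 hL)

theorem Ce.quot (h : Ce A B) [N.Normal] (hN : N ≠ ⊥) : Group.IsSolvable (G ⧸ N) := by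
  refine h.ih (G ⧸ N) ?_ _ _ (nil_map h.nA _) (nil_map h.nB _)
    (h.prod.map_top (QuotientGroup.mk'_surjective N))
  rw [Subgroup.card_eq_card_quotient_mul_card_subgroup N]
  have h1 : 1 < Nat.card N := (Subgroup.one_lt_card_iff_ne_bot N).2 hN
  have h2 : 0 < Nat.card (G ⧸ N) := Nat.card_pos
  nlinarith

theorem Ce.nsol (h : Ce A B) [N.Normal] (hN : N ≠ ⊥) : ¬ Group.IsSolvable N := by
  intro hs
  haveI := h.quot hN
  exact h.ns (Group.isSolvable_of_ker_le_range N.subtype (QuotientGroup.mk' N) (by simp))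

omit [Finite G] in
theorem Ce.top (h : Ce A B) : ¬ Group.IsSolvable (⊤ : Subgroup G) := fun hs =>
  h.ns (Group.isSolvable_of_surjective (f := (⊤ : Subgroup G).subtype)
    fun x => ⟨⟨x, mem_top x⟩, rfl⟩)

theorem Ce.sup_top (h : Ce A B) [N.Normal] (hN : N ≠ ⊥) : A ⊔ N = ⊤ := by
  by_contra hne
  have h1 := h.prod.of_le (C := A ⊔ N) le_sup_left le_top
  exact h.nsol hN (sol_of_le (h.sub hne h1 h.nA (nil_of_le h.nB inf_le_left)) le_sup_right)

theorem Ce.cent_bot (h : Ce A B) [N.Normal] (hN : N ≠ ⊥) : C[N] = ⊥ := by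
  by_contra hC
  haveI := h.quot hC
  have h1 : N ⊓ C[N] = ⊥ := by
    by_contra h1
    exact h.nsol h1 (sol_of_comm (comm_center N))
  refine h.nsol hN (Group.isSolvable_of_isSolvable_injective
    (f := (QuotientGroup.mk' C[N]).comp N.subtype) ?_)
  rw [injective_iff_map_eq_one]
  intro x hx
  have h2 : (x : G) ∈ N ⊓ C[N] := ⟨x.2, (QuotientGroup.eq_one_iff _).1 hx⟩
  exact Subtype.ext (eq_one_of_mem_bot h1 h2)

theorem Ce.fin (h : Ce A B) [N.Normal] (hN : N ≠ ⊥)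
    (hm : ∀ Z : Subgroup G, Z.Normal ∧ Z ≠ ⊥ → Z ≤ N → Z = N) (hq : q.Prime)
    (hd : q ∣ N.index) (h1 : M ≤ N ⊔ Op[{q}] A) (h2 : N ⊔ Op[{q}] A ≤ N[M])
    (h3 : M ≠ N ⊔ Op[{q}] A) : ¬ Op[{q}] A ≤ M := by
  intro h4
  have e := h.sup_top hN
  have hn : (⁅N, Op[{q}] A⁆ : Subgroup G).Normal := by
    apply normal_of_top
    rw [← e]
    exact sup_le (norm_comm (le_norm_normal A) (le_norm_piCoreOf_self _ _))
      (normalizer_commutator_ge_left _ _)
  have hM : ⁅N, Op[{q}] A⁆ ≤ M :=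
    (commutator_mono le_rfl h4).trans (comm_le_right (le_sup_left.trans h2))
  by_cases h5 : (⁅N, Op[{q}] A⁆ : Subgroup G) = ⊥
  · have h6 := cent_symm (comm_eq_bot.1 h5)
    rw [h.cent_bot hN, le_bot_iff] at h6
    refine piCoreOf_ne_bot_of_nilpotent h.nA hq (Set.mem_singleton _) ?_ h6
    have h7 : N.index = N.relIndex A := by
      rw [← relIndex_top_right, ← e, sup_comm, relIndex_sup_l (le_norm_normal A)]
    rw [h7] at hd
    exact hd.trans (relIndex_dvd_card _ _)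
  · have h6 := hm _ ⟨hn, h5⟩ (comm_le_left (le_norm_normal _))
    rw [h6] at hM
    exact h3 (le_antisymm h1 (sup_le hM h4))

theorem Ce.simple (h : Ce A B) (hN : N.Normal) : N = ⊥ ∨ N = ⊤ := by
  by_contra hc
  push Not at hc
  obtain ⟨M, hMN, ⟨hM, h0⟩, hm⟩ := exists_min_of (C := fun Z : Subgroup G => Z.Normal ∧ Z ≠ ⊥)
    (X := N) ⟨hN, hc.1⟩
  have hMt : M.index ≠ 1 := fun e => hc.2 (top_le_iff.1 ((index_eq_one.1 e).ge.trans hMN))
  obtain ⟨q, hq, hd⟩ := Nat.exists_prime_and_dvd hMt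
  haveI := Fact.mk hq
  have e : M ⊔ Op[{q}] A = M ⊔ Op[{q}] B :=
    le_antisymm (sup_le le_sup_left (cover h.nB (h.symm.sup_top h0) (isPi_piCoreOf _ _)))
      (sup_le le_sup_left (cover h.nA (h.sup_top h0) (isPi_piCoreOf _ _)))
  obtain ⟨D, h1, h2, h3, h4⟩ := kegel_sub (L := M ⊔ Op[{q}] A) (P := Op[{q}] A)
    (Q := Op[{q}] B) le_sup_right (e ▸ le_sup_right)
    (fun x _ => by
      obtain ⟨R, -, hR⟩ := sy_perm (p := q) h.nA h.nB h.prod x
      exact ⟨R, hR⟩)
    (by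
      intro e2
      obtain ⟨R, hq, hR⟩ := sy_perm (p := q) h.nA h.nB h.prod 1
      rw [cj_one] at hR
      have := hR.eq_sup
      rw [e2] at this
      exact h.nsol h0 (sol_of_le hq.solvable (this ▸ le_sup_left)))
  rcases h4 with h4 | h4
  · exact h.fin h0 hm hq hd h1 h2 h3 h4
  · rw [e] at h1 h2 h3
    exact h.symm.fin h0 hm hq hd h1 h2 h3 h4

theorem Ce.isSimple (h : Ce A B) : IsSimpleGroup G := by
  haveI : Nontrivial G := by
    by_contra hn
    haveI := not_nontrivial_iff_subsingleton.1 hn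
    exact h.ns inferInstance
  exact ⟨fun N hN => h.simple hN⟩

theorem Ce.norm_ne (h : Ce A B) (h0 : X ≠ ⊥) (h1 : X ≠ ⊤) : N[X] ≠ ⊤ := fun e => by
  rcases h.simple (normal_of_top e.ge) with h2 | h2
  exacts [h0 h2, h1 h2]

omit [Finite G] in
theorem Ce.ne_top (h : Ce A B) (hs : Group.IsSolvable X) : X ≠ ⊤ := fun e => h.top (e ▸ hs)

theorem Ce.cop (h : Ce A B) (hp : p.Prime) (h1 : p ∣ Nat.card A) : ¬ p ∣ Nat.card B := by
  intro h2
  haveI := Fact.mk hp
  obtain ⟨N, hN, h3, h4⟩ := kegel (P := Op[{p}] A) (Q := Op[{p}] B)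
    (fun x => by
      obtain ⟨R, -, hR⟩ := sy_perm (p := p) h.nA h.nB h.prod x
      exact ⟨R, hR⟩)
    (by
      obtain ⟨R, hq, hR⟩ := sy_perm (p := p) h.nA h.nB h.prod 1
      rw [cj_one] at hR
      rw [← hR.eq_sup]
      exact h.ne_top hq.solvable)
  have h5 := (h.simple hN).resolve_right h3
  rw [h5, le_bot_iff, le_bot_iff] at h4
  rcases h4 with h4 | h4
  · exact piCoreOf_ne_bot_of_nilpotent h.nA hp (Set.mem_singleton _) h1 h4
  · exact piCoreOf_ne_bot_of_nilpotent h.nB hp (Set.mem_singleton _) h2 h4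

omit [Finite G] in
theorem Ce.ne_bot (h : Ce A B) : B ≠ ⊥ := fun e => by
  have := h.prod.eq_sup
  rw [e, sup_bot_eq] at this
  exact h.ne_top (sol_of_nil h.nA) this.symm

theorem Ce.idx (h : Ce A B) : A.index ∣ Nat.card B := by
  rw [← relIndex_top_right, h.prod.relIndex_eq]
  exact relIndex_dvd_card _ _

theorem Ce.not_pg (h : Ce A B) (hp : p.Prime) : ¬ Pg[p] A := by
  intro hA
  haveI := Fact.mk hp
  haveI := h.isSimple
  obtain ⟨b, hb, h1⟩ := exists_ne_one (center_ne_bot h.nB h.ne_bot)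
  obtain ⟨n, hn⟩ := hA.exists_card_eq
  have h2 : (C1[b]).index ∣ p ^ n :=
    (index_dvd_of_le (le_cent1.2 hb.2)).trans (hn ▸ h.symm.idx)
  obtain ⟨k, -, hk⟩ := (Nat.dvd_prime_pow hp).1 h2
  have h3 := Cfsg.Agent.S0143.result p k hp b h1 hk
  haveI := Fact.mk h3
  haveI : IsCyclic G := isCyclic_of_prime_card (p := Nat.card G) rfl
  exact h.top (sol_of_nil (nil_of_cyclic inferInstance))

end H12.KW
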