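import Cfsg.Agent.H12.KW1
import Cfsg.Agent.H1.FTLib
import Cfsg.Agent.S0200

/-! Products of two nilpotent groups, part 2: the Kegel–Wielandt theorem. -/

set_option autoImplicit false

namespace H12.KW

open Subgroup Cfsg H16 H12.BG
open H15 hiding card_cj cent_anti cent_bot cent_comm cent_le_cent1 cent_le_norm cent_sup cent_zpowers cj_bot cj_cent cj_cj_inv cj_comm cj_eq_bot cj_eq_iff cj_eq_top cj_inf cj_inj cj_inv_cj cj_le_cj cj_le_iff cj_le_of_mem cj_lt_cj cj_mono cj_norm cj_one cj_sup cj_top comm_le_left comm_le_right comm_of_cyclic comm_of_le comm_sup le_cj_iff mem_cent mem_cent1 mem_cj mem_norm_of_cj_le norm_bot norm_top relIndex_cj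
open H1 (IsProd)
open scoped commutatorElement Pointwise

universe u

variable {G : Type u} [Group G] [Finite G] {A B H K N M L P Q R X Y : Subgroup G}
  {p q : ℕ} {π : Set ℕ}

/-- nontrivial normal subgroups of the factors generating a proper subgroup -/
structure Gd (A B X Y : Subgroup G) : Prop where
  lx : X ≤ A
  nx : A ≤ N[X]
  bx : X ≠ ⊥
  ly : Y ≤ B
  ny : B ≤ N[Y]
  bY : Y ≠ ⊥
  ne : X ⊔ Y ≠ ⊤

omit [Finite G] in
theorem Gd.symm (h : Gd A B X Y) : Gd B A Y X :=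
  ⟨h.ly, h.ny, h.bY, h.lx, h.nx, h.bx, sup_comm X Y ▸ h.ne⟩

theorem Gd.prod (g : Gd A B X Y) (h : Ce A B) :
    IsProd N[(X ⊔ Y : Subgroup G)] (N[(X ⊔ Y : Subgroup G)] ⊓ A) (N[(X ⊔ Y : Subgroup G)] ⊓ B) :=
  ⟨inf_le_left, inf_le_left, Cfsg.Agent.S0562.result A B X Y (H1.isProd_top.1 h.prod) g.lx
    ((normal_subgroupOf_iff_le_normalizer g.lx).2 g.nx) g.ly
    ((normal_subgroupOf_iff_le_normalizer g.ly).2 g.ny)⟩

theorem Gd.sol (g : Gd A B X Y) (h : Ce A B) : Group.IsSolvable N[(X ⊔ Y : Subgroup G)] :=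
  h.sub (h.norm_ne (ne_bot_of_le g.bx le_sup_left) g.ne) (g.prod h)
    (nil_of_le h.nA inf_le_right) (nil_of_le h.nB inf_le_right)

theorem Gd.op_le (g : Gd A B X Y) (h : Ce A B) (hp : p.Prime) (hB : ¬ p ∣ Nat.card B) :
    Op[{p}] (X ⊔ Y) ≤ A := by
  haveI := Fact.mk hp
  obtain ⟨S, hS⟩ := sy_exists p (N[(X ⊔ Y : Subgroup G)] ⊓ A)
  have h1 : Sy[p] S N[(X ⊔ Y : Subgroup G)] := by
    refine hl_of_idx hS inf_le_left ?_
    rw [(g.prod h).relIndex_eq]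
    intro r hr hd e
    rw [Set.mem_singleton_iff] at e
    subst e
    exact hB ((hd.trans (relIndex_dvd_card _ _)).trans (card_dvd inf_le_right))
  exact (le_hl_of_norm h1 ((piCoreOf_le _ _).trans (le_norm _))
    (h1.1.trans (norm_le_norm_piCoreOf _ _)) (isPi_piCoreOf _ _)).trans
    (hS.1.trans inf_le_right)

theorem Gd.grow (g : Gd A B X Y) (h : Ce A B) (hm : ∀ Z, Gd A B Z Y → X ≤ Z → Z = X)
    (hp : p.Prime) (hB : ¬ p ∣ Nat.card B) (h0 : Op[{p}] (X ⊔ Y) ≠ ⊥) :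
    Op[{p}ᶜ] A ≤ X ∧ A ⊓ C[A] ≤ X := by
  haveI := Fact.mk hp
  have h1 := g.op_le h hp hB
  have h2 := h.norm_ne h0 (h.ne_top (isPi_piCoreOf {p} (X ⊔ Y)).solvable)
  have h3 : Gd A B (X ⊔ Op[{p}ᶜ] A ⊔ (A ⊓ C[A])) Y := by
    refine ⟨sup_le (sup_le g.lx (piCoreOf_le _ _)) inf_le_left,
      norm_sup (norm_sup g.nx (le_norm_piCoreOf_self _ _))
        (norm_inf (le_norm _) (norm_cent (le_norm _))),
      ne_bot_of_le g.bx (le_sup_left.trans le_sup_left), g.ly, g.ny, g.bY, ?_⟩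
    refine ne_top_of_le_ne_top h2 (sup_le (sup_le (sup_le ?_ ?_) ?_) ?_)
    · exact le_norm_piCoreOf_of_le _ le_sup_left
    · exact norm_of_cent (nil_cent h.nA (piCoreOf_le _ _) h1
        ((isPi_piCoreOf _ _).coprime' (isPi_piCoreOf _ _)))
    · exact norm_of_cent (inf_le_right.trans (cent_anti h1))
    · exact le_norm_piCoreOf_of_le _ le_sup_right
  have h4 := hm _ h3 (le_sup_left.trans le_sup_left)
  exact ⟨h4 ▸ le_sup_right.trans le_sup_left, h4 ▸ le_sup_right⟩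

theorem Ce.op_ne (h : Ce A B) (hp : p.Prime) : Op[{p}ᶜ] A ≠ ⊥ := fun e =>
  h.not_pg hp (by simpa using pi_of_hl_bot (hl_core_nil {p}ᶜ h.nA) e)

theorem Gd.perm (g : Gd A B X Y) (h : Ce A B) (hp : p.Prime) (hq : q.Prime)
    (hB : ¬ p ∣ Nat.card B) (hA : ¬ q ∣ Nat.card A) (h1 : Op[{p}ᶜ] A ≤ X)
    (h2 : Op[{q}ᶜ] B ≤ Y) : False := by
  have hs := g.sol h
  have hP : Hl[{r | r ≠ p ∧ r ≠ q}] (Op[{p}ᶜ] A) (N[(X ⊔ Y : Subgroup G)] ⊓ A) := by
    refine hl_of_le (hl_congr (hl_core_nil {p}ᶜ h.nA) fun r _ hd => ?_)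
      (le_inf (norm_of_le (h1.trans le_sup_left)) (piCoreOf_le _ _)) inf_le_right
    exact ⟨fun e => ⟨e, fun e2 => hA (e2 ▸ hd)⟩, fun e => e.1⟩
  have hQ : Hl[{r | r ≠ p ∧ r ≠ q}] (Op[{q}ᶜ] B) (N[(X ⊔ Y : Subgroup G)] ⊓ B) := by
    refine hl_of_le (hl_congr (hl_core_nil {q}ᶜ h.nB) fun r _ hd => ?_)
      (le_inf (norm_of_le (h2.trans le_sup_right)) (piCoreOf_le _ _)) inf_le_right
    exact ⟨fun e => ⟨fun e2 => hB (e2 ▸ hd), e⟩, fun e => e.2⟩
  obtain ⟨R, hR, h3⟩ := hl_exists_ge hs (hP.1.trans inf_le_left) (hl_pi hP)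
  obtain ⟨x, hx, h4⟩ := hl_conj_le hs hR (hQ.1.trans inf_le_left) (hl_pi hQ)
  obtain ⟨a, ha, b, hb, R', -, h5⟩ := (g.prod h).exists_hall hP hQ hR h3 hx h4
  have h6 : IsProd R' (Op[{p}ᶜ] A) (Op[{q}ᶜ] B) := by
    have e1 : (Op[{p}ᶜ] A) :^ a = Op[{p}ᶜ] A := cj_norm (le_norm_piCoreOf_self _ _ ha.2)
    have e2 : (Op[{q}ᶜ] B) :^ b = Op[{q}ᶜ] B := cj_norm (le_norm_piCoreOf_self _ _ hb.2)
    rw [← e1, ← e2]
    exact h5
  obtain ⟨N, hN, h7, h8⟩ := kegel (P := Op[{p}ᶜ] A) (Q := Op[{q}ᶜ] B)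
    (fun x => by
      obtain ⟨a, ha, b, hb, rfl⟩ := H1.isProd_top.1 h.prod x
      refine ⟨R' :^ a, ?_⟩
      have := prod_cj h6 a
      rwa [cj_norm (le_norm_piCoreOf_self _ _ ha), ← cj_norm (le_norm_piCoreOf_self _ _ hb),
        cj_cj] at this)
    (ne_top_of_le_ne_top g.ne (sup_le_sup h1 h2))
  rw [(h.simple hN).resolve_right h7, le_bot_iff, le_bot_iff] at h8
  rcases h8 with h8 | h8
  · exact h.op_ne hp h8
  · exact h.symm.op_ne hq h8

theorem Gd.one (g : Gd A B X Y) (h : Ce A B) (hm : ∀ Z, Gd A B Z Y → X ≤ Z → Z = X)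
    (h1 : ∀ r, r.Prime → Op[{r}] (X ⊔ Y) ≠ ⊥ → ¬ r ∣ Nat.card B) : False := by
  have hs : Group.IsSolvable (X ⊔ Y : Subgroup G) := sol_of_le (g.sol h) (le_norm _)
  obtain ⟨p, hp, h2⟩ := exists_pCoreOf_ne_bot hs (ne_bot_of_le g.bx le_sup_left)
  obtain ⟨h3, h4⟩ := g.grow h hm hp (h1 p hp h2) h2
  have hF : fittingOf (X ⊔ Y) ≤ A := by
    refine le_of_piCoreOf_le (nilpotent_fittingOf _) fun r hr _ => ?_
    haveI := Fact.mk hr
    rw [pCoreOf_fittingOf]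
    by_cases h5 : Op[{r}] (X ⊔ Y) = ⊥
    · rw [h5]; exact bot_le
    · exact g.op_le h hr (h1 r hr h5)
  have hZ : A ⊓ C[A] ≤ fittingOf (X ⊔ Y) :=
    le_fittingOf_of_le_cent hs (h4.trans le_sup_left) (inf_le_right.trans (cent_anti hF))
  obtain ⟨r, hr, hd⟩ := exists_prime_dvd (h.op_ne hp)
  have hrp : r ≠ p := (isPi_piCoreOf {p}ᶜ A) r hr hd
  have h5 : Op[{r}] A ⊓ C[A] ≠ ⊥ :=
    nil_inf_cent_ne_bot h.nA (piCoreOf_le _ _) (le_norm_piCoreOf_self _ _)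
      (piCoreOf_ne_bot_of_nilpotent h.nA hr (Set.mem_singleton _)
        (hd.trans (card_dvd (piCoreOf_le _ _))))
  have h6 : Op[{r}] (X ⊔ Y) ≠ ⊥ := ne_bot_of_le h5
    (le_piCoreOf_of_le_fittingOf ((inf_le_inf_right _ (piCoreOf_le _ _)).trans hZ)
      (isPi_piCoreOf _ _).inf_left)
  have h7 := (g.grow h hm hr (h1 r hr h6) h6).1
  have h8 : A ≤ X := by
    rw [← piCoreOf_sup_compl h.nA {p}]
    refine sup_le ((piCoreOf_mono ?_ _).trans h7) h3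
    intro s hs e
    rw [Set.mem_singleton_iff] at hs e
    exact hrp (e.symm.trans hs)
  have h9 := h.prod.symm.normalClosure_le (K := X ⊔ Y) g.ny le_sup_right
    (norm_of_le (h8.trans le_sup_left))
  rcases h.simple (N := normalClosure (Y : Set G)) inferInstance with e | e
  · exact g.bY (eq_bot_of_le e le_normalClosure)
  · exact g.ne (top_le_iff.1 (e ▸ h9))

theorem Ce.key (h : Ce A B) : ¬ Gd A B X Y := by
  intro g0
  obtain ⟨X, -, ⟨Y0, g1⟩, hX⟩ := exists_max_of (C := fun Z => ∃ W, Gd A B Z W) ⟨Y, g0⟩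
  obtain ⟨Y, -, g, hY⟩ := exists_max_of (C := fun W => Gd A B X W) g1
  have hX' : ∀ Z, Gd A B Z Y → X ≤ Z → Z = X := fun Z hZ => hX Z ⟨Y, hZ⟩
  have hY' : ∀ Z, Gd B A Z X → Y ≤ Z → Z = Y := fun Z hZ => hY Z hZ.symm
  by_cases h1 : ∀ r, r.Prime → Op[{r}] (X ⊔ Y) ≠ ⊥ → ¬ r ∣ Nat.card B
  · exact g.one h hX' h1
  by_cases h2 : ∀ r, r.Prime → Op[{r}] (Y ⊔ X) ≠ ⊥ → ¬ r ∣ Nat.card A
  · exact g.symm.one h.symm hY' h2
  push Not at h1 h2
  obtain ⟨q, hq, h3, h4⟩ := h1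
  obtain ⟨p, hp, h5, h6⟩ := h2
  have h7 := h.cop hp h6
  have h8 := h.symm.cop hq h4
  exact g.perm h hp hq h7 h8 (g.grow h hX' hp h7 (sup_comm X Y ▸ h5)).1
    (g.symm.grow h.symm hY' hq h8 (sup_comm X Y ▸ h3)).1

theorem Ce.sy (h : Ce A B) (hp : p.Prime) (hd : p ∣ Nat.card A) : Sy[p] (Op[{p}] A) ⊤ := by
  refine hl_of_idx (hl_core_nil {p} h.nA) le_top ?_
  rw [relIndex_top_right]
  intro r hr h1 e
  rw [Set.mem_singleton_iff] at e
  subst e
  exact h.cop hp hd (h1.trans h.idx)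

theorem Ce.dvd (h : Ce A B) (hp : p.Prime) (hd : p ∣ Nat.card G) :
    p ∣ Nat.card A ∨ p ∣ Nat.card B := by
  have := h.prod.card_dvd
  rw [Subgroup.card_top] at this
  exact (Nat.Prime.dvd_mul hp).1 (hd.trans this)

theorem Ce.odd (h : Ce A B) : ¬ 2 ∣ Nat.card A := by
  intro h2
  have h3 : Op[{2}] A ⊓ C[A] ≠ ⊥ :=
    nil_inf_cent_ne_bot h.nA (piCoreOf_le _ _) (le_norm_piCoreOf_self _ _)
      (piCoreOf_ne_bot_of_nilpotent h.nA Nat.prime_two (Set.mem_singleton _) h2)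
  obtain ⟨t, ht, ho⟩ := exists_orderOf Nat.prime_two
    ((isPi_piCoreOf {2} A).inf_left.dvd_of_ne_bot h3)
  have ht1 : t ≠ 1 := by rintro rfl; simp at ho
  obtain ⟨v, hv1, hvo, hv⟩ := Cfsg.Agent.S0200.result t ho (fun N hN h4 h5 => by
    rcases h.simple hN with e | e
    · exact ht1 (eq_one_of_mem_bot e h5)
    · exact h.ne_top (sol_of_nil h4.isNilpotent) e)
  obtain ⟨r, hr, hd⟩ := Nat.exists_prime_and_dvd (fun e => hv1 (orderOf_eq_one_iff.1 e))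
  haveI := Fact.mk hr
  have hr2 : r ≠ 2 := by
    rintro rfl
    exact (Nat.not_even_iff_odd.2 hvo) (even_iff_two_dvd.2 hd)
  obtain ⟨u, hu, hur⟩ := exists_orderOf (H := zpowers v) hr (by rwa [card_zpowers])
  have hi : t * u * t⁻¹ = u⁻¹ := by
    obtain ⟨k, rfl⟩ := mem_zpowers_iff.1 hu
    rw [← conj_zpow, hv, inv_zpow]
  have hu1 : u ≠ 1 := by
    rintro rfl
    rw [orderOf_one] at hur
    exact hr.one_lt.ne hur
  have hU : Pg[r] (zpowers u) := isPi_of_card_eq_prime hr (by rw [card_zpowers, hur])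
  have htn : t ∈ N[zpowers u] := by
    rw [← cj_eq_self_iff, ← zpowers_cj, hi, zpowers_inv]
  have hne := h.norm_ne (zpowers_ne_bot' hu1) (h.ne_top hU.solvable)
  rcases h.dvd hr (hur ▸ orderOf_dvd_natCard u) with h4 | h4
  · obtain ⟨g, -, h5⟩ := sy_le_conj (h.sy hr h4) le_top hU
    have h6 : (Op[{2}] A) :^ g ≤ C[zpowers u] :=
      (cent_cj_le (nil_cent h.nA (piCoreOf_le _ _) (piCoreOf_le _ _)
        ((isPi_piCoreOf {2} A).coprime ((isPi_piCoreOf {r} A).compl_of_ne hr2))) g).trans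
        (cent_anti h5)
    have h7 := hl_of_le (hl_cj_top (h.sy Nat.prime_two h2) g) (h6.trans (cent_le_norm _)) le_top
    have h8 : zpowers t ≤ C[zpowers u] :=
      le_of_cop_idx (π := {2}) (zpowers_le.2 htn) (norm_cent le_rfl)
        (isPi_of_card_eq_prime Nat.prime_two (by rw [card_zpowers, ho]))
        ((hl_idx h7).of_dvd (relIndex_dvd_of_le_left _ h6))
    have h9 := mem_cent.1 (h8 (mem_zpowers t)) u (mem_zpowers u)
    rw [← h9, mul_inv_cancel_right] at hi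
    have h10 : u ^ 2 = 1 := by rw [pow_two]; exact mul_eq_one_iff_eq_inv.2 hi
    exact hr2 ((Nat.prime_dvd_prime_iff_eq hr Nat.prime_two).1
      (hur ▸ orderOf_dvd_of_pow_eq_one h10))
  · obtain ⟨g, -, h5⟩ := sy_le_conj (h.symm.sy hr h4) le_top hU
    have h6 : zpowers u ≤ B :^ g := h5.trans (cj_mono g (piCoreOf_le _ _))
    refine (h.cj g).key (X := zpowers t) (Y := B :^ g ⊓ C[B :^ g])
      ⟨zpowers_le.2 (piCoreOf_le _ _ ht.1), norm_of_cent' (zpowers_le.2 ht.2),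
        zpowers_ne_bot' ht1, inf_le_left, norm_inf (le_norm _) (norm_cent (le_norm _)),
        center_ne_bot (h.cj g).nB (h.cj g).ne_bot, ne_top_of_le_ne_top hne ?_⟩
    exact sup_le (zpowers_le.2 htn) (norm_of_cent (inf_le_right.trans (cent_anti h6)))

theorem kw_aux (n : ℕ) : ∀ (G : Type u) [Group G] [Finite G], Nat.card G = n →
    ∀ A B : Subgroup G, Group.IsNilpotent A → Group.IsNilpotent B → IsProd ⊤ A B →
    Group.IsSolvable G := by
  induction n using Nat.strong_induction_on with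
  | _ n ih =>
  intro G _ _ hn A B hA hB hp
  by_contra hs
  have h : Ce A B := ⟨fun H _ _ hH => ih _ (hn ▸ hH) H rfl, hA, hB, hp, hs⟩
  rcases h.dvd Nat.prime_two (H1.ft_two_dvd hs) with h1 | h1
  · exact h.odd h1
  · exact h.symm.odd h1

/-- The Kegel–Wielandt theorem -/
theorem kw (hA : Group.IsNilpotent A) (hB : Group.IsNilpotent B) (h : IsProd ⊤ A B) :
    Group.IsSolvable G := kw_aux _ G rfl A B hA hB h

theorem kw_sub (hA : Group.IsNilpotent A) (hB : Group.IsNilpotent B) (h : IsProd L A B) :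
    Group.IsSolvable L := kw (nil_sub hA L) (nil_sub hB L) h.subgroupOf

end H12.KW
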