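import Cfsg.Agent.H12.KW2
import Cfsg.Agent.S0572

/-! Products of two nilpotent groups, part 3: normal subgroups containing a factor, and the
derived length of a product of an abelian group and a group of class two. -/

set_option autoImplicit false

namespace H12.KW

open Subgroup Cfsg H16 H12.BG
open H15 hiding card_cj cent_anti cent_bot cent_comm cent_le_cent1 cent_le_norm cent_sup cent_zpowers cj_bot cj_cent cj_cj_inv cj_comm cj_eq_bot cj_eq_iff cj_eq_top cj_inf cj_inj cj_inv_cj cj_le_cj cj_le_iff cj_le_of_mem cj_lt_cj cj_mono cj_norm cj_one cj_sup cj_top comm_le_left comm_le_right comm_of_cyclic comm_of_le comm_sup le_cj_iff mem_cent mem_cent1 mem_cj mem_norm_of_cj_le norm_bot norm_top relIndex_cj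
open H1 (IsProd)
open scoped commutatorElement Pointwise

universe u

variable {G : Type u} [Group G] [Finite G] {A B H K N M L P Q R X Y : Subgroup G}
  {p q : ℕ} {π : Set ℕ}

theorem nil_case (h : Group.IsNilpotent (⊤ : Subgroup G)) (hB : B ≠ ⊤) :
    ∃ N : Subgroup G, N.Normal ∧ N ≠ ⊤ ∧ B ≤ N := by
  obtain ⟨N, h1, h2, h3⟩ := exists_max_of (C := fun Z : Subgroup G => Z ≠ ⊤) hB
  refine ⟨N, normal_of_top ?_, h2, h1⟩
  have h4 := lt_inf_norm h (lt_top_iff_ne_top.2 h2)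
  by_contra h5
  rw [top_inf_eq] at h4
  exact h4.ne' (h3 _ (fun e => h5 e.ge) h4.le)

theorem pfree (hA : Group.IsNilpotent A) (h1 : A ≠ ⊤)
    (h2 : ∀ Z : Subgroup G, Z.Normal → Z ≠ ⊥ → A ⊔ Z = ⊤) [hN : N.Normal] (h0 : N ≠ ⊥)
    (hp : p.Prime) (hc : IsMulCommutative N) (hNp : Pg[p] N)
    (hm : ∀ L : Subgroup G, L.Normal → L ≤ N → L = ⊥ ∨ L = N) : ¬ p ∣ Nat.card A := by
  intro hd
  have e := h2 N hN h0
  have h3 := pg_inf_cent_ne_bot hp (isPi_piCoreOf {p} A) hNp (le_norm_normal _) h0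
  have h4 : (N ⊓ C[Op[{p}] A]).Normal := by
    apply normal_of_top
    rw [← e]
    exact sup_le (norm_inf (le_norm_normal _) (norm_cent (le_norm_piCoreOf_self _ _)))
      (comm_norm hc le_rfl inf_le_left)
  have h5 := (hm _ h4 inf_le_left).resolve_left h3
  have h6 : (Op[{p}] A).Normal := by
    apply normal_of_top
    rw [← e]
    exact sup_le (le_norm_piCoreOf_self _ _) (norm_of_cent (h5.ge.trans inf_le_right))
  have h7 := h2 _ h6 (piCoreOf_ne_bot_of_nilpotent hA hp (Set.mem_singleton _) hd)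
  rw [sup_eq_left.2 (piCoreOf_le _ _)] at h7
  exact h1 h7

theorem card_quot [N.Normal] (hN : N ≠ ⊥) : Nat.card (G ⧸ N) < Nat.card G := by
  rw [Subgroup.card_eq_card_quotient_mul_card_subgroup N]
  have h1 : 1 < Nat.card N := (Subgroup.one_lt_card_iff_ne_bot N).2 hN
  have h2 : 0 < Nat.card (G ⧸ N) := Nat.card_pos
  nlinarith

theorem prop_aux (n : ℕ) : ∀ (G : Type u) [Group G] [Finite G], Nat.card G = n →
    ∀ A B : Subgroup G, Group.IsNilpotent A → Group.IsNilpotent B → IsProd ⊤ A B →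
    (A ≠ ⊤ ∨ B ≠ ⊤) → ∃ N : Subgroup G, N.Normal ∧ N ≠ ⊤ ∧ (A ≤ N ∨ B ≤ N) := by
  induction n using Nat.strong_induction_on with
  | _ n ih =>
  intro G _ _ hn A B hA hB hp hne
  by_cases hA1 : A = ⊤
  · obtain ⟨N, h1, h2, h3⟩ := nil_case (hA1 ▸ hA) (hne.resolve_left (not_not.2 hA1))
    exact ⟨N, h1, h2, Or.inr h3⟩
  by_cases hB1 : B = ⊤
  · obtain ⟨N, h1, h2, h3⟩ := nil_case (hB1 ▸ hB) hA1
    exact ⟨N, h1, h2, Or.inl h3⟩
  by_cases hc : ∃ N : Subgroup G, N.Normal ∧ N ≠ ⊥ ∧ (A ⊔ N ≠ ⊤ ∨ B ⊔ N ≠ ⊤)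
  · obtain ⟨N, hN, h0, h1⟩ := hc
    have key : ∀ X : Subgroup G, X ⊔ N ≠ ⊤ → X.map (QuotientGroup.mk' N) ≠ ⊤ := by
      intro X hX e
      apply hX
      have := congrArg (comap (QuotientGroup.mk' N)) e
      rwa [comap_map_eq, QuotientGroup.ker_mk', comap_top] at this
    obtain ⟨M, hM, h2, h3⟩ := ih _ (hn ▸ card_quot h0) (G ⧸ N) rfl _ _ (nil_map hA _)
      (nil_map hB _) (hp.map_top (QuotientGroup.mk'_surjective N)) (h1.imp (key A) (key B))
    refine ⟨M.comap (QuotientGroup.mk' N), inferInstance, fun e => h2 ?_,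
      h3.imp map_le_iff_le_comap.1 map_le_iff_le_comap.1⟩
    rw [← map_comap_eq_self_of_surjective (QuotientGroup.mk'_surjective N) M, e]
    exact map_top_of_surjective _ (QuotientGroup.mk'_surjective N)
  · exfalso
    push Not at hc
    haveI := kw hA hB hp
    obtain ⟨N, p, hN, h0, -, hpp, hab, -, hNp, hm⟩ := H1.exists_minimal_normal_elementary
      (⊤ : Subgroup G) inferInstance (fun e => hA1 (top_le_iff.1 (e ▸ bot_le)))
    haveI := Fact.mk hpp
    have h1 := pfree hA hA1 (fun Z h1 h2 => (hc Z h1 h2).1) h0 hpp hab (pg_iff.2 hNp) hm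
    have h2 := pfree hB hB1 (fun Z h1 h2 => (hc Z h1 h2).2) h0 hpp hab (pg_iff.2 hNp) hm
    have h3 := (((pg_iff.2 hNp).dvd_of_ne_bot h0).trans (card_dvd le_top)).trans hp.card_dvd
    exact ((Nat.Prime.dvd_mul hpp).1 h3).elim h1 h2

omit [Finite G] in
theorem ito (hA : IsMulCommutative A) (hB : IsMulCommutative B) (h : IsProd L A B) :
    derivedSeries L 2 = ⊥ := by
  have key : ∀ X : Subgroup G, IsMulCommutative X → IsMulCommutative (X.subgroupOf L) :=
    fun X hX => by haveI := hX; infer_instance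
  haveI := key A hA
  haveI := key B hB
  exact Cfsg.Agent.S0572.result _ _ (H1.isProd_top.1 h.subgroupOf)

theorem metab (hA : IsMulCommutative A) (hB : ⁅B, B⁆ ≤ C[B]) (h : IsProd ⊤ A B)
    (hs : Group.IsSolvable G) (h0 : ⁅B, B⁆ ≠ ⊥) :
    ∃ L : Subgroup G, L.Normal ∧ L ⊓ ⁅B, B⁆ ≠ ⊥ ∧ ∃ W : Subgroup G, L ≤ W ∧
      derivedSeries W 2 = ⊥ := by
  obtain ⟨L, -, ⟨hL, h1⟩, hm⟩ := exists_min_of
    (C := fun Z : Subgroup G => Z.Normal ∧ Z ⊓ ⁅B, B⁆ ≠ ⊥) (X := ⊤)
    ⟨inferInstance, by rwa [top_inf_eq]⟩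
  have hK : ⁅L, L⁆ ⊓ ⁅B, B⁆ = ⊥ := by
    by_contra h2
    exact (der_lt_of_nil inferInstance (ne_bot_of_le h1 inf_le_left)).ne
      (hm _ ⟨inferInstance, h2⟩ (der_le L))
  obtain ⟨z, hz, hz1⟩ := exists_ne_one h1
  have hcl : normalClosure (zpowers z : Set G) = L :=
    hm _ ⟨inferInstance, ne_bot_of_mem ⟨le_normalClosure (mem_zpowers z), hz.2⟩ hz1⟩
      (normalClosure_le_normal (zpowers_le.2 hz.1))
  set f := QuotientGroup.mk' ⁅L, L⁆ with hf
  have hLL : ∀ x ∈ L, ∀ y ∈ L, Commute (f x) (f y) := by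
    intro x hx y hy
    rw [← commutatorElement_eq_one_iff_commute, ← map_commutatorElement]
    exact (QuotientGroup.eq_one_iff _).2 (commutator_mem_commutator hx hy)
  have hAA : ∀ x ∈ A, ∀ y ∈ A, Commute (f x) (f y) := fun x hx y hy =>
    Commute.map (congrArg Subtype.val (hA.1.1 ⟨x, hx⟩ ⟨y, hy⟩)) f
  have key : ∀ b ∈ B ⊓ (A ⊔ L), ∃ a ∈ A, ∃ l ∈ L, a * l = b ∧ ∀ y ∈ L, Commute (f a) (f y) := by
    intro b hb
    obtain ⟨a, ha, l, hl, e⟩ := (mem_sup_r (le_norm_normal A)).1 hb.2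
    refine ⟨a, ha, l, hl, e, fun y hy => ?_⟩
    have h2 : Commute (f a) (f z) := by
      have h3 : Commute (f b) (f z) := Commute.map (mem_cent.1 (hB hz.2) b hb.1) f
      have h4 : f a = f b * (f l)⁻¹ := by rw [← e, map_mul, mul_inv_cancel_right]
      rw [h4]
      exact h3.mul_left (hLL l hl z hz.1).inv_left
    have h3 := h.symm.normalClosure_le (N := zpowers z) (K := (C1[f a]).comap f)
      (norm_of_cent' (zpowers_le.2 (hB hz.2))) (zpowers_le.2 (mem_cent1.2 h2.symm))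
      (norm_of_le fun x hx => mem_cent1.2 (hAA x hx a ha))
    rw [hcl] at h3
    exact (mem_cent1.1 (h3 hy)).symm
  refine ⟨L, hL, h1, A ⊔ L, le_sup_right, ito hA ?_ (h.of_le le_sup_left le_top)⟩
  rw [← der_eq_bot, eq_bot_iff, ← hK]
  refine le_inf (commutator_le.2 fun x hx y hy => ?_) (der_mono inf_le_left)
  obtain ⟨a, ha, l, hl, rfl, h2⟩ := key x hx
  obtain ⟨a', ha', l', hl', rfl, h3⟩ := key y hy
  rw [← QuotientGroup.eq_one_iff]
  change f _ = 1
  rw [map_commutatorElement, commutatorElement_eq_one_iff_commute, map_mul, map_mul]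
  exact ((hAA a ha a' ha').mul_right (h2 l' hl')).mul_left
    ((h3 l hl).symm.mul_right (hLL l hl l' hl'))

omit [Finite G] in
theorem ds_add {a b : ℕ} (h1 : derivedSeries G a ≤ N)
    (h2 : derivedSeries N b = ⊥) : derivedSeries G (a + b) = ⊥ := by
  have key : ∀ k, derivedSeries G (a + k) ≤ (derivedSeries N k).map N.subtype := by
    intro k
    induction k with
    | zero => rw [derivedSeries_zero, ← MonoidHom.range_eq_map, Subgroup.range_subtype]; exact h1
    | succ k ih =>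
      rw [← add_assoc, derivedSeries_succ, derivedSeries_succ, Subgroup.map_commutator]
      exact Subgroup.commutator_mono ih ih
  have := key b
  rwa [h2, Subgroup.map_bot, le_bot_iff] at this

omit [Finite G] in
theorem nil_two (hB : ⁅B, B⁆ ≤ C[B]) : Group.IsNilpotent B := by
  refine Subgroup.isNilpotent_of_ker_le_center (Abelianization.of (G := B)) ?_
  rw [Abelianization.ker_of]
  intro x hx
  have h1 : (x : G) ∈ ⁅B, B⁆ := by
    rw [← map_subtype_commutator]; exact mem_map_of_mem _ hx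
  rw [mem_center_iff]
  intro y
  exact Subtype.ext (mem_cent.1 (hB h1) y y.2)

theorem dl_aux (n : ℕ) : ∀ (G : Type u) [Group G] [Finite G], Nat.card G = n →
    ∀ A B : Subgroup G, IsMulCommutative A → ⁅B, B⁆ ≤ C[B] → IsProd ⊤ A B →
    derivedSeries G (2 * (1 + (Nat.card (⁅B, B⁆ : Subgroup G)).primeFactorsList.length)) = ⊥ := by
  induction n using Nat.strong_induction_on with
  | _ n ih =>
  intro G _ _ hn A B hA hB hp
  by_cases h0 : ⁅B, B⁆ = ⊥
  · haveI := der_eq_bot.1 h0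
    rw [h0]
    simpa using Cfsg.Agent.S0572.result A B (H1.isProd_top.1 hp)
  obtain ⟨L, hL, h1, W, h2, h3⟩ := metab hA hB hp (kw (nil_of_comm hA) (nil_two hB) hp) h0
  have h4 := ih _ (hn ▸ card_quot (ne_bot_of_le h1 inf_le_left)) (G ⧸ L) rfl
    (A.map (QuotientGroup.mk' L)) (B.map (QuotientGroup.mk' L)) inferInstance
    (by
      rw [← map_commutator]
      rintro _ ⟨x, hx, rfl⟩
      rw [mem_cent]
      rintro _ ⟨y, hy, rfl⟩
      rw [← map_mul, ← map_mul, mem_cent.1 (hB hx) y hy])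
    (hp.map_top (QuotientGroup.mk'_surjective L))
  rw [← map_commutator, ← relIndex_ker, QuotientGroup.ker_mk'] at h4
  have h5 := map_derivedSeries_le_derivedSeries (QuotientGroup.mk' L)
    (2 * (1 + (L.relIndex ⁅B, B⁆).primeFactorsList.length))
  rw [h4, le_bot_iff, Subgroup.map_eq_bot_iff, QuotientGroup.ker_mk'] at h5
  have h6 := ds_add (h5.trans h2) h3
  rw [eq_bot_iff, ← h6]
  apply derivedSeries_antitone
  have h7 := (Nat.perm_primeFactorsList_mul (card_ne_zero (L ⊓ ⁅B, B⁆))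
    (H16.relIndex_pos L ⁅B, B⁆).ne').length_eq
  rw [card_inf_mul_relIndex, List.length_append] at h7
  have h8 : (Nat.card ↥(L ⊓ ⁅B, B⁆)).primeFactorsList.length ≠ 0 := by
    rw [Ne, List.length_eq_zero_iff, Nat.primeFactorsList_eq_nil]
    have := (Subgroup.one_lt_card_iff_ne_bot _).2 h1
    omega
  omega

end H12.KW
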