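import Cfsg.Agent.H12.Link1
import Cfsg.Agent.Lead.Fl0
import Cfsg.Agent.H5.Fstar
import Cfsg.Agent.S0023

/-! Reduction of the equivariant ZJ theorem to its linear core. -/

set_option autoImplicit false

namespace H12.Link

open Subgroup Cfsg H4 H12
open scoped commutatorElement

universe u

variable {p : ℕ} [hp : Fact p.Prime]

/-- the hypotheses on an operator group `R` and a `p`-subgroup `P` of `K` -/
structure Hy {Γ : Type*} [Group Γ] (p : ℕ) (K R P : Subgroup Γ) : Prop where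
  nK : K.Normal
  cop : (Nat.card R).Coprime (Nat.card K)
  pR : (Nat.card R).Coprime p
  sol : Group.IsSolvable R
  le : P ≤ K
  pg : IsPGroup p P
  nR : R ≤ 𝒩 P
  nC : K ⊓ 𝒞 R ≤ 𝒩 P

theorem min_cent (core : Lead.Fl.Core2.{u} p) {Γ₀ Γ : Type u} [Group Γ₀] [Finite Γ₀] [Group Γ]
    [Finite Γ] {K R P : Subgroup Γ₀} (h : Hy p K R P) (π : Γ₀ →* Γ) (hπ : Function.Surjective π)
    {N : Subgroup Γ} [hN : N.Normal] (h0 : N ≠ ⊥) (hc : IsMulCommutative N)
    (he : ∀ x ∈ N, x ^ p = 1) (hm : ∀ L : Subgroup Γ, L.Normal → L ≤ N → L = ⊥ ∨ L = N) {a : Γ₀}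
    (haP : a ∈ P) (ha : ∀ v ∈ N, Commute (π a) ⁅v, π a⁆) : π a ∈ centralizer (N : Set Γ) := by
  letI : CommGroup N := { (inferInstance : Group N) with mul_comm := hc.is_comm.comm }
  obtain ⟨inst⟩ : Nonempty (Module (ZMod p) (Additive N)) := ⟨AddCommGroup.zmodModule (fun x => by
    apply Additive.toMul.injective
    rw [toMul_nsmul, toMul_zero]
    exact Subtype.ext (he _ x.toMul.2))⟩
  let f : Γ →* MulAut N := MulAut.conjNormal
  let ρ0 : Γ →* Module.End (ZMod p) (Additive N) :=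
    { toFun := fun g => AddMonoidHom.toZModLinearMap p (MonoidHom.toAdditive (f g).toMonoidHom)
      map_one' := LinearMap.ext fun v => by rw [map_one]; rfl
      map_mul' := fun g h => LinearMap.ext fun v => by rw [map_mul]; rfl }
  have hρ : ∀ (g : Γ) (v : Additive N), ((ρ0 g v).toMul : Γ) = g * v.toMul * g⁻¹ := fun g v => rfl
  let ρ : Γ →* LinearMap.GeneralLinearGroup (ZMod p) (Additive N) := ρ0.toHomUnits
  have hρ' : ∀ g : Γ, (ρ g).1 = ρ0 g := fun g => rfl
  by_contra hne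
  have h1 : ρ (π a) ≠ 1 := by
    intro e
    apply hne
    intro v hv
    have := hρ (π a) (Additive.ofMul ⟨v, hv⟩)
    rw [← hρ', e] at this
    change v = π a * v * (π a)⁻¹ at this
    exact eq_mul_inv_iff_mul_eq.1 this
  have hq : ((ρ (π a)).1 - 1) * ((ρ (π a)).1 - 1) = 0 := by
    refine LinearMap.ext fun v => ?_
    rw [hρ', Module.End.mul_apply, LinearMap.sub_apply, Module.End.one_apply,
      LinearMap.zero_apply, sub_eq_zero]
    apply Additive.toMul.injective
    apply Subtype.ext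
    rw [hρ]
    have e : ((((ρ0 (π a) - 1) v).toMul : N) : Γ) = ⁅((v.toMul : N) : Γ), π a⁆⁻¹ := by
      rw [LinearMap.sub_apply, Module.End.one_apply, toMul_sub, div_eq_mul_inv, Subgroup.coe_mul,
        Subgroup.coe_inv, hρ, commutatorElement_inv, commutatorElement_def]
    rw [e, (ha _ v.toMul.2).inv_right.eq, mul_inv_cancel_right]
  have hirr : IsIrreducibleFor ρ.range := by
    constructor
    · obtain ⟨⟨x, hx⟩, hx1⟩ := (ne_bot_iff_exists_ne_one).1 h0
      exact ⟨Additive.ofMul ⟨x, hx⟩, fun e => hx1 (Additive.ofMul.injective e)⟩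
    · intro W hW
      let L : Subgroup Γ := (AddSubgroup.toSubgroup' W.toAddSubgroup).map N.subtype
      have hL : ∀ v : Additive N, ((v.toMul : N) : Γ) ∈ L ↔ v ∈ W := fun v => by
        constructor
        · rintro ⟨w, hw, e⟩
          have : w = v.toMul := Subtype.ext e
          subst this
          exact hw
        · exact fun hv => ⟨v.toMul, hv, rfl⟩
      have hLn : L.Normal := ⟨by
        rintro _ ⟨w, hw, rfl⟩ g
        have := hW (ρ g) ⟨g, rfl⟩ (Additive.ofMul w) hw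
        exact (hL _).2 this⟩
      rcases hm L hLn (map_subtype_le _) with e | e
      · left
        rw [eq_bot_iff]
        intro v hv
        have := (hL v).2 hv
        rw [e, mem_bot] at this
        exact Additive.toMul.injective (Subtype.ext this)
      · right
        rw [eq_top_iff]
        intro v _
        exact (hL v).1 (by rw [e]; exact v.toMul.2)
  haveI := h.nK
  haveI := h.sol
  set σ := ρ.comp π with hσ
  have e : ρ.range = σ.range := by
    rw [hσ, MonoidHom.range_comp, MonoidHom.range_eq_top.2 hπ, MonoidHom.range_eq_map]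
  refine h1 (core (Additive N) σ.range (K.map σ) (R.map σ) (P.map σ) (e ▸ hirr) (map_le_range _ _)
    (by rw [MonoidHom.range_eq_map]; exact H1.le_normalizer_map le_normalizer_of_normal σ)
    (H1.le_normalizer_map le_normalizer_of_normal σ)
    ((h.cop.coprime_dvd_left (card_map_dvd R σ)).coprime_dvd_right (card_map_dvd K σ))
    (h.pR.coprime_dvd_left (card_map_dvd R σ))
    (Group.isSolvable_of_surjective (σ.subgroupMap_surjective R)) (map_mono h.le) (h.pg.map σ)
    (H1.le_normalizer_map h.nR σ) ?_ (σ a) ⟨a, haP, rfl⟩ hq)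
  rw [← H1.map_inf_centralizer_of_coprime σ le_normalizer_of_normal h.cop (Or.inl h.sol)]
  exact H1.le_normalizer_map h.nC σ

theorem nq (core : Lead.Fl.Core2.{u} p) {Γ : Type u} [Group Γ] [Finite Γ] {K R P T : Subgroup Γ}
    (h : Hy p K R P) (hT : IsPGroup p T) : NQ T P := by
  intro g hg U V hUV hU h1
  have := hUV.2.2.1
  have := hUV.2.1
  have hπ := QuotientGroup.mk'_surjective V
  set π := QuotientGroup.mk' V
  have h3 := chief_map_minInv hUV
  have hB := (hT.to_le hU).map π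
  have : (U.map π).Normal := Normal.map inferInstance _ hπ
  haveI : Group.IsNilpotent (U.map π) := hB.isNilpotent
  obtain ⟨N, q, hN, hN0, hNB, hq, hNc, hNe, hNq, hm⟩ :=
    H1.exists_minimal_normal_elementary (U.map π) inferInstance h3.2.1
  have hqp : q = p := by
    obtain ⟨⟨x, hx⟩, hx1⟩ := (ne_bot_iff_exists_ne_one).1 hN0
    have hx1' : x ≠ 1 := fun e => hx1 (Subtype.ext e)
    haveI : Fact q.Prime := ⟨hq⟩
    obtain ⟨k, hk⟩ := hB ⟨x, hNB hx⟩
    have h1 : orderOf x = q := orderOf_eq_prime (hNe x hx) hx1'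
    have h2 : orderOf x ∣ p ^ k := orderOf_dvd_of_pow_eq_one (congrArg Subtype.val hk)
    rw [h1] at h2
    exact (Nat.prime_dvd_prime_iff_eq hq hp.out).1 (hq.dvd_of_dvd_pow h2)
  subst hqp
  have e : N = U.map π := (h3.2.2.2 N hNB le_normalizer_of_normal).resolve_left hN0
  have h4 := min_cent core h π hπ hN0 hNc hNe hm hg (quadratic_zpowers_iff.1 (by
    rw [e, ← MonoidHom.map_zpowers, ← map_commutator, ← map_commutator, Subgroup.map_eq_bot_iff,
      QuotientGroup.ker_mk']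
    exact h1))
  rwa [e, ← zpowers_le, le_centralizer_iff, ← commutator_eq_bot_iff_le_centralizer,
    ← MonoidHom.map_zpowers, ← map_commutator, Subgroup.map_eq_bot_iff,
    QuotientGroup.ker_mk'] at h4

theorem link {X : Type u} [Group X] [Finite X] (G R : Subgroup X) (r : ℕ) [Fact r.Prime] (hR : IsPGroup r ↥R) (hcop : (Nat.card ↥G).Coprime r) (hnorm : R ≤ Subgroup.normalizer (G : Set X)) (hG : G ≠ ⊥) (p : ℕ) [Fact p.Prime] (_hp : 3 < p) (hF : Cfsg.generalizedFittingSubgroup ↥G = Cfsg.pCore p ↥G) (P : Subgroup X) (hP : P = ⨅ S : {S : Sylow p ↥G // ∀ a ∈ R, ((S : Subgroup ↥G).map G.subtype).map (MulAut.conj a).toMonoidHom = (S : Subgroup ↥G).map G.subtype}, ((S : Sylow p ↥G) : Subgroup ↥G).map G.subtype)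
    (core : Lead.Fl.Core2.{u} p) : ∃ C : Subgroup ↥P, C.Characteristic ∧ C ≠ ⊥ ∧ G ≤ Subgroup.normalizer ((C.map P.subtype : Subgroup X) : Set X) := by
  obtain ⟨k, hk⟩ := hR.exists_card_eq
  haveI := hR.isNilpotent
  have hc : (Nat.card R).Coprime (Nat.card G) := hk ▸ hcop.symm.pow_left k
  set T := pCoreOf p G with hT
  have hTp : IsPGroup p T := H11.isPGroup_pCoreOf G
  have hC : G ⊓ 𝒞 T ≤ T := fun x hx => by
    have := H5.centralizer_fstar_le (G := G)
    rw [hF] at this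
    exact ⟨⟨x, hx.1⟩, this fun y hy => Subtype.ext (hx.2 _ ⟨y, hy, rfl⟩), rfl⟩
  have hT0 : T ≠ ⊥ := fun e => hG (eq_bot_iff.2 fun x hx => e.le (hC ⟨hx, by
    rw [e]; simp [mem_centralizer_iff]⟩))
  have hpd : p ∣ Nat.card G := by
    obtain ⟨j, hj⟩ := hTp.exists_card_eq
    refine (dvd_pow_self p fun e => hT0 ?_).trans (hj ▸ card_dvd_of_le (map_subtype_le _))
    rwa [e, pow_zero, card_eq_one] at hj
  obtain ⟨S₀, hS₀⟩ := Cfsg.Agent.S0023.result R G hnorm hc (Or.inl inferInstance) p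
  have hPS : P ≤ (S₀ : Subgroup G).map G.subtype :=
    hP ▸ iInf_le_of_le ⟨S₀, fun a ha => H7.cj_eq_self_iff.2 (hS₀ ha)⟩ le_rfl
  have hPG : P ≤ G := hPS.trans (map_subtype_le _)
  have hPp : IsPGroup p P := (S₀.2.map _).to_le hPS
  have hTP : T ≤ P := hP ▸ le_iInf fun S => map_mono (H1.pCore_le_sylow S.1)
  have hRP : R ≤ 𝒩 P := fun a ha => H7.mem_normalizer_of_finite fun x hx => by
    rw [hP, mem_iInf] at hx ⊢
    exact fun S => (S.2 a ha).le ⟨x, hx S, rfl⟩
  have hCP : G ⊓ 𝒞 R ≤ 𝒩 P := fun c hc' => H7.mem_normalizer_of_finite fun x hx => by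
    rw [hP, mem_iInf] at hx ⊢
    intro S
    have e : (((⟨c, hc'.1⟩⁻¹ : G) • S.1 : Sylow p G) : Subgroup G).map G.subtype =
        ((S.1 : Subgroup G).map G.subtype).map (MulAut.conj c⁻¹).toMonoidHom := by
      rw [Sylow.coe_subgroup_smul, map_map]
      exact map_map _ _ _
    obtain ⟨y, hy, e2⟩ := e.le (hx ⟨(⟨c, hc'.1⟩⁻¹ : G) • S.1, fun a ha => by
      rw [e]
      conv_rhs => rw [← S.2 a ha]
      rw [map_map ((S.1 : Subgroup G).map G.subtype), map_map ((S.1 : Subgroup G).map G.subtype)]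
      congr 1
      ext z
      have := (𝒞 R).inv_mem hc'.2 a ha
      change a * (c⁻¹ * z * c⁻¹⁻¹) * a⁻¹ = c⁻¹ * (a * z * a⁻¹) * c⁻¹⁻¹
      calc _ = (a * c⁻¹) * z * (a * c⁻¹)⁻¹ := by group
        _ = _ := by rw [this]; group⟩)
    rw [← e2]
    change c * (c⁻¹ * y * c⁻¹⁻¹) * c⁻¹ ∈ _
    rwa [show c * (c⁻¹ * y * c⁻¹⁻¹) * c⁻¹ = y by group]
  set Γ := 𝒩 G
  have hGΓ : G ≤ Γ := le_normalizer
  have hcG : ∀ {H : Subgroup X}, H ≤ Γ → Nat.card (H.subgroupOf Γ) = Nat.card H := fun h =>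
    Nat.card_congr (subgroupOfEquivOfLe h).toEquiv
  have hn : ∀ {A B : Subgroup X}, A ≤ 𝒩 B → A.subgroupOf Γ ≤ 𝒩 (B.subgroupOf Γ) := fun h x hx =>
    H7.mem_normalizer_of_finite fun y hy => H7.conj_mem_of_mem_normalizer (x := y.1) (h hx) hy
  have hy : Hy p (G.subgroupOf Γ) (R.subgroupOf Γ) (P.subgroupOf Γ) :=
    ⟨inferInstance, by rw [hcG hnorm, hcG hGΓ]; exact hc,
      by rw [hcG hnorm]; exact hc.coprime_dvd_right hpd,
      Group.isSolvable_of_surjective (f := (subgroupOfEquivOfLe hnorm).symm.toMonoidHom)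
        (subgroupOfEquivOfLe hnorm).symm.surjective,
      comap_mono hPG, hPp.comap_subtype, hn hRP, fun x hx => hn hCP (show x.1 ∈ G ⊓ 𝒞 R from
        ⟨hx.1, fun a ha => congrArg Subtype.val (hx.2 ⟨a, hnorm ha⟩ ha)⟩)⟩
  have hΓT : Γ ≤ 𝒩 T := H11.normalizer_le_normalizer_pCoreOf G
  haveI : (T.subgroupOf Γ).Normal :=
    ⟨fun y hy x => H7.conj_mem_of_mem_normalizer (x := y.1) (hΓT x.2) hy⟩
  have h1 := normal_kinf (K := G.subgroupOf Γ) (T := T.subgroupOf Γ) hTp.comap_subtype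
    (fun x hx => hC (show x.1 ∈ G ⊓ 𝒞 T from ⟨hx.1, fun a ha => congrArg Subtype.val
      (hx.2 ⟨a, hGΓ (map_subtype_le _ ha)⟩ ha)⟩))
    (fun N hN h2 h3 => map_le_iff_le_comap.1 (H11.le_pCoreOf (map_le_iff_le_comap.2 h2)
      (hGΓ.trans (H1.le_normalizer_map_subtype_iff.2 hN)) (h3.map _)))
    hy.pg (comap_mono hTP) hy.le (nq core hy hTp.comap_subtype)
  have h2 := H1.le_normalizer_map_subtype_iff.2 h1
  rw [induced_map_inj isCharPFunctor_kInfLower Γ.subtype_injective hy.pg,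
    map_subgroupOf_eq_of_le (hPG.trans hGΓ)] at h2
  refine ⟨kInfLower P, characteristic_iff_map_eq.2 fun φ =>
    isCharPFunctor_kInfLower.2 P P hPp φ, isCharPFunctor_kInfLower.1 P hPp
    ((nontrivial_iff_ne_bot P).2 fun e => hT0 (eq_bot_iff.2 (hTP.trans e.le))), hGΓ.trans h2⟩

end H12.Link
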