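import Cfsg.Agent.H12.KMain

/-! The K-infinity subgroup of a `p`-subgroup without quadratic action on chief factors. -/

namespace H12.Link

open Subgroup Cfsg H4 H12
open scoped commutatorElement

set_option linter.unusedSectionVars false

variable {G : Type*} [Group G] [Finite G] {p : ℕ} [Fact p.Prime] {T S A B R K : Subgroup G}

/-- no quadratic action on chief factors -/
def NQ (T S : Subgroup G) : Prop := ∀ g ∈ S, ∀ U V, IsChiefFactor U V → U ≤ T →
  ⁅⁅U, zpowers g⁆, zpowers g⁆ ≤ V → ⁅U, zpowers g⁆ ≤ V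

/-- nontrivial action on some chief factor -/
def EC (T S A : Subgroup G) : Prop := ∀ g ∈ S, g ∉ T → ∃ U V, IsChiefFactor U V ∧
  (U ≤ A ⊓ 𝒞 A ∨ (A ⊓ 𝒞 A ≤ V ∧ U ≤ A)) ∧ ¬ ⁅U, zpowers g⁆ ≤ V

theorem ec [K.Normal] (h : Crit p T A) (hC : K ⊓ 𝒞 T ≤ T)
    (hT : ∀ N : Subgroup G, N.Normal → N ≤ K → IsPGroup p N → N ≤ T) (hS : S ≤ K) : EC T S A := by
  intro g hgS hg
  by_contra hn
  push Not at hn
  have := h.normal
  have := h.normalT
  have := chiefKer_normal (fun U V => U ≤ A ⊓ 𝒞 A ∨ (A ⊓ 𝒞 A ≤ V ∧ U ≤ A))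
  refine hg (hT (chiefKer (fun U V => U ≤ A ⊓ 𝒞 A ∨ (A ⊓ 𝒞 A ≤ V ∧ U ≤ A)) ⊓ K) inferInstance
    inf_le_right (H11.isPGroup_of_forall_coprime fun c hc hcp => ?_)
    ⟨mem_chiefKer.2 fun U V hUV h' => ?_, hS hgS⟩)
  · have hA := h.pgrp.to_le h.le
    have h1 : c ∈ 𝒞 (A ⊓ 𝒞 A : Subgroup G) := mem_centralizer_of_chief (M := ⊥) hA.to_inf_left
      bot_le hcp (by simp [mem_centralizer_iff])
      fun U V hUV _ hU => mem_chiefKer.1 hc.1 U V hUV (Or.inl hU)
    have h2 : c ∈ 𝒞 A := mem_centralizer_of_chief hA inf_le_left hcp h1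
      fun U V hUV hV hU => mem_chiefKer.1 hc.1 U V hUV (Or.inr ⟨hV, hU⟩)
    have h3 := H3.mem_centralizer_of_centralizes_selfCentralizing h.pgrp h.le
      le_normalizer_of_normal h.cent (le_normalizer_of_normal (mem_top c)) hcp h2
    exact H11.eq_one_of_mem_of_coprime h.pgrp (hC ⟨hc.2, h3⟩) hcp
  · have := hUV.2.2.1
    exact mem_commSub_iff_zpowers.2 (hn U V hUV h')

theorem mem_of_quadratic (h : Crit p T A) (hE : EC T S A) (hN : NQ T S) {g : G} (hg : g ∈ S)
    (h1 : ⁅⁅A, zpowers g⁆, zpowers g⁆ ≤ A ⊓ 𝒞 A)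
    (h2 : ⁅⁅A ⊓ 𝒞 A, zpowers g⁆, zpowers g⁆ = ⊥) : g ∈ T := by
  by_contra hgT
  obtain ⟨U, V, hUV, h3 | ⟨h3, h4⟩, h5⟩ := hE g hg hgT
  · exact h5 (hN g hg U V hUV (h3.trans (inf_le_left.trans h.le))
      ((commutator_mono (commutator_mono h3 le_rfl) le_rfl).trans (h2.le.trans bot_le)))
  · exact h5 (hN g hg U V hUV (h4.trans h.le)
      ((commutator_mono (commutator_mono h4 le_rfl) le_rfl).trans (h1.trans h3)))

theorem mem_of_quadratic' (h : Crit p T A) (hE : EC T S A) (hN : NQ T S) {g : G} (hg : g ∈ S)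
    (h1 : ⁅⁅A, zpowers g⁆, zpowers g⁆ = ⊥) : g ∈ T :=
  mem_of_quadratic h hE hN hg (h1.le.trans bot_le) (eq_bot_iff.2
    ((commutator_mono (commutator_mono inf_le_left le_rfl) le_rfl).trans h1.le))

theorem le_of_upper (h : Crit p T A) (hE : EC T S A) (hN : NQ T S) (hB : B ∈ kUpperStarFamily R)
    (hA : A ≤ R) (hBS : B ≤ S) : B ≤ T := fun g hg => by
  refine mem_of_quadratic' h hE hN (hBS hg) (eq_bot_iff.2 ?_)
  rw [← comm_center_eq_bot B]
  refine commutator_mono ?_ (zpowers_le.2 hg)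
  rw [commutator_comm]
  exact (commutator_mono (zpowers_le.2 hg) hA).trans hB.2

theorem mem_lower (h : Crit p T A) (hE : EC T S A) (hN : NQ T S) : A ∈ kLowerStarFamily S := by
  have := h.normal
  refine ⟨h.classTwo, le_normalizer_of_normal, fun B hB hBS h1 h2 h3 =>
    (commutator_mono le_rfl fun g hg => ?_).trans h.comm'⟩
  have hz := zpowers_le.2 hg
  refine mem_of_quadratic h hE hN (hBS hg) (le_inf ?_ ?_) (eq_bot_iff.2
    ((commutator_mono (commutator_mono le_rfl hz) hz).trans h3.le))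
  · exact (commutator_mono (commutator_le_left _ _) le_rfl).trans (commutator_le_left _ _)
  · refine le_trans (commutator_mono ((commutator_mono le_rfl hz).trans
      (le_normalizer_iff_commutator_le_right.1 h1)) hz) ?_
    exact le_centralizer_iff.1 (commutator_eq_bot_iff_le_centralizer.1 h2)

theorem le_of_lower (hS : IsPGroup p S) (h : Crit p T A) (hE : EC T S A) (hN : NQ T S)
    (hB : B ∈ kLowerStarFamily R) (hA : A ≤ R) (hBS : B ≤ S) : B ≤ T := by
  have := h.normal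
  have := h.normalT
  have hAB : ⁅A, B⁆ ≤ B := le_normalizer_iff_commutator_le_right.1 (hA.trans hB.2.1)
  have hAB' : ⁅A, B⁆ ≤ A := commutator_le_left _ _
  have hZB : B ⊓ 𝒞 B ≤ T := fun g hg => by
    refine mem_of_quadratic' h hE hN (hBS hg.1) (eq_bot_iff.2 ?_)
    rw [← comm_center_eq_bot B, commutator_comm (B ⊓ _)]
    exact commutator_mono ((commutator_mono le_rfl (zpowers_le.2 hg.1)).trans hAB) (zpowers_le.2 hg)
  set Z := A ⊓ 𝒞 A with hZ
  have hZZ : Z ≤ 𝒞 Z := inf_le_right.trans (centralizer_le inf_le_left)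
  have hBB : ⁅B, B⁆ ≤ B ⊓ 𝒞 B :=
    le_inf (le_normalizer_iff_commutator_le_left.1 le_normalizer) hB.1
  have h1 : ⁅⁅A, B⁆, B⁆ ≤ B ⊓ 𝒞 B := (commutator_mono hAB le_rfl).trans hBB
  have h2 : ⁅Z, B⁆ ≤ B ⊓ 𝒞 B := by
    rw [commutator_comm]
    refine hB.2.2 Z (classTwo_of_le_centralizer hZZ) (inf_le_left.trans hA) le_normalizer_of_normal
      (by rw [commutator_eq_bot_iff_le_centralizer.2 hZZ]; simp) (eq_bot_iff.2 ?_)
    rw [← commutator_eq_bot_iff_le_centralizer.2 hZZ]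
    exact commutator_mono (commutator_le_right _ _) le_rfl
  have h3 : ⁅⁅Z, B⁆, B⁆ = ⊥ :=
    eq_bot_iff.2 ((commutator_mono h2 le_rfl).trans (comm_center_eq_bot B).le)
  have hZp : IsPGroup p Z := (h.pgrp.to_le h.le).to_inf_left
  have hD : B ≤ chiefKer fun U _ => U ≤ Z := fun g hg => mem_chiefKer.2 fun U V hUV hU => by
    have := hUV.2.2.1
    have hz := zpowers_le.2 hg
    exact mem_commSub_iff_zpowers.2 (hN g (hBS hg) U V hUV (hU.trans (inf_le_left.trans h.le))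
      ((commutator_mono (commutator_mono hU hz) hz).trans (h3.le.trans bot_le)))
  intro g hg
  by_contra hgT
  obtain ⟨U, V, hUV, h4, h5⟩ := hE g (hBS hg) hgT
  have hUA : U ≤ A := h4.elim (fun h => h.trans inf_le_left) fun h => h.2
  refine h5 (hN g (hBS hg) U V hUV (hUA.trans h.le) (le_trans (commutator_mono
    (commutator_mono le_rfl (zpowers_le.2 hg)) (zpowers_le.2 hg)) ?_))
  set D := chiefKer fun U _ => U ≤ Z
  have : D.Normal := chiefKer_normal _
  let Z₁ := Z ⊓ 𝒞 B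
  let A₁ := A ⊓ commSub A Z₁
  have hAZ₁ : A ≤ 𝒩 Z₁ := (le_centralizer_iff.1 (inf_le_left.trans inf_le_right)).trans
    (centralizer_le_normalizer _)
  have hA₁ : ⁅A₁, A⁆ ≤ Z₁ := (le_commSub_iff.1 inf_le_right).2
  have hH : ∀ K : Subgroup G, K ≤ 𝒞 Z₁ → K ≤ 𝒩 A₁ := fun K hK k hk =>
    H7.mem_normalizer_of_finite fun x hx => by
      have hxA := h.normal.conj_mem x hx.1 k
      refine ⟨hxA, hAZ₁ hxA, fun a ha => ?_⟩
      have h6 := hx.2.2 _ (h.normal.conj_mem' a ha k)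
      have h7 := hK hk _ h6
      have e : ⁅k * x * k⁻¹, a⁆ = k * ⁅x, k⁻¹ * a * k⁆ * k⁻¹ := by
        simp only [commutatorElement_def]; group
      rwa [e, ← h7, mul_inv_cancel_right]
  have hBA₁ := hH B (le_centralizer_iff.1 inf_le_right)
  have h6 : ⁅B, A₁⁆ ≤ B ⊓ 𝒞 B := by
    refine hB.2.2 A₁ ((commutator_mono le_rfl inf_le_left).trans (hA₁.trans
      (inf_le_left.trans (inf_le_right.trans (centralizer_le inf_le_left))))) (inf_le_left.trans hA)
      hBA₁ ?_ (eq_bot_iff.2 ?_)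
    · rw [commutator_comm, commutator_eq_bot_iff_le_centralizer]
      exact (commutator_mono le_rfl inf_le_left).trans (hA₁.trans inf_le_right)
    · rw [← comm_center_eq_bot A]
      exact commutator_mono ((commutator_mono hZB inf_le_left).trans h.comm) inf_le_left
  obtain ⟨S', hS', hBS'⟩ := exists_sylIn_ge (hS.to_le hBS) hD
  refine quadratic_on_chief (C := D ⊓ 𝒞 Z) (D := D) (A₁ := A₁) hS' inf_le_left
    (le_inf (res_le _) (res_chiefKer_le hZp)) hBS' hUV (h.pgrp.to_le (hUA.trans h.le))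
    (sup_le (hH _ (inf_le_right.trans (centralizer_le inf_le_left))) hBA₁) ?_ ?_
  · have h7 : ⁅⁅A, B⁆, B⁆ ≤ A := (commutator_mono hAB' le_rfl).trans hAB'
    refine (commutator_mono (commutator_mono hUA le_rfl) le_rfl).trans (le_inf h7
      (le_commSub_iff.2 ⟨h7.trans hAZ₁, le_inf ((commutator_mono (h1.trans hZB) le_rfl).trans h.comm)
        ((commutator_mono h1 le_rfl).trans (le_trans ?_ (inf_le_right (a := B))))⟩))
    exact le_normalizer_iff_commutator_le_left.1 (H1.le_normalizer_inf (hA.trans hB.2.1)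
      (H1.le_normalizer_centralizer (hA.trans hB.2.1)))
  · rw [commutator_comm A₁]
    exact eq_bot_iff.2 ((commutator_mono h6 le_rfl).trans (comm_center_eq_bot B).le)

theorem k_le (hS : IsPGroup p S) (hTS : T ≤ S) (h : Crit p T A) (hE : EC T S A) (hN : NQ T S) :
    ∀ n, kE S n ≤ T ∧ kO S (n + 1) ≤ T := by
  have hAS : A ≤ S := h.le.trans hTS
  have step : ∀ n, A ≤ kO S n ∧ A ∈ kLowerStarFamily (kO S n) →
      kE S n ≤ T ∧ kO S (n + 1) ≤ T := by
    rintro n ⟨h1, h2⟩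
    exact ⟨sSup_le fun B hB => le_of_lower hS h hE hN hB.2 h1 hB.1,
      sSup_le fun B hB => le_of_upper h hE hN hB.2 (le_sSup ⟨hAS, h2⟩) hB.1⟩
  have inv : ∀ n, A ≤ kO S n ∧ A ∈ kLowerStarFamily (kO S n) := by
    intro n
    induction n with
    | zero => exact ⟨hAS, mem_lower h hE hN⟩
    | succ n ih =>
      obtain ⟨h1, h2⟩ := step n ih
      exact ⟨le_sSup ⟨hAS, mem_upper_of_commutator_le h.classTwo h.comm' h1⟩,
        mem_lower_of_commutator_le h.classTwo h.comm' h2⟩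
  exact fun n => step n (inv n)

theorem normal_kinf [K.Normal] [T.Normal] (hT : IsPGroup p T) (hC : K ⊓ 𝒞 T ≤ T)
    (hT' : ∀ N : Subgroup G, N.Normal → N ≤ K → IsPGroup p N → N ≤ T) (hS : IsPGroup p S)
    (hTS : T ≤ S) (hSK : S ≤ K) (hN : NQ T S) : (inducedFunctor kInfLower S).Normal := by
  obtain ⟨A, h⟩ := exists_crit T hT
  rw [induced_kInfLower, ← (k_of_le hTS (k_le hS hTS h (ec h hC hT' hSK) hN)).1,
    ← induced_kInfLower]
  exact induced_normal_of_normal isCharPFunctor_kInfLower hT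

end H12.Link
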