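import Cfsg.Agent.Lead.Fv0

/-! The equivariant theorem with a weaker centralizer hypothesis. -/

set_option autoImplicit false
set_option linter.unusedSectionVars false

namespace H12.Link

open Subgroup Cfsg H4 H12 Lead.Fv
open scoped commutatorElement

universe u

section
variable {G : Type*} [Group G] [Finite G] {p : ℕ} [Fact p.Prime] {T S A K : Subgroup G}

theorem ec2 [K.Normal] (h : Crit p T A)
    (hC : ∀ c ∈ K, c ∈ 𝒞 T → (orderOf c).Coprime p → c ∈ 𝒞 K)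
    (hT : ∀ N : Subgroup G, N.Normal → N ≤ K → IsPGroup p N → N ≤ T) (hS : S ≤ K)
    (hSp : IsPGroup p S) : EC T S A := by
  intro g hgS hg
  by_contra hn
  push Not at hn
  have := h.normal
  have := h.normalT
  have := chiefKer_normal (fun U V => U ≤ A ⊓ 𝒞 A ∨ (A ⊓ 𝒞 A ≤ V ∧ U ≤ A))
  set N := chiefKer (fun U V => U ≤ A ⊓ 𝒞 A ∨ (A ⊓ 𝒞 A ≤ V ∧ U ≤ A)) ⊓ K with hN
  have hgN : g ∈ N := ⟨mem_chiefKer.2 fun U V hUV h' => by
    have := hUV.2.2.1
    exact mem_commSub_iff_zpowers.2 (hn U V hUV h'), hS hgS⟩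
  have h0 : res p N ≤ 𝒞 K := res_le_iff.2 fun c hc hcp => by
    have hA := h.pgrp.to_le h.le
    have h1 : c ∈ 𝒞 (A ⊓ 𝒞 A : Subgroup G) := mem_centralizer_of_chief (M := ⊥) hA.to_inf_left
      bot_le hcp (by simp [mem_centralizer_iff])
      fun U V hUV _ hU => mem_chiefKer.1 hc.1 U V hUV (Or.inl hU)
    have h2 : c ∈ 𝒞 A := mem_centralizer_of_chief hA inf_le_left hcp h1
      fun U V hUV hV hU => mem_chiefKer.1 hc.1 U V hUV (Or.inr ⟨hV, hU⟩)
    exact hC c hc.2 (H3.mem_centralizer_of_centralizes_selfCentralizing h.pgrp h.le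
      le_normalizer_of_normal h.cent (le_normalizer_of_normal (mem_top c)) hcp h2) hcp
  obtain ⟨P, hP, hgP⟩ := exists_sylIn_ge (hSp.to_le (zpowers_le.2 hgS)) (zpowers_le.2 hgN)
  have h1 : N ≤ 𝒩 P := by
    conv_lhs => rw [← hP.sup_res]
    exact sup_le (h0.trans ((centralizer_le (hP.le.trans inf_le_right)).trans
      (centralizer_le_normalizer _))) le_normalizer
  refine hg (hT (pCoreOf p N) (normalizer_eq_top_iff.1 (eq_top_iff.2 (le_normalizer_of_normal.trans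
    (H11.normalizer_le_normalizer_pCoreOf N)))) ((map_subtype_le _).trans inf_le_right)
    (H11.isPGroup_pCoreOf N) (H11.le_pCoreOf hP.le h1 hP.pgrp (hgP (mem_zpowers g))))

theorem normal_kinf2 [K.Normal] [T.Normal] (hT : IsPGroup p T)
    (hC : ∀ c ∈ K, c ∈ 𝒞 T → (orderOf c).Coprime p → c ∈ 𝒞 K)
    (hT' : ∀ N : Subgroup G, N.Normal → N ≤ K → IsPGroup p N → N ≤ T) (hS : IsPGroup p S)
    (hTS : T ≤ S) (hSK : S ≤ K) (hN : NQ T S) : (inducedFunctor kInfLower S).Normal := by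
  obtain ⟨A, h⟩ := exists_crit T hT
  rw [induced_kInfLower, ← (k_of_le hTS (k_le hS hTS h (ec2 h hC hT' hSK hS) hN)).1,
    ← induced_kInfLower]
  exact induced_normal_of_normal isCharPFunctor_kInfLower hT

end

variable {X : Type u} [Group X] [Finite X] {p : ℕ} [hp : Fact p.Prime] {G R P Y : Subgroup X}

theorem link2 (core : Lead.Fl.Core2.{u} p) (hn : R ≤ 𝒩 G) (hc : (Nat.card R).Coprime (Nat.card G)) (hs : Group.IsSolvable R) (hP : IsPGroup p P) (hPG : P ≤ G) (hRP : R ≤ 𝒩 P) (hCP : G ⊓ 𝒞 R ≤ 𝒩 P) (hT : pCoreOf p G ≤ P) (hC : res p (G ⊓ 𝒞 (pCoreOf p G)) ≤ 𝒞 G) : G ≤ 𝒩 (inducedFunctor kInfLower P) := by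
  by_cases hP0 : P = ⊥
  · rw [eq_bot_iff.2 ((induced_le kInfLower P).trans hP0.le)]
    exact le_normalizer_of_normal
  have hpd : p ∣ Nat.card G := by
    obtain ⟨j, hj⟩ := hP.exists_card_eq
    refine (dvd_pow_self p fun e => hP0 ?_).trans (hj ▸ card_dvd_of_le hPG)
    rwa [e, pow_zero, card_eq_one] at hj
  set T := pCoreOf p G
  have hTp : IsPGroup p T := H11.isPGroup_pCoreOf G
  set Γ := 𝒩 G
  have hGΓ : G ≤ Γ := le_normalizer
  have hcG : ∀ {H : Subgroup X}, H ≤ Γ → Nat.card (H.subgroupOf Γ) = Nat.card H := fun h =>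
    Nat.card_congr (subgroupOfEquivOfLe h).toEquiv
  have hN : ∀ {A B : Subgroup X}, A ≤ 𝒩 B → A.subgroupOf Γ ≤ 𝒩 (B.subgroupOf Γ) := fun h x hx =>
    H7.mem_normalizer_of_finite fun y hy => H7.conj_mem_of_mem_normalizer (x := y.1) (h hx) hy
  have hy : Hy p (G.subgroupOf Γ) (R.subgroupOf Γ) (P.subgroupOf Γ) :=
    ⟨inferInstance, by rw [hcG hn, hcG hGΓ]; exact hc,
      by rw [hcG hn]; exact hc.coprime_dvd_right hpd,
      Group.isSolvable_of_surjective (f := (subgroupOfEquivOfLe hn).symm.toMonoidHom)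
        (subgroupOfEquivOfLe hn).symm.surjective,
      comap_mono hPG, hP.comap_subtype, hN hRP, fun x hx => hN hCP (show x.1 ∈ G ⊓ 𝒞 R from
        ⟨hx.1, fun a ha => congrArg Subtype.val (hx.2 ⟨a, hn ha⟩ ha)⟩)⟩
  have hΓT : Γ ≤ 𝒩 T := H11.normalizer_le_normalizer_pCoreOf G
  haveI : (T.subgroupOf Γ).Normal :=
    ⟨fun y hy x => H7.conj_mem_of_mem_normalizer (x := y.1) (hΓT x.2) hy⟩
  have h1 := normal_kinf2 (K := G.subgroupOf Γ) (T := T.subgroupOf Γ) hTp.comap_subtype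
    (fun x hx hx2 hxp y hy => Subtype.ext (res_le_iff.1 hC x.1 ⟨hx, fun a ha => congrArg Subtype.val
      (hx2 ⟨a, hGΓ (map_subtype_le _ ha)⟩ ha)⟩ (by rwa [Subgroup.orderOf_coe]) y.1 hy))
    (fun N hN h2 h3 => map_le_iff_le_comap.1 (H11.le_pCoreOf (map_le_iff_le_comap.2 h2)
      (hGΓ.trans (H1.le_normalizer_map_subtype_iff.2 hN)) (h3.map _)))
    hy.pg (comap_mono hT) hy.le (nq core hy hTp.comap_subtype)
  have h2 := H1.le_normalizer_map_subtype_iff.2 h1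
  rw [induced_map_inj isCharPFunctor_kInfLower Γ.subtype_injective hy.pg,
    map_subgroupOf_eq_of_le (hPG.trans hGΓ)] at h2
  exact hGΓ.trans h2

end H12.Link
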