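import Cfsg.Agent.S1559
/-! The trio stabiliser of `M24` is maximal, self-normalising and has trivial centraliser. -/
namespace H12.M24ab
open Cfsg Cfsg.Spor Subgroup H27
open scoped Pointwise

theorem cent_HT {c : MM} (hc : ∀ u ∈ HT, u * c = c * u) : c = 1 := by
  obtain ⟨p, hp, hfix⟩ : ∃ p < 24, ∀ j < 24, (fnL (wordN gTN [0, 0, 0, 1]) j = j ↔ j = p) := by decide +kernel
  set u : MM := (wordG (gTN.map mm) [0, 0, 0, 1]).prod with hu
  have huH : u ∈ HT := wordG_prod_mem gT_mem _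
  have hact : ∀ j < 24, u • GE.e j = GE.e (fnL (wordN gTN [0, 0, 0, 1]) j) := fun j hj =>
    (gT_acts.word _).prod_act hj
  have hlt : ∀ j < 24, fnL (wordN gTN [0, 0, 0, 1]) j < 24 := fun j hj =>
    fnL_lt (fun _ h => (gT_acts.word _).ok h) hj
  have hup : u • GE.e p = GE.e p := by rw [hact p hp, (hfix p hp).2 rfl]
  have hcp : c • GE.e p = GE.e p := by
    have h1 : u • (c • GE.e p) = c • GE.e p := by rw [← mul_smul, hc u huH, mul_smul, hup]
    obtain ⟨j, hj, e⟩ : ∃ j < 24, GE.e j = c • GE.e p := ⟨_, GE.ix_lt _, GE.e_ix _⟩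
    rw [← e, hact j hj, GE.e_eq_iff (hlt j hj) hj] at h1
    rw [← e, (hfix j hj).1 h1]
  have htr : ∀ j < 24, ∃ g ∈ HT, g • GE.e 0 = GE.e j := fun j hj =>
    gT_acts.trans gT_mem (k := 8) (by decide +kernel) hj
  apply MM_faithful
  intro i hi
  obtain ⟨a, ha, ea⟩ := htr p hp
  obtain ⟨b, hb, eb⟩ := htr i hi
  have hm : b * a⁻¹ ∈ HT := HT.mul_mem hb (HT.inv_mem ha)
  have e1 : (b * a⁻¹) • GE.e p = GE.e i := by rw [mul_smul, ← ea, inv_smul_smul, eb]
  rw [← e1, ← mul_smul, ← hc _ hm, mul_smul, hcp]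

theorem m24b {T : Finset (Finset GolayPt)} (hT : T ∈ trios) : IsCoatom (MulAction.stabilizer MM T) ∧
    centralizer (MulAction.stabilizer MM T : Set MM) = ⊥ ∧
    normalizer (MulAction.stabilizer MM T : Set MM) = MulAction.stabilizer MM T := by
  have hco : IsCoatom (MulAction.stabilizer MM T) := by
    obtain ⟨_, _, _, _, _, _, _, _, -, -, -, -, -, h⟩ := Cfsg.Agent.S1559.result T hT
    exact h
  obtain ⟨g, rfl⟩ := exists_smul_eT hT
  have R : CjRel g (MulAction.stabilizer MM (eT 0)) (MulAction.stabilizer MM (g • eT 0)) := CjRel.stab g (eT 0)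
  refine ⟨hco, ?_, ?_⟩
  · rw [eq_bot_iff]
    intro c hc
    rw [mem_centralizer_iff] at hc
    have : g⁻¹ * c * g = 1 := cent_HT fun u hu => by
      have := hc _ ((R u).1 hu)
      calc u * (g⁻¹ * c * g) = g⁻¹ * (g * u * g⁻¹ * c) * g := by group
        _ = g⁻¹ * (c * (g * u * g⁻¹)) * g := by rw [this]
        _ = g⁻¹ * c * g * u := by group
    rw [mem_bot]
    calc c = g * (g⁻¹ * c * g) * g⁻¹ := by group
      _ = 1 := by rw [this]; group
  · by_contra hne
    have hlt : MulAction.stabilizer MM (g • eT 0) < normalizer (MulAction.stabilizer MM (g • eT 0) : Set MM) :=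
      lt_of_le_of_ne le_normalizer (Ne.symm hne)
    have hn : (MulAction.stabilizer MM (g • eT 0)).Normal := normalizer_eq_top_iff.1 (hco.2 _ hlt)
    haveI := simple_MM
    rcases hn.eq_bot_or_eq_top with h | h
    · have h2 := R.card
      rw [h, card_bot, card_stab_eT] at h2
      omega
    · exact hco.1 h

end H12.M24ab
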