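import Cfsg.Agent.H12.RD2
import Cfsg.Agent.S1175

/-! Aschbacher's criterion in the form used for root involutions. -/

set_option autoImplicit false

namespace H12.RD

universe u

theorem zd : ZD.{u} := fun _ _ _ _ M hM z hz hzM h1 h2 h3 => Cfsg.Agent.S1175.result M hM z hz hzM h1 h2 h3

end H12.RD
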