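import Cfsg.Agent.H9.PrimLin

/-! Fixed spaces of elements of prime order: linear algebra. -/

set_option autoImplicit false

namespace H12.Rb
open Module H2

theorem exists_reps {ι : Type*} [DecidableEq ι] [Finite ι] {p : ℕ} (hp : p.Prime) (σ : Equiv.Perm ι)
    (hσ : σ ^ p = 1) (Λ : Finset ι) (hΛ : ∀ i ∈ Λ, σ i ∈ Λ) :
    ∃ R : Finset ι, (∀ i ∈ Λ, ∃ r ∈ R, ∃ k : ℕ, (σ ^ k) r = i) ∧
      p * R.card + (Λ.filter fun i => σ i = i).card ≤
        p * (Λ.filter fun i => σ i = i).card + Λ.card := by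
  classical
  let o : ι → ι := fun i => (Quotient.mk (Equiv.Perm.SameCycle.setoid σ) i).out
  have ho : ∀ i, σ.SameCycle (o i) i := fun i =>
    Quotient.mk_out (s := Equiv.Perm.SameCycle.setoid σ) i
  have ho2 : ∀ i j, σ.SameCycle i j → o i = o j := fun i j h => by
    simp only [o]; rw [Quotient.sound (s := Equiv.Perm.SameCycle.setoid σ) h]
  have hpw : ∀ (k : ℕ), ∀ i ∈ Λ, (σ ^ k) i ∈ Λ := fun k => by
    induction k with
    | zero => simp
    | succ k ih => intro i hi; rw [pow_succ', Equiv.Perm.mul_apply]; exact hΛ _ (ih i hi)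
  let R' := Λ.filter fun i => o i = i ∧ σ i ≠ i
  refine ⟨(Λ.filter fun i => σ i = i) ∪ R', fun i hi => ?_, ?_⟩
  · by_cases h : σ i = i
    · exact ⟨i, Finset.mem_union_left _ (Finset.mem_filter.2 ⟨hi, h⟩), 0, rfl⟩
    · obtain ⟨k, -, hk⟩ := (ho i).exists_pow_eq'
      obtain ⟨l, -, hl⟩ := (ho i).symm.exists_pow_eq'
      refine ⟨o i, Finset.mem_union_right _ (Finset.mem_filter.2 ⟨hl ▸ hpw l i hi,
        ho2 _ _ (ho i), fun e => h ?_⟩), k, hk⟩
      rw [← hk, ← Equiv.Perm.mul_apply, ← pow_succ', pow_succ, Equiv.Perm.mul_apply, e]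
  · have key : ∀ i, σ i ≠ i → ∀ a b : ℕ, a < b → b < p → (σ ^ a) i ≠ (σ ^ b) i := by
      intro i hi a b hab hb e
      obtain ⟨c, rfl⟩ := Nat.exists_eq_add_of_lt hab
      rw [add_assoc, pow_add, Equiv.Perm.mul_apply] at e
      have e1 : (σ ^ (c + 1)) i = i := ((σ ^ a).injective e).symm
      have e2 : (σ ^ p) i = i := by rw [hσ]; rfl
      have h3 : Function.IsPeriodicPt σ (c + 1) i := by
        rw [Function.IsPeriodicPt, Function.IsFixedPt, Equiv.Perm.iterate_eq_pow]; exact e1
      have h4 : Function.IsPeriodicPt σ p i := by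
        rw [Function.IsPeriodicPt, Function.IsFixedPt, Equiv.Perm.iterate_eq_pow]; exact e2
      have h5 := h3.gcd h4
      rw [(Nat.coprime_comm.1 ((Nat.Prime.coprime_iff_not_dvd hp).2
        (Nat.not_dvd_of_pos_of_lt (by omega) (by omega)))).gcd_eq_one] at h5
      exact hi h5
    have h1 : (Finset.range p ×ˢ R').card ≤ (Λ.filter fun i => ¬ σ i = i).card := by
      refine Finset.card_le_card_of_injOn (fun q => (σ ^ q.1) q.2) ?_ ?_
      · rintro ⟨a, i⟩ h
        obtain ⟨-, h2⟩ := Finset.mem_product.1 h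
        obtain ⟨h3, -, h4⟩ := Finset.mem_filter.1 h2
        refine Finset.mem_filter.2 ⟨hpw a i h3, fun e => h4 ((σ ^ a).injective ?_)⟩
        rw [← Equiv.Perm.mul_apply, ← pow_succ, pow_succ', Equiv.Perm.mul_apply, e]
      · rintro ⟨a, i⟩ h ⟨b, j⟩ h' e
        obtain ⟨h1, h2⟩ := Finset.mem_product.1 h
        obtain ⟨h1', h2'⟩ := Finset.mem_product.1 h'
        obtain ⟨-, h3, h4⟩ := Finset.mem_filter.1 h2
        obtain ⟨-, h3', -⟩ := Finset.mem_filter.1 h2'
        have e' : (σ ^ a) i = (σ ^ b) j := e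
        obtain rfl : i = j := by
          refine h3.symm.trans ((ho2 i j ?_).trans h3')
          have a1 : σ.SameCycle i ((σ ^ a) i) := ⟨a, by simp⟩
          have a2 : σ.SameCycle j ((σ ^ b) j) := ⟨b, by simp⟩
          exact a1.trans (e' ▸ a2.symm)
        rcases lt_trichotomy a b with h5 | h5 | h5
        · exact absurd e' (key i h4 a b h5 (Finset.mem_range.1 h1'))
        · rw [h5]
        · exact absurd e'.symm (key i h4 b a h5 (Finset.mem_range.1 h1))
    rw [Finset.card_product, Finset.card_range] at h1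
    have h2 := Finset.card_union_le (Λ.filter fun i => σ i = i) R'
    have h3 := Finset.card_filter_add_card_filter_not (s := Λ) (fun i => σ i = i)
    nlinarith

variable {F M : Type*} [Field F] [AddCommGroup M] [Module F M] [FiniteDimensional F M]

theorem finrank_le_reps {ι : Type*} [Fintype ι] (π : ι → End F M) (σ : Equiv.Perm ι) (T : End F M)
    (hT : ∀ i, T * π i = π (σ i) * T) (Λ R : Finset ι)
    (h0 : ∀ i, i ∉ Λ → π i = 0) (hR : ∀ i ∈ Λ, ∃ r ∈ R, ∃ k : ℕ, (σ ^ k) r = i) {m : ℕ}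
    (hm : ∀ i, finrank F (LinearMap.range (π i)) ≤ m) (K : Submodule F M)
    (hs : ∀ v ∈ K, ∑ i, π i v = v) (hK : ∀ v ∈ K, T v = v) : finrank F K ≤ R.card * m := by
  classical
  let Φ : K →ₗ[F] (∀ r : R, LinearMap.range (π r)) :=
    LinearMap.pi fun r => (π r).rangeRestrict ∘ₗ K.subtype
  have hΦ : Function.Injective Φ := by
    rw [injective_iff_map_eq_zero]
    rintro ⟨v, hv⟩ h
    have h1 : ∀ r ∈ R, ∀ k : ℕ, π ((σ ^ k) r) v = 0 := fun r hr k => by
      induction k with
      | zero => exact congrArg Subtype.val (congrFun h ⟨r, hr⟩)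
      | succ k ih =>
        have := LinearMap.congr_fun (hT ((σ ^ k) r)) v
        rw [End.mul_apply, End.mul_apply, ih, hK v hv, map_zero] at this
        rw [pow_succ', Equiv.Perm.mul_apply, ← this]
    refine Subtype.ext ((hs v hv).symm.trans (Finset.sum_eq_zero fun i _ => ?_))
    by_cases hi : i ∈ Λ
    · obtain ⟨r, hr, k, rfl⟩ := hR i hi
      exact h1 r hr k
    · rw [h0 i hi]; rfl
  refine (LinearMap.finrank_le_finrank_of_injective hΦ).trans ?_
  rw [finrank_pi_fintype]
  refine (Finset.sum_le_card_nsmul _ _ m fun (r : R) _ => hm (r : ι)).trans ?_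
  simp

/-- action of automorphisms on characters -/
def dAct (K A : Type*) [Group K] [CommGroup A] : MulAut K →* Equiv.Perm (K →* A) where
  toFun α :=
    { toFun := fun l => l.comp α.symm.toMonoidHom
      invFun := fun l => l.comp α.toMonoidHom
      left_inv := fun l => by ext; simp
      right_inv := fun l => by ext; simp }
  map_one' := by ext; rfl
  map_mul' a b := by ext; rfl

theorem dAct_apply {K A : Type*} [Group K] [CommGroup A] (α : MulAut K) (l : K →* A) :
    dAct K A α l = l.comp α.symm.toMonoidHom := rfl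

variable {K : Type*} [Group K]

omit [FiniteDimensional F M] in
theorem wsp_dAct {σ : K →* End F M} {T : End F M} {α : MulAut K}
    (h : ∀ k, T * σ k = σ (α k) * T) {l : K →* Fˣ} {v : M} (hv : v ∈ wsp σ l) :
    T v ∈ wsp σ (dAct K Fˣ α l) := fun k => by
  have := LinearMap.congr_fun (h (α.symm k)) v
  rw [End.mul_apply, End.mul_apply, MulEquiv.apply_symm_apply, hv, map_smul] at this
  exact this.symm

theorem finrank_wsp_le {σ : K →* End F M} {T : End F M} {α : MulAut K}
    (h : ∀ k, T * σ k = σ (α k) * T) (hi : Function.Injective T) (l : K →* Fˣ) :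
    finrank F (wsp σ l) ≤ finrank F (wsp σ (dAct K Fˣ α l)) :=
  LinearMap.finrank_le_finrank_of_injective (f := T.restrict fun v hv => wsp_dAct h hv)
    fun a b e => Subtype.ext (hi (congrArg Subtype.val e))

variable [IsAlgClosed F] [Finite K]

theorem finrank_eq_mul (σ : K →* End F M) (hK : (Nat.card K : F) ≠ 0) (hc : commutator K ≤ σ.ker)
    {m : ℕ} (hm : ∀ l, wsp σ l ≠ ⊥ → finrank F (wsp σ l) = m) :
    finrank F M = m * Nat.card {l : K →* Fˣ // wsp σ l ≠ ⊥} := by
  classical
  have := Fintype.ofFinite K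
  have := finite_weights hK
  have := Fintype.ofFinite (K →* Fˣ)
  have h1 := sum_finrank_wsp σ (by rwa [← Nat.card_eq_fintype_card])
  rw [fix_eq_top_iff.2 hc, finrank_top] at h1
  rw [← h1, Nat.card_eq_fintype_card, Fintype.card_subtype, Finset.card_filter, Finset.mul_sum]
  refine Finset.sum_congr rfl fun l _ => ?_
  split_ifs with h
  · rw [hm l h, mul_one]
  · rw [not_not.1 h, finrank_bot, mul_zero]

theorem wt_count (σ : K →* End F M) (hK : (Nat.card K : F) ≠ 0) (hc : commutator K ≤ σ.ker)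
    {T : End F M} {α : MulAut K} (h : ∀ k, T * σ k = σ (α k) * T) (hi : Function.Injective T)
    {p : ℕ} (hp : p.Prime) (hα : α ^ p = 1) {m : ℕ}
    (hm : ∀ l, finrank F (wsp σ l) ≤ m) (X : Submodule F M) (hX : ∀ v ∈ X, T v = v) :
    p * finrank F X + m * Nat.card {l : K →* Fˣ // wsp σ l ≠ ⊥ ∧ dAct K Fˣ α l = l} ≤
      m * (p * Nat.card {l : K →* Fˣ // wsp σ l ≠ ⊥ ∧ dAct K Fˣ α l = l} +
        Nat.card {l : K →* Fˣ // wsp σ l ≠ ⊥}) := by
  classical
  have := Fintype.ofFinite K
  have := finite_weights hK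
  have := Fintype.ofFinite (K →* Fˣ)
  have hK' : (Fintype.card K : F) ≠ 0 := by rwa [← Nat.card_eq_fintype_card]
  obtain ⟨R, h1, h2⟩ := exists_reps hp (dAct K Fˣ α) (by rw [← map_pow, hα, map_one])
    (Finset.univ.filter fun l => wsp σ l ≠ ⊥) fun l hl => by
      refine Finset.mem_filter.2 ⟨Finset.mem_univ _, fun e => (Finset.mem_filter.1 hl).2 ?_⟩
      have := finrank_wsp_le h hi l
      rw [e, finrank_bot] at this
      exact Submodule.finrank_eq_zero.1 (Nat.le_zero.1 this)
  have h3 := finrank_le_reps (wp σ) (dAct K Fˣ α) T (fun l => conj_wp σ α h l) _ R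
    (fun l hl => by
      rw [← LinearMap.range_eq_bot, range_wp σ hK']
      simpa using hl) h1 (m := m) (fun l => by rw [range_wp σ hK']; exact hm l) X
    (fun v _ => sum_wp_apply σ hK' (by rw [fix_eq_top_iff.2 hc]; trivial)) hX
  rw [Finset.filter_filter] at h2
  simp only [Nat.card_eq_fintype_card, Fintype.card_subtype]
  nlinarith

end H12.Rb
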