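import Mathlib

/-! Set-up for the 3-local recognition of the symmetric group of degree 8. -/

set_option autoImplicit false
open Subgroup Equiv

namespace H12S

abbrev L1 := Perm (Fin 3) × Perm (Fin 5)
abbrev A5 := alternatingGroup (Fin 5)
def z0 : L1 := (swap 0 1 * swap 1 2, 1)
def u0 : L1 := (swap 0 1, 1)
def d0 : L1 := (1, swap 0 1 * swap 1 2)
def r0 : L1 := (1, swap 0 1)
def t0 : L1 := (1, swap 3 4)
def q0 : L1 := (1, swap 0 1 * swap 3 4)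
def v0 : L1 := (1, swap 0 3 * swap 1 4)
def v1 : L1 := (1, swap 0 1 * swap 2 3)
def w1 : L1 := (1, swap 0 2 * swap 1 3)
def c3 : A5 := ⟨swap 0 1 * swap 1 2, Perm.mem_alternatingGroup.2 (by decide)⟩
def ia : A5 := ⟨swap 0 1 * swap 3 4, Perm.mem_alternatingGroup.2 (by decide)⟩
def ib : A5 := ⟨swap 0 3 * swap 1 4, Perm.mem_alternatingGroup.2 (by decide)⟩
/-- conjugation by the transposition `(3 4)` -/
def cτ (a : A5) : A5 := ⟨swap 3 4 * (a : Perm (Fin 5)) * swap 3 4, Perm.mem_alternatingGroup.2 (by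
  simp [Perm.mem_alternatingGroup.1 a.2])⟩

variable {G : Type*} [Group G]

structure Hy (ι : L1 →* G) (s : G) : Prop where
  inj : Function.Injective ι
  nz : ι.range = normalizer (zpowers (ι z0) : Set G)
  n27 : ¬ 27 ∣ Nat.card G
  ss : s * s = 1
  sz : s * ι z0 * s = ι d0
  st : s * ι t0 * s = ι t0
  su : s * ι u0 * s = ι r0 ∨ s * ι u0 * s = ι q0
  cy : ∀ g, Commute g (ι (z0 * d0)) → g ∈ ι.range ∨ g * s ∈ ι.range

/-- `C(t) / ⟨t⟩ ≅ S₆` -/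
def S6 (t : G) : Prop := ∃ π : centralizer ({t} : Set G) →* Perm (Fin 6), Function.Surjective π ∧
  ∀ c, π c = 1 ↔ (c : G) = 1 ∨ (c : G) = t

/-- the centraliser of the four-group `⟨v1, w1⟩` lies in `V₁ × L'` -/
def CV (ι : L1 →* G) (s : G) : Prop := ∀ g, Commute g (ι v1) → Commute g (ι w1) →
  ∃ a ∈ [1, v1, w1, v1 * w1], ∃ b : A5, g = ι a * (s * ι (1, b) * s)

def InH (ψ : A5 × A5 →* G) (t s g : G) : Prop :=
  ∃ x, g = ψ x ∨ g = ψ x * t ∨ g = ψ x * s ∨ g = ψ x * (t * s)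

structure Ex (ψ : A5 × A5 →* G) (t s : G) : Prop where
  inj : Function.Injective ψ
  tt : t * t = 1
  ss : s * s = 1
  ts : t * s = s * t
  ta : ∀ a b, t * ψ (a, b) * t = ψ (cτ a, cτ b)
  sa : ∀ a b, s * ψ (a, b) * s = ψ (b, a)
  n27 : ¬ 27 ∣ Nat.card G
  ct : ∀ g, Commute g t → InH ψ t s g
  c1 : ∀ g, g * ψ (c3, 1) * g⁻¹ ∈ zpowers (ψ (c3, 1)) → InH ψ t s g
  cy : ∀ g, Commute g (ψ (c3, c3)) → InH ψ t s g

/-- strongly `3`-embedded -/
def SE (ψ : A5 × A5 →* G) (t s : G) : Prop :=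
  ∀ x y g, orderOf x = 3 → g * ψ x * g⁻¹ = ψ y → InH ψ t s g

structure Ey (ψ : A5 × A5 →* G) : Prop where
  inj : Function.Injective ψ
  n32 : ¬ 32 ∣ Nat.card G
  n27 : ¬ 27 ∣ Nat.card G
  se : ∀ x y g, orderOf x = 3 → g * ψ x * g⁻¹ = ψ y → g ∈ ψ.range

/-- the Sylow `2`-subgroup of `A₅ × A₅` -/
def JJ (ψ : A5 × A5 →* G) : Subgroup G := closure {ψ (ia, 1), ψ (ib, 1), ψ (1, ia), ψ (1, ib)}

namespace Hy
variable {ι : L1 →* G} {s : G} (h : Hy ι s)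
include h
theorem si : s⁻¹ = s := inv_eq_of_mul_eq_one_right h.ss
theorem sd : s * ι d0 * s = ι z0 := by
  rw [← h.sz]
  calc _ = s * s * ι z0 * (s * s) := by group
    _ = _ := by rw [h.ss, one_mul, mul_one]
theorem mem_of [Finite G] {g : G} (e : g * ι z0 * g⁻¹ ∈ zpowers (ι z0)) : g ∈ ι.range := by
  rw [h.nz]
  refine mem_normalizer_fintype ?_
  rintro _ ⟨k, rfl⟩
  simp only [← conj_zpow]
  exact zpow_mem e k
end Hy

namespace Ex
variable {ψ : A5 × A5 →* G} {t s : G} (h : Ex ψ t s)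
include h
theorem tψ (x : A5 × A5) (g : G) : t * (ψ x * g) = ψ (cτ x.1, cτ x.2) * (t * g) := by
  rw [← h.ta, mul_assoc, mul_assoc, ← mul_assoc t t, h.tt, one_mul]
theorem sψ (x : A5 × A5) (g : G) : s * (ψ x * g) = ψ (x.2, x.1) * (s * g) := by
  rw [← h.sa, mul_assoc, mul_assoc, ← mul_assoc s s, h.ss, one_mul]
theorem mul_t {g : G} (a : InH ψ t s g) : InH ψ t s (g * t) := by
  obtain ⟨x, rfl | rfl | rfl | rfl⟩ := a
  · exact ⟨x, by simp⟩
  · exact ⟨x, by simp [mul_assoc, h.tt]⟩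
  · exact ⟨x, by simp [mul_assoc, h.ts]⟩
  · exact ⟨x, by simp [mul_assoc, h.ts, h.tt]⟩
theorem mul_s {g : G} (a : InH ψ t s g) : InH ψ t s (g * s) := by
  obtain ⟨x, rfl | rfl | rfl | rfl⟩ := a
  · exact ⟨x, by simp⟩
  · exact ⟨x, by simp [mul_assoc]⟩
  · exact ⟨x, by simp [mul_assoc, h.ss]⟩
  · exact ⟨x, by simp [mul_assoc, h.ss]⟩
theorem mul_ψ {g : G} (a : InH ψ t s g) (y : A5 × A5) : InH ψ t s (g * ψ y) := by
  obtain ⟨x, rfl | rfl | rfl | rfl⟩ := a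
  · exact ⟨x * y, by simp⟩
  · exact ⟨x * (cτ y.1, cτ y.2), Or.inr (Or.inl (by simpa [mul_assoc] using h.tψ y 1))⟩
  · exact ⟨x * (y.2, y.1), Or.inr (Or.inr (Or.inl (by simpa [mul_assoc] using h.sψ y 1)))⟩
  · refine ⟨x * (cτ y.2, cτ y.1), Or.inr (Or.inr (Or.inr ?_))⟩
    have := h.sψ y 1
    rw [mul_one, mul_one] at this
    rw [map_mul, mul_assoc, mul_assoc, this, h.tψ, mul_assoc]
/-- the subgroup `(A₅ × A₅).2²` -/
def H : Subgroup G where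
  carrier := {g | InH ψ t s g}
  one_mem' := ⟨1, by simp⟩
  mul_mem' := by
    rintro a _ ha ⟨x, rfl | rfl | rfl | rfl⟩
    · exact h.mul_ψ ha x
    · exact mul_assoc a _ _ ▸ h.mul_t (h.mul_ψ ha x)
    · exact mul_assoc a _ _ ▸ h.mul_s (h.mul_ψ ha x)
    · have := h.mul_s (h.mul_t (h.mul_ψ ha x))
      rwa [mul_assoc, mul_assoc] at this
  inv_mem' := by
    have o : InH ψ t s 1 := ⟨1, by simp⟩
    have ti : t⁻¹ = t := inv_eq_of_mul_eq_one_right h.tt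
    have si : s⁻¹ = s := inv_eq_of_mul_eq_one_right h.ss
    rintro _ ⟨x, rfl | rfl | rfl | rfl⟩
    · simpa using h.mul_ψ o x⁻¹
    · simpa [ti] using h.mul_ψ (h.mul_t o) x⁻¹
    · simpa [si] using h.mul_ψ (h.mul_s o) x⁻¹
    · simpa [ti, si, mul_assoc] using h.mul_ψ (h.mul_t (h.mul_s o)) x⁻¹
theorem mem_H {g : G} : g ∈ h.H ↔ InH ψ t s g := Iff.rfl
end Ex

end H12S
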