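import Cfsg.Agent.H12.FF3
import Cfsg.Agent.H12.Qd

/-! Natural submodules for `SL₂(F)` generated by a quadratic vector. -/

set_option autoImplicit false
set_option linter.unusedSectionVars false

open Cfsg Subgroup H10
open H4 (upT loT coe_upT coe_loT sl2_ext sl2_mul_apply)
open scoped commutatorElement MatrixGroups

namespace H12

variable {F : Type*} [Field F]

/-- the Weyl element `w(t)` -/
def wT (t : F) (h : t ≠ 0) : SL(2, F) := ⟨!![0, t; -t⁻¹, 0], by simp [Matrix.det_fin_two, h]⟩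

theorem coe_wT (t : F) (h : t ≠ 0) : (wT t h).1 = !![0, t; -t⁻¹, 0] := rfl

theorem loT_wT (u t : F) (h : t ≠ 0) : loT u * wT t h = wT t h * upT (-(u * t ^ 2)) := by
  apply sl2_ext <;> simp [sl2_mul_apply, coe_upT, coe_loT, coe_wT]
  field_simp

theorem upT_wT (u t : F) (h : t ≠ 0) : upT u * wT t h = wT t h * loT (-(u / t ^ 2)) := by
  apply sl2_ext <;> simp [sl2_mul_apply, coe_upT, coe_loT, coe_wT]
  field_simp

theorem wT_eq (t : F) (h : t ≠ 0) : loT t⁻¹ * (upT (-t) * wT t h) = upT t := by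
  apply sl2_ext <;> simp [sl2_mul_apply, coe_upT, coe_loT, coe_wT, h]

theorem wT_wT {s u s' u' : F} (h1 : s ≠ 0) (h2 : u ≠ 0) (h3 : s' ≠ 0) (h4 : u' ≠ 0)
    (e : s * u' = s' * u) : wT s h1 * wT u h2 = wT s' h3 * wT u' h4 := by
  apply sl2_ext <;> simp [sl2_mul_apply, coe_wT] <;> field_simp <;>
    first | linear_combination e | linear_combination -e

theorem exists_nat_hom {A : Type*} [CommGroup A] (φ : SL(2, F) →* MulAut A) {f : A} (h0 : f ≠ 1)
    (hf : ∀ t, φ (loT t) f = f) (hq : ∀ s t, φ (upT s) (φ (upT t) f * f⁻¹) = φ (upT t) f * f⁻¹)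
    (hz : ∀ a, (∀ t, φ (upT t) a = a) → (∀ t, φ (loT t) a = a) → a = 1) :
    ∃ τ : Multiplicative (Fin 2 → F) →* A, Function.Injective τ ∧
      ∀ (M : SL(2, F)) (v : Fin 2 → F), τ (.ofAdd (M • v)) = φ M (τ (.ofAdd v)) := by
  obtain ⟨α, hα⟩ : ∃ α : F → A, ∀ t, α t = φ (upT t) f * f⁻¹ := ⟨_, fun _ => rfl⟩
  have m : ∀ (M N : SL(2, F)) (a : A), φ M (φ N a) = φ (M * N) a := fun M N a => by
    rw [map_mul]; rfl
  have a0 : ∀ t, φ (upT t) f = α t * f := fun t => by rw [hα, inv_mul_cancel_right]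
  have a1 : ∀ s t, φ (upT s) (α t) = α t := fun s t => by rw [hα, hq]
  have a2 : ∀ s t, α (s + t) = α s * α t := fun s t => by
    rw [hα (s + t), H4.upT_add, ← m, a0 t, map_mul, a1, a0 s, ← mul_assoc, mul_inv_cancel_right, mul_comm]
  have a3 : α 0 = 1 := by simp [hα, H4.upT_zero]
  have a4 : ∀ u t h s, φ (loT u) (φ (wT t h) (α s)) = φ (wT t h) (α s) := fun u t h s => by
    rw [m, loT_wT, ← m, a1]
  have a5 : ∀ t h, α t = φ (wT t h) f := fun t h => by
    have e1 : ∀ s, φ (upT s) (φ (wT t h) f) = φ (wT t h) f := fun s => by rw [m, upT_wT, ← m, hf]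
    have e2 : α t * f = φ (wT t h) (α (-(t⁻¹ * t ^ 2))) * φ (wT t h) f := by
      rw [← a0, ← wT_eq t h, ← m, ← m, e1, m, loT_wT, ← m, a0, map_mul]
    refine eq_of_mul_inv_eq_one (hz _ (fun s => by rw [map_mul, map_inv, a1, e1]) fun s => ?_)
    rw [show α t * (φ (wT t h) f)⁻¹ = φ (wT t h) (α (-(t⁻¹ * t ^ 2))) * f⁻¹ by
      rw [mul_inv_eq_iff_eq_mul, mul_right_comm, ← e2, mul_inv_cancel_right],
      map_mul, map_inv, a4, hf]
  have n1 : (-1 : F) ≠ 0 := neg_ne_zero.2 one_ne_zero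
  let τ : Multiplicative (Fin 2 → F) →* A := MonoidHom.mk'
    (fun v => α (v.toAdd 0) * φ (wT (-1) n1) (α (v.toAdd 1))) fun v w => by
      simp only [toAdd_mul, Pi.add_apply, a2, map_mul, mul_mul_mul_comm]
  have hτ : ∀ v : Fin 2 → F, τ (.ofAdd v) = α (v 0) * φ (wT (-1) n1) (α (v 1)) := fun _ => rfl
  have z : ∀ t, α t = 1 → t = 0 := fun t h => by_contra fun h1 =>
    h0 ((map_eq_one_iff _ (φ _).injective).1 ((a5 t h1).symm.trans h))
  refine ⟨τ, (injective_iff_map_eq_one τ).2 fun v hv => ?_, fun M => ?_⟩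
  · have h1 : α (v.toAdd 0) = (φ (wT (-1) n1) (α (v.toAdd 1)))⁻¹ := eq_inv_of_mul_eq_one_left hv
    have h2 := hz _ (fun s => a1 s _) fun s => by rw [h1, map_inv, a4]
    rw [h2, eq_comm, inv_eq_one, map_eq_one_iff _ (φ _).injective] at h1
    exact Multiplicative.toAdd.injective (by ext k; fin_cases k; exacts [z _ h2, z _ h1])
  let K : Subgroup SL(2, F) :=
    { carrier := {M | ∀ v : Fin 2 → F, τ (.ofAdd (M • v)) = φ M (τ (.ofAdd v))}
      one_mem' := fun v => by rw [one_smul, map_one]; rfl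
      mul_mem' := fun {M N} hM hN v => by rw [mul_smul, hM, hN, m]
      inv_mem' := fun {M} hM v => by
        have := hM (M⁻¹ • v)
        rw [smul_inv_smul] at this
        rw [this, m, inv_mul_cancel, map_one]; rfl }
  refine (H4.sl2_eq_top_of_upT_loT (H := K) (fun c v => ?_) fun c v => ?_).ge (mem_top M)
  · rw [upT_smul, hτ, hτ, map_mul, a1]
    show α (v 0 + c * v 1) * φ _ (α (v 1)) = _
    rw [a2, mul_assoc]
    congr 1
    by_cases h1 : v 1 = 0
    · simp [h1, a3]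
    by_cases h2 : c = 0
    · simp [h2, a3, H4.upT_zero]
    have h3 : c * v 1 ^ 2 ≠ 0 := mul_ne_zero h2 (pow_ne_zero _ h1)
    have e : upT c * (wT (-1) n1 * wT (v 1) h1) = wT (-1) n1 * wT (v 1) h1 * upT (c * v 1 ^ 2) := by
      rw [← mul_assoc, upT_wT, mul_assoc, loT_wT, mul_assoc]; simp
    rw [a5 _ h1, m, m, e, ← m _ (upT _), a0, map_mul (φ _), a5 _ h3,
      a5 _ (mul_ne_zero h2 h1), m]
    congr 2
    congr 1
    apply sl2_ext <;> simp [sl2_mul_apply, coe_wT] <;> field_simp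
  · rw [loT_smul, hτ, hτ, map_mul, a4]
    show α (v 0) * φ _ (α (c * v 0 + v 1)) = _
    rw [a2, map_mul, ← mul_assoc]
    congr 1
    by_cases h1 : v 0 = 0
    · simp [h1, a3]
    by_cases h2 : c = 0
    · simp [h2, a3, H4.loT_zero]
    have h3 : -(c * v 0 ^ 2) ≠ 0 := neg_ne_zero.2 (mul_ne_zero h2 (pow_ne_zero _ h1))
    rw [a5 _ h1, m, loT_wT, ← m, a0, map_mul, a5 _ h3, a5 _ (mul_ne_zero h2 h1), m, m, mul_comm,
      wT_wT n1 (mul_ne_zero h2 h1) h1 h3 (by ring)]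

end H12
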