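import Cfsg.Agent.H16.Misc
import Cfsg.Agent.H2.BG34
import Cfsg.Agent.H2.FrobCompl
import Cfsg.Agent.H3.Transfer2
import Cfsg.Agent.H7.PGrp
import Cfsg.Agent.H25.Zsig
import Cfsg.Agent.H25.ConjRep
import Cfsg.Agent.H26.Gen1
import Cfsg.Agent.H17.T3b
import Cfsg.Agent.S0205

/-! Linear groups of odd degree containing Zsigmondy elements (for triply transitive groups). -/

set_option autoImplicit false

namespace H12.T3

open Subgroup Cfsg H16
open scoped commutatorElement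

universe u

theorem simple_cases {S : Type u} [Group S] [Finite S] (hs : IsSimpleGroup S)
    (h : Odd (Nat.card S) ∨ ¬ 3 ∣ Nat.card S) : IsMulCommutative S ∨
      ∃ (F : Type) (_ : Field F) (_ : Fintype F) (m : ℕ), Nonempty (H26.SzModel S F m) := by
  by_cases hc : IsMulCommutative S
  · exact Or.inl hc
  rcases h with h | h
  · exact absurd ⟨⟨IsSimpleGroup.comm_iff_isSolvable.2 (Cfsg.Agent.S0205.result h)⟩⟩ hc
  · exact Or.inr (H17.T3.exists_model (H17.T3.isoSuzuki hs hc h))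

variable {G : Type u} [Group G] [Finite G]

theorem pow_comm' {U : Subgroup G} (hc : IsMulCommutative U) {p d : ℕ} (hp : p.Prime)
    (hUp : ∀ u ∈ U, u ^ p = 1) (hcard : Nat.card U = p ^ d) (h0 : U ≠ ⊥) {x h : G}
    (hx : x ∈ N[U]) (hh : h ∈ N[U]) (hirr : ∀ L ≤ U, x ∈ N[L] → L = ⊥ ∨ L = U)
    (hhx : h ∈ N[zpowers x]) : (x * h ^ d)⁻¹ * (h ^ d * x) ∈ C[U] := by
  have := Fact.mk hp
  have hn : (U.subgroupOf N[U]).Normal := normal_subgroupOf_of_le_normalizer le_rfl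
  have e := subgroupOfEquivOfLe (le_norm U)
  have hc' : IsMulCommutative (U.subgroupOf N[U]) :=
    ⟨⟨fun a b => Subtype.ext (Subtype.ext (mem_cent.1 (comm_iff.1 hc b.2) _ a.2))⟩⟩
  have hz : ∀ n : N[U], n ∈ zpowers (⟨x, hx⟩ : N[U]) ↔ (n : G) ∈ zpowers x := by
    intro n
    constructor
    · rintro ⟨k, rfl⟩; exact ⟨k, rfl⟩
    · rintro ⟨k, hk⟩; exact ⟨k, Subtype.ext hk⟩
  have key := H25.pow_comm_of_irr_amb (N := U.subgroupOf N[U]) (p := p) (d := d)
    (fun n hn => Subtype.ext (hUp _ hn)) (by rw [Nat.card_congr e.toEquiv, hcard])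
    (fun h => h0 (by
      rw [eq_bot_iff]; intro u hu
      have : (⟨u, le_norm U hu⟩ : N[U]) ∈ U.subgroupOf N[U] := hu
      rw [h, mem_bot] at this
      exact congrArg Subtype.val this))
    (zpowers (⟨x, hx⟩ : N[U])) (fun L hL hT => ?_) (h := ⟨h, hh⟩) ?_ (mem_zpowers _)
  · rw [mem_cent]
    intro u hu
    exact congrArg Subtype.val (key ⟨u, le_norm U hu⟩ hu)
  · have h1 : L.map N[U].subtype ≤ U := by rintro _ ⟨y, hy, rfl⟩; exact hL hy
    have h2 : x ∈ N[L.map N[U].subtype] := by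
      refine mem_norm_of_cj_le (cj_le_forall.2 ?_)
      rintro _ ⟨y, hy, rfl⟩
      exact ⟨_, conj_mem (hT (mem_zpowers _)) hy, rfl⟩
    rcases hirr _ h1 h2 with h3 | h3
    · exact Or.inl ((map_eq_bot_iff_of_injective _ (subtype_injective _)).1 h3)
    · refine Or.inr (le_antisymm hL fun y hy => ?_)
      have : (y : G) ∈ L.map N[U].subtype := h3.symm ▸ hy
      obtain ⟨z, hz, hz'⟩ := this
      exact (Subtype.ext hz' : z = y) ▸ hz
  · rw [mem_normalizer_iff]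
    intro n
    rw [hz, hz]
    exact mem_normalizer_iff.1 hhx n

/-- `D` acts faithfully on the elementary abelian group `U` of order `p ^ e`, `e > 1` odd, and `l`
is a primitive prime divisor of `p ^ e - 1`. -/
structure Lin (U D : Subgroup G) (p e l : ℕ) : Prop where
  hp : p.Prime
  comm : IsMulCommutative U
  ex : ∀ u ∈ U, u ^ p = 1
  card : Nat.card U = p ^ e
  odd : Odd e
  one_lt : 1 < e
  ppd : H25.Ppd p e l
  norm : D ≤ N[U]
  faith : ∀ g ∈ D, g ∈ C[U] → g = 1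

namespace Lin

variable {U D : Subgroup G} {p e l : ℕ} (h : Lin U D p e l)
include h

theorem hl : l.Prime := h.ppd.1

theorem ne_bot : U ≠ ⊥ := by
  intro h0
  have := h.card
  rw [h0, card_bot] at this
  exact (Nat.one_lt_pow (by have := h.one_lt; omega) h.hp.one_lt).ne this

theorem dvd_iff (k : ℕ) : l ∣ p ^ k - 1 ↔ e ∣ k := by
  rw [H25.dvd_pow_sub_one_iff h.hp.one_le,
    ((H25.ppd_iff h.hp.one_le (by have := h.one_lt; omega)).1 h.ppd).2]

theorem dvd_pred : e ∣ l - 1 := h.ppd.dvd_pred h.hp.one_le (by have := h.one_lt; omega)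

theorem l_ne_p : l ≠ p := by
  intro h1
  have h2 := h.ppd.2.1
  have h3 : l ∣ p ^ e := h1 ▸ dvd_pow_self l (by have := h.one_lt; omega)
  have h4 := (Nat.dvd_sub_iff_right (Nat.one_le_pow _ _ h.hp.pos) h3).1 h2
  exact h.hl.one_lt.ne' (Nat.dvd_one.1 h4)

theorem l_ne_two : l ≠ 2 := by
  intro h1
  have := h.dvd_pred
  rw [h1] at this
  have := Nat.le_of_dvd (by norm_num) this
  have := h.one_lt
  omega

theorem cop_lp : l.Coprime p := (Nat.coprime_primes h.hl h.hp).2 h.l_ne_p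

theorem modEq {x : G} (ho : orderOf x = l) {W : Subgroup G} (hW : x ∈ N[W]) :
    Nat.card W ≡ Nat.card (W ⊓ C1[x] : Subgroup G) [MOD l] := by
  have := Fact.mk h.hl
  rw [← cent_zpowers]
  exact H3.card_modEq_card_inf_centralizer (IsPGroup.of_card (n := 1) (by rw [card_zpowers, ho, pow_one]))
    (zpowers_le.2 hW)

theorem fix {x : G} (hx : x ∈ D) (ho : orderOf x = l) : U ⊓ C1[x] = ⊥ := by
  obtain ⟨c, hc, h1⟩ := pg_card_cases h.hp h.card (inf_le_left : U ⊓ C1[x] ≤ U)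
  have h2 := h.modEq ho (h.norm hx)
  rw [h.card, h1] at h2
  have h3 : l ∣ p ^ e - p ^ c := (Nat.modEq_iff_dvd' (Nat.pow_le_pow_right h.hp.pos hc)).1 h2.symm
  have h4 : p ^ e - p ^ c = p ^ c * (p ^ (e - c) - 1) := by
    rw [Nat.mul_sub, ← pow_add, mul_one, Nat.add_sub_cancel' hc]
  rw [h4] at h3
  have h5 := (h.dvd_iff _).1 ((h.cop_lp.pow_right c).dvd_of_dvd_mul_left h3)
  rcases Nat.eq_zero_or_pos c with h6 | h6
  · rw [← card_eq_one, h1, h6, pow_zero]
  · have h7 : e - c = 0 := Nat.eq_zero_of_dvd_of_lt h5 (by omega)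
    have h8 : U ⊓ C1[x] = U := eq_of_le_of_card inf_le_left (by rw [h1, h.card, show c = e by omega])
    have h9 : x = 1 := h.faith x hx (le_cent1.1 (h8 ▸ inf_le_right))
    rw [h9, orderOf_one] at ho
    exact absurd ho h.hl.one_lt.ne

theorem irr {x : G} (hx : x ∈ D) (ho : orderOf x = l) {W : Subgroup G} (hW : W ≤ U)
    (hn : x ∈ N[W]) : W = ⊥ ∨ W = U := by
  obtain ⟨c, hc, h1⟩ := pg_card_cases h.hp h.card hW
  have h2 := h.modEq ho hn
  have h3 : W ⊓ C1[x] = ⊥ := eq_bot_of_le (h.fix hx ho) (inf_le_inf_right _ hW)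
  rw [h3, card_bot, h1] at h2
  have h4 := (h.dvd_iff _).1 ((Nat.modEq_iff_dvd' (Nat.one_le_pow _ _ h.hp.pos)).1 h2.symm)
  rcases Nat.eq_zero_or_pos c with h6 | h6
  · left; rw [← card_eq_one, h1, h6, pow_zero]
  · right
    exact eq_of_le_of_card hW (by rw [h1, h.card, show c = e from le_antisymm hc (Nat.le_of_dvd h6 h4)])

/-- Elements commuting with a Zsigmondy element act freely. -/
theorem free {x : G} (hx : x ∈ D) (ho : orderOf x = l) {g : G} (hg : g ∈ D) (hc : g ∈ C1[x])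
    {u : G} (hu : u ∈ U) (h1 : u ≠ 1) (hgu : u ∈ C1[g]) : g = 1 := by
  have hn : x ∈ N[(U ⊓ C1[g] : Subgroup G)] :=
    norm_inf (zpowers_le.2 (h.norm hx)) (norm_cent1 (zpowers_le.2 (cent1_comm.1 hc))) (mem_zpowers x)
  rcases h.irr hx ho inf_le_left hn with h2 | h2
  · exact absurd (eq_one_of_mem_bot h2 ⟨hu, hgu⟩) h1
  · exact h.faith g hg (le_cent1.1 (h2 ▸ inf_le_right))

/-- A Zsigmondy element centralises every `l'`-subgroup it normalises. -/
theorem cen {x : G} (hx : x ∈ D) (ho : orderOf x = l) {T : Subgroup G} (hT : T ≤ D)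
    (hn : x ∈ N[T]) (hl : ¬ l ∣ Nat.card T) : T ≤ C1[x] := by
  have := Fact.mk h.hp
  have cx : Nat.card (zpowers x) = l := by rw [card_zpowers, ho]
  have hcop : (Nat.card T).Coprime (Nat.card (zpowers x)) := by
    rw [cx]; exact ((Nat.Prime.coprime_iff_not_dvd h.hl).2 hl).symm
  have hp : ¬ p ∣ Nat.card T := by
    intro hd
    obtain ⟨P, hP, hxP⟩ := sy_inv p (zpowers_le.2 hn) hcop.symm (Or.inl (sol_of_comm (comm_of_cyclic (cyclic_zpowers x))))
    have h1 := H7.inf_centralizer_ne_bot (sy_pg hP) (IsPGroup.of_card h.card)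
      ((hP.1.trans hT).trans h.norm) h.ne_bot
    rcases h.irr hx ho inf_le_left (norm_inf (zpowers_le.2 (h.norm hx)) (norm_cent hxP) (mem_zpowers x))
      with h2 | h2
    · exact h1 h2
    · obtain ⟨y, hy, hy1⟩ := exists_ne_one (sy_ne_bot hP h.hp hd)
      have h3 : U ≤ C[P] := h2 ▸ inf_le_right
      exact hy1 (h.faith y (hT (hP.1 hy)) (cent_symm h3 hy))
  by_cases hc : ⁅T, zpowers x⁆ ≤ C[U]
  · rw [← cent_zpowers, ← comm_eq_bot, eq_bot_iff]
    intro y hy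
    exact h.faith y (comm_le hT (zpowers_le.2 hx) hy) (hc hy)
  · exfalso
    obtain ⟨⟨n, h1⟩, -⟩ := H2.bg3_4_gen (K := T) (R := zpowers x) (V := U) (zpowers_le.2 hn)
      (cx ▸ h.hl) hcop (sol_of_comm h.comm) (hT.trans h.norm) (zpowers_le.2 (h.norm hx))
      (by rw [h.card]; exact ((Nat.Prime.coprime_iff_not_dvd h.hp).2 hp).pow_left e)
      (by rw [h.card, cx]; exact h.cop_lp.symm.pow_left e)
      (by rw [← h.fix hx ho, ← cent_zpowers]) hc
    have h2 := h.dvd_pred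
    rw [← cx, h1, Nat.add_sub_cancel] at h2
    have h3 := (Nat.Coprime.pow_right n ((Nat.coprime_two_right).2 h.odd)).eq_one_of_dvd h2
    have := h.one_lt
    omega

theorem not_inv {x : G} (hx : x ∈ D) (ho : orderOf x = l) {t : G} (ht : t ∈ D) :
    t * x * t⁻¹ ≠ x⁻¹ := by
  intro h1
  have hn : t ∈ N[zpowers x] := by
    rw [← cj_eq_self_iff, ← zpowers_cj, h1, zpowers_inv]
  have h2 := pow_comm' h.comm h.hp h.ex h.card h.ne_bot (h.norm hx) (h.norm ht)
    (fun L hL hn => h.irr hx ho hL hn) hn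
  have h3 := h.faith _ (D.mul_mem (D.inv_mem (D.mul_mem hx (D.pow_mem ht e)))
    (D.mul_mem (D.pow_mem ht e) hx)) h2
  have h4 : ∀ k : ℕ, t ^ (2 * k + 1) * x * (t ^ (2 * k + 1))⁻¹ = x⁻¹ := by
    intro k
    induction k with
    | zero => simpa using h1
    | succ k ih =>
      have h5 : t * x⁻¹ * t⁻¹ = x := by
        rw [show t * x⁻¹ * t⁻¹ = (t * x * t⁻¹)⁻¹ by group, h1, inv_inv]
      calc t ^ (2 * (k + 1) + 1) * x * (t ^ (2 * (k + 1) + 1))⁻¹
          = t * (t * (t ^ (2 * k + 1) * x * (t ^ (2 * k + 1))⁻¹) * t⁻¹) * t⁻¹ := by group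
        _ = x⁻¹ := by rw [ih, h5, h1]
  obtain ⟨k, hk⟩ := h.odd
  have h5 := h4 k
  rw [← hk] at h5
  have h6 : t ^ e * x = x * t ^ e := (inv_mul_eq_one.1 h3).symm
  rw [h6, mul_inv_cancel_right] at h5
  have h7 : x ^ 2 = 1 := by rw [sq]; nth_rewrite 1 [h5]; exact inv_mul_cancel x
  have h8 := orderOf_dvd_of_pow_eq_one h7
  rw [ho] at h8
  exact h.l_ne_two ((Nat.prime_dvd_prime_iff_eq h.hl Nat.prime_two).1 h8)

theorem core_ne_bot (J : Subgroup G) : J ≤ D → l ∣ Nat.card J →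
    (Odd (Nat.card J) ∨ ¬ 3 ∣ Nat.card J) → Op[{l}] J ≠ ⊥ := by
  refine ind_down (C := fun J => J ≤ D → l ∣ Nat.card J →
    (Odd (Nat.card J) ∨ ¬ 3 ∣ Nat.card J) → Op[{l}] J ≠ ⊥) (fun J ih hJ hd ho => ?_) J
  have := Fact.mk h.hl
  have : Nontrivial J := (nontrivial_iff_ne_bot J).2 (ne_bot_of_dvd h.hl hd)
  obtain ⟨K, hK, hs⟩ := H26.exists_simple_quot J
  have hZJ : K.map J.subtype ≤ J := map_subtype_le K
  have hmem : ∀ y : J, (y : G) ∈ K.map J.subtype ↔ y ∈ K := fun y =>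
    mem_map_iff_mem (subtype_injective J)
  have hJZ : J ≤ N[K.map J.subtype] := by
    rw [le_norm_iff]
    rintro a ha _ ⟨y, hy, rfl⟩
    exact (hmem (⟨a, ha⟩ * y * (⟨a, ha⟩ : J)⁻¹)).2 (hK.conj_mem _ hy _)
  by_cases hZ : l ∣ Nat.card (K.map J.subtype)
  · have hlt : K.map J.subtype < J := by
      refine lt_of_le_of_ne hZJ fun he => ?_
      have : K = ⊤ := eq_top_iff.2 fun y _ => (hmem y).1 (he.symm ▸ y.2)
      subst this
      exact not_subsingleton (J ⧸ (⊤ : Subgroup J)) QuotientGroup.subsingleton_quotient_top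
    refine ne_bot_of_le (ih _ hlt (hZJ.trans hJ) hZ ?_) (H15.piCoreOf_le_of_normal _ hZJ hJZ)
    exact ho.imp (fun h1 => h1.of_dvd_nat (card_dvd hZJ)) fun h1 h2 => h1 (h2.trans (card_dvd hZJ))
  obtain ⟨x, hx, hox⟩ := exists_orderOf h.hl hd
  have hc := h.cen (hJ hx) hox (hZJ.trans hJ) (hJZ hx) hZ
  have hxK : (⟨x, hx⟩ : J) ∉ K := fun h1 => hZ (hox ▸ orderOf_dvd_card ((hmem _).2 h1))
  have hx1 : (QuotientGroup.mk' K ⟨x, hx⟩) ≠ 1 := fun h1 => hxK ((QuotientGroup.eq_one_iff _).1 h1)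
  have hq : Nat.card (J ⧸ K) ∣ Nat.card J := card_quotient_dvd_card K
  rcases simple_cases hs (ho.imp (fun h1 => h1.of_dvd_nat hq) fun h1 h2 => h1 (h2.trans hq))
    with hcomm | ⟨F, _, _, m, ⟨M⟩⟩
  · have h1 : zpowers (QuotientGroup.mk' K ⟨x, hx⟩) = ⊤ :=
      (hs.eq_bot_or_eq_top_of_normal _ (normal_of_isMulCommutative _)).resolve_left
        (zpowers_ne_bot' hx1)
    have h2 : J ≤ C1[x] := by
      intro g hg
      obtain ⟨k, hk⟩ : QuotientGroup.mk' K ⟨g, hg⟩ ∈ zpowers (QuotientGroup.mk' K ⟨x, hx⟩) := by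
        rw [h1]; trivial
      have h3 : ((⟨x, hx⟩ : J) ^ k)⁻¹ * ⟨g, hg⟩ ∈ K := by
        rw [← QuotientGroup.eq]; simpa using hk
      have h4 := hc ((hmem _).2 h3)
      have h5 : x ^ k ∈ C1[x] := zpow_mem (cent1_self x) k
      simpa using mul_mem h5 h4
    refine ne_bot_of_le (zpowers_ne_bot' (x := x) fun h1 => hxK ?_) (H15.le_piCoreOf (zpowers_le.2 hx)
      (norm_of_cent (by rwa [cent_zpowers]))
      (pg_iff.2 (IsPGroup.of_card (n := 1) (by rw [card_zpowers, hox, pow_one]))))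
    subst h1; exact K.one_mem
  · have h1 : orderOf (QuotientGroup.mk' K ⟨x, hx⟩) ∣ l := by
      rw [← hox, ← orderOf_mk x hx] ; exact orderOf_map_dvd _ _
    obtain ⟨t, -, ht⟩ := H17.T3.real M hx1 ((h.hl.odd_of_ne_two h.l_ne_two).of_dvd_nat h1)
    obtain ⟨t, rfl⟩ := QuotientGroup.mk'_surjective K t
    have h2 : (⟨x, hx⟩ : J) * (t * ⟨x, hx⟩ * t⁻¹) ∈ K := by
      rw [← QuotientGroup.eq_one_iff]
      change QuotientGroup.mk' K _ = 1
      rw [map_mul, map_mul, map_mul, map_inv, ht, mul_inv_cancel]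
    have h3 : x * (t * x * (t : G)⁻¹) ∈ K.map J.subtype := (hmem _).2 h2
    set z := x * (t * x * (t : G)⁻¹) with hz
    have h4 : Commute x⁻¹ z := (Commute.symm (mem_cent1.1 (hc h3))).inv_left
    have h5 : (t : G) * x * (t : G)⁻¹ = x⁻¹ * z := by rw [hz]; group
    have h6 : z ^ l = 1 := by
      have : (x⁻¹ * z) ^ l = 1 := by rw [← h5, conj_pow, ← hox, pow_orderOf_eq_one]; group
      rwa [h4.mul_pow, inv_pow, ← hox, pow_orderOf_eq_one, inv_one, one_mul, hox] at this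
    have h7 : z = 1 := by
      rw [← orderOf_eq_one_iff]
      exact Nat.eq_one_of_dvd_coprimes ((Nat.Prime.coprime_iff_not_dvd h.hl).2 hZ)
        (orderOf_dvd_of_pow_eq_one h6) (orderOf_dvd_card h3)
    rw [h7, mul_one] at h5
    exact absurd h5 (h.not_inv (hJ hx) hox (hJ t.2))

/-- The key alternative for a subgroup `E` normalised by `D`. -/
theorem alt {E : Subgroup G} (hE : E ≤ D) (hn : D ≤ N[E]) (hd : l ∣ Nat.card D)
    (ho : Odd (Nat.card E) ∨ ¬ 3 ∣ Nat.card E) : ∃ x ∈ D, orderOf x = l ∧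
      (E ≤ C1[x] ∨ ∃ C : Subgroup G, C ≤ C1[x] ∧ ⁅N[E], N[E]⁆ ≤ C) := by
  have := Fact.mk h.hl
  by_cases hl : l ∣ Nat.card E
  · have hP : IsPGroup l (Op[{l}] E) := pg_iff.1 (H15.isPi_piCoreOf _ _)
    have hPD : Op[{l}] E ≤ D := (H15.piCoreOf_le _ _).trans hE
    have hcy : IsCyclic (Op[{l}] E) := by
      refine H2.isCyclic_of_fpf_odd_pgroup h.ne_bot (hPD.trans h.norm) (fun a ha h1 => ?_) hP h.l_ne_two
      obtain ⟨k, hk⟩ := hP.exists_card_eq
      have h2 : l ∣ Nat.card (zpowers a) := by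
        obtain ⟨j, -, hj⟩ := pg_card_cases h.hl hk (zpowers_le.2 ha)
        rw [hj]
        refine dvd_pow_self _ fun h0 => zpowers_ne_bot' h1 ?_
        rw [← card_eq_one, hj, h0, pow_zero]
      obtain ⟨y, hy, hoy⟩ := exists_orderOf h.hl h2
      refine eq_bot_of_le (h.fix (hPD (zpowers_le.2 ha hy)) hoy) (inf_le_inf_left _ ?_)
      rw [← cent_zpowers]
      exact cent_le_cent1 hy
    obtain ⟨k, hk⟩ := hP.exists_card_eq
    obtain ⟨x, hx, hox⟩ := exists_orderOf (H := Op[{l}] E) h.hl (by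
      rw [hk]
      refine dvd_pow_self _ fun h0 => h.core_ne_bot E hE hl ho ?_
      rw [← card_eq_one, hk, h0, pow_zero])
    exact ⟨x, hPD hx, hox, Or.inr ⟨_, cent_le_cent1 hx,
      der_cent_cyclic hcy (H15.norm_le_norm_piCoreOf _ _)⟩⟩
  · obtain ⟨x, hx, hox⟩ := exists_orderOf h.hl hd
    exact ⟨x, hx, hox, Or.inl (h.cen hx hox hE (hn hx) hl)⟩

end Lin

end H12.T3
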