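import Cfsg.Agent.H12.T3a
import Cfsg.Agent.H25.MultNorm
import Cfsg.Agent.H25.Burn2
import Cfsg.Agent.H25.RegCert
import Cfsg.Agent.H25.Fix
import Cfsg.Agent.H25.Basic

/-! Triply transitive groups: elementwise transitivity, Suzuki actions of odd degree, and the
affine case (a point stabiliser has a regular elementary abelian normal subgroup). -/

set_option autoImplicit false

namespace H12.T3

open Subgroup Cfsg H16 MulAction
open scoped commutatorElement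

universe u v

variable {Y : Type u} [Group Y] {Ω : Type v} [MulAction Y Ω]

def R (S : Subgroup Y) (a b c d : Ω) : Prop := ∃ g ∈ S, g • a = a ∧ g • b = b ∧ g • c = d

def K2 (S : Subgroup Y) (Ω : Type v) [MulAction Y Ω] : Prop :=
  ∀ a b c d e : Ω, a ≠ b → c ≠ a → c ≠ b → d ≠ a → d ≠ b → e ≠ a → e ≠ b →
    R S a b c d ∨ R S a b c e ∨ R S a b d e

def T2 (S : Subgroup Y) (Ω : Type v) [MulAction Y Ω] : Prop :=
  ∀ a b c d : Ω, a ≠ b → c ≠ d → ∃ g ∈ S, g • a = c ∧ g • b = d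

def TT (S : Subgroup Y) (Ω : Type v) [MulAction Y Ω] : Prop :=
  ∀ a b c a' b' c' : Ω, a ≠ b → a ≠ c → b ≠ c → a' ≠ b' → a' ≠ c' → b' ≠ c' →
    ∃ g ∈ S, g • a = a' ∧ g • b = b' ∧ g • c = c'

theorem R.symm {S : Subgroup Y} {a b c d : Ω} (h : R S a b c d) : R S a b d c := by
  obtain ⟨g, hg, h1, h2, h3⟩ := h
  exact ⟨g⁻¹, S.inv_mem hg, inv_smul_eq_iff.2 h1.symm, inv_smul_eq_iff.2 h2.symm,
    inv_smul_eq_iff.2 h3.symm⟩

theorem R.trans {S : Subgroup Y} {a b c d e : Ω} (h : R S a b c d) (h' : R S a b d e) :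
    R S a b c e := by
  obtain ⟨g, hg, h1, h2, h3⟩ := h
  obtain ⟨k, hk, k1, k2, k3⟩ := h'
  exact ⟨k * g, S.mul_mem hk hg, by rw [mul_smul, h1, k1], by rw [mul_smul, h2, k2],
    by rw [mul_smul, h3, k3]⟩

theorem R.refl (S : Subgroup Y) (a b c : Ω) : R S a b c c :=
  ⟨1, S.one_mem, one_smul _ _, one_smul _ _, one_smul _ _⟩

theorem R.ne {S : Subgroup Y} {a b c d : Ω} (h : R S a b c d) (h1 : c ≠ a) (h2 : c ≠ b) :
    d ≠ a ∧ d ≠ b := by
  obtain ⟨g, -, e1, e2, rfl⟩ := h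
  exact ⟨fun e => h1 (smul_left_cancel g (e.trans e1.symm)),
    fun e => h2 (smul_left_cancel g (e.trans e2.symm))⟩

theorem R.mono {S T : Subgroup Y} (hST : S ≤ T) {a b c d : Ω} (h : R S a b c d) : R T a b c d :=
  h.imp fun _ hg => ⟨hST hg.1, hg.2⟩

theorem K2.mono {S T : Subgroup Y} (hST : S ≤ T) (h : K2 S Ω) : K2 T Ω :=
  fun a b c d e h1 h2 h3 h4 h5 h6 h7 =>
    (h a b c d e h1 h2 h3 h4 h5 h6 h7).imp (R.mono hST) (Or.imp (R.mono hST) (R.mono hST))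

theorem TT.mono {S T : Subgroup Y} (hST : S ≤ T) (h : TT S Ω) : TT T Ω :=
  fun a b c d e f h1 h2 h3 h4 h5 h6 =>
    (h a b c d e f h1 h2 h3 h4 h5 h6).imp fun _ hg => ⟨hST hg.1, hg.2⟩

theorem TT.k2 {S : Subgroup Y} (h : TT S Ω) : K2 S Ω :=
  fun a b c d _ h1 h2 h3 h4 h5 _ _ =>
    Or.inl (h a b c a b d h1 h2.symm h3.symm h1 h4.symm h5.symm)

theorem t2_iff {S : Subgroup Y} : IsMultiplyPretransitive S Ω 2 ↔ T2 S Ω := by
  rw [is_two_pretransitive_iff]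
  constructor
  · intro h a b c d h1 h2
    obtain ⟨g, hg⟩ := h h1 h2
    exact ⟨g, g.2, hg⟩
  · intro h a b c d h1 h2
    obtain ⟨g, hg, h3⟩ := h a b c d h1 h2
    exact ⟨⟨g, hg⟩, h3⟩

theorem tt_iff {S : Subgroup Y} : IsMultiplyPretransitive S Ω 3 ↔ TT S Ω := by
  rw [H25.three_trans_iff]
  constructor
  · intro h a b c d e f h1 h2 h3 h4 h5 h6
    obtain ⟨g, hg⟩ := h a b c d e f h1 h2 h3 h4 h5 h6
    exact ⟨g, g.2, hg⟩
  · intro h a b c d e f h1 h2 h3 h4 h5 h6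
    obtain ⟨g, hg, h3⟩ := h a b c d e f h1 h2 h3 h4 h5 h6
    exact ⟨⟨g, hg⟩, h3⟩

theorem T2.tt {S : Subgroup Y} (h : T2 S Ω) {a b : Ω} (hab : a ≠ b)
    (hr : ∀ c d, c ≠ a → c ≠ b → d ≠ a → d ≠ b → R S a b c d) : TT S Ω := by
  intro x y z x' y' z' h1 h2 h3 h4 h5 h6
  obtain ⟨g, hg, g1, g2⟩ := h x y a b h1 hab
  obtain ⟨k, hk, k1, k2⟩ := h x' y' a b h4 hab
  obtain ⟨l, hl, l1, l2, l3⟩ := hr (g • z) (k • z')
    (fun e => h2 (smul_left_cancel g (g1.trans e.symm)))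
    (fun e => h3 (smul_left_cancel g (g2.trans e.symm)))
    (fun e => h5 (smul_left_cancel k (k1.trans e.symm)))
    (fun e => h6 (smul_left_cancel k (k2.trans e.symm)))
  refine ⟨k⁻¹ * l * g, S.mul_mem (S.mul_mem (S.inv_mem hk) hl) hg, ?_, ?_, ?_⟩ <;>
    rw [mul_smul, mul_smul, inv_smul_eq_iff]
  · rw [g1, l1, k1]
  · rw [g2, l2, k2]
  · exact l3

theorem T2.k2 {S : Subgroup Y} (h : T2 S Ω) {a b : Ω} (hab : a ≠ b)
    (hr : ∀ c d e, c ≠ a → c ≠ b → d ≠ a → d ≠ b → e ≠ a → e ≠ b →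
      R S a b c d ∨ R S a b c e ∨ R S a b d e) : K2 S Ω := by
  intro x y c d e h1 h2 h3 h4 h5 h6 h7
  obtain ⟨g, hg, rfl, rfl⟩ := h x y a b h1 hab
  have key : ∀ c d, R S (g • x) (g • y) (g • c) (g • d) → R S x y c d := by
    rintro c d ⟨k, hk, k1, k2, k3⟩
    refine ⟨g⁻¹ * k * g, S.mul_mem (S.mul_mem (S.inv_mem hg) hk) hg, ?_, ?_, ?_⟩ <;>
      rw [mul_smul, mul_smul, inv_smul_eq_iff] <;> assumption
  have ne : ∀ {c d : Ω}, c ≠ d → g • c ≠ g • d := fun h e => h (smul_left_cancel g e)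
  exact (hr _ _ _ (ne h2) (ne h3) (ne h4) (ne h5) (ne h6) (ne h7)).imp (key _ _)
    (Or.imp (key _ _) (key _ _))

theorem card_orb (S : Subgroup Y) (x : Ω) (O : Set Ω) (hO : ∀ y, y ∈ O ↔ ∃ g ∈ S, g • x = y) :
    O.ncard * Nat.card (S ⊓ stabilizer Y x : Subgroup Y) = Nat.card S := by
  have h1 : O = orbit S x := by
    ext y
    rw [hO]
    exact ⟨fun ⟨g, hg, e⟩ => ⟨⟨g, hg⟩, e⟩, fun ⟨g, e⟩ => ⟨g, g.2, e⟩⟩
  have h2 : stabilizer S x = (S ⊓ stabilizer Y x).subgroupOf S := by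
    ext g; simp [mem_subgroupOf, Subgroup.smul_def]
  rw [h1, ← H25.ncard_orbit_mul_card_stabilizer (G := S) x, h2,
    Nat.card_congr (subgroupOfEquivOfLe inf_le_left).toEquiv]

theorem ncard_compl_one [Finite Ω] (a : Ω) : ({x | x ≠ a} : Set Ω).ncard + 1 = Nat.card Ω := by
  rw [← Set.ncard_add_ncard_compl {x | x ≠ a}]
  congr 1
  rw [eq_comm, Set.ncard_eq_one]
  exact ⟨a, by ext; simp⟩

theorem ncard_compl_two [Finite Ω] {a b : Ω} (h : a ≠ b) :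
    ({x | x ≠ a ∧ x ≠ b} : Set Ω).ncard + 2 = Nat.card Ω := by
  rw [← Set.ncard_add_ncard_compl {x | x ≠ a ∧ x ≠ b}]
  congr 1
  rw [eq_comm, Set.ncard_eq_two]
  exact ⟨a, b, h, by ext; simp [or_iff_not_imp_left]⟩

theorem exists_third [Finite Ω] (h : 2 < Nat.card Ω) (a b : Ω) : ∃ c, c ≠ a ∧ c ≠ b := by
  by_contra hc
  push Not at hc
  have : (Set.univ : Set Ω) ⊆ {a, b} := fun x _ => by
    by_cases hx : x = a
    · exact Or.inl hx
    · exact Or.inr (hc x hx)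
  have h1 := Set.ncard_le_ncard this
  have h2 := Set.ncard_insert_le a {b}
  rw [Set.ncard_singleton] at h2
  rw [Set.ncard_univ] at h1
  omega

theorem two_of_normal [Finite Y] [Finite Ω] [FaithfulSMul Y Ω] (h3 : IsMultiplyPretransitive Y Ω 3)
    (hd : 3 ∣ Nat.card Ω) (hn : 3 < Nat.card Ω) (N : Subgroup Y) [N.Normal] (hN : N ≠ ⊥) :
    T2 N Ω := by
  rcases H25.jordan_normal 1 hn h3 N hN with h | ⟨-, h1, h2⟩
  · exact t2_iff.1 h
  exfalso
  have h4 : IsMultiplyPretransitive Y Ω 2 := isMultiplyPretransitive_of_le (n := 3) (by omega) hn.le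
  have := isPreprimitive_of_is_two_pretransitive h4
  have := H25.normal_transitive_of_primitive (α := Ω) N hN
  obtain ⟨a⟩ : Nonempty Ω := (Nat.card_pos_iff.1 (by omega)).1
  obtain ⟨x, hx, ho⟩ := exists_orderOf (H := N) Nat.prime_three
    (by rwa [H25.card_eq_of_regular a (h2 a)])
  have h5 := orderOf_dvd_of_pow_eq_one (show x ^ 2 = 1 by rw [sq, h1 x hx])
  rw [ho] at h5
  omega

/-- A primitive action of odd degree of a Suzuki group is doubly transitive. -/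
theorem sz_two {S : Type*} [Group S] {F : Type*} [Field F] [Fintype F] {m : ℕ}
    (M : H26.SzModel S F m) {Δ : Type*} [MulAction S Δ] [Finite Δ] [Nontrivial Δ]
    (hp : IsPreprimitive S Δ) (ho : Odd (Nat.card Δ)) : IsMultiplyPretransitive S Δ 2 := by
  have := M.isSimpleGroup
  obtain ⟨β, hβ⟩ := M.isPGroup_Q.nonempty_fixed_point_of_prime_not_dvd_card Δ
    (fun h => (Nat.not_even_iff_odd.2 ho) (even_iff_two_dvd.2 h))
  have hQ : M.Q ≤ stabilizer S β := fun g hg => hβ ⟨g, hg⟩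
  have hK : IsCoatom (stabilizer S β) := IsPreprimitive.isCoatom_stabilizer_of_isPreprimitive S β
  have hB : stabilizer S β ≤ M.B := by
    intro g hg
    by_contra hgB
    rw [M.mem_B_iff] at hgB
    obtain ⟨a, b, hab⟩ := (M.pt_cases (g • M.inf)).resolve_left hgB
    have ht : ∀ q : M.Pt, ∃ k ∈ stabilizer S β, k • M.inf = q := by
      intro q
      rcases M.pt_cases q with rfl | ⟨x, y, rfl⟩
      · exact ⟨1, one_mem _, one_smul _ _⟩
      · refine ⟨M.u x y * (M.u a b)⁻¹ * g, mul_mem (mul_mem (hQ (M.u_mem_Q _ _))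
          (inv_mem (hQ (M.u_mem_Q _ _)))) hg, ?_⟩
        rw [mul_smul, mul_smul, hab, ← M.u_smul_zero a b, inv_smul_smul, M.u_smul_zero]
    have h1 : M.Q ≤ (stabilizer S β).normalCore := by
      intro x hx h
      obtain ⟨k, hk, hk'⟩ := ht (h • M.inf)
      have h2 : k⁻¹ * h ∈ M.B := by rw [M.mem_B_iff, mul_smul, ← hk', inv_smul_smul]
      have h3 := mul_mem (mul_mem hk (hQ (M.conj_mem_Q h2 hx))) (inv_mem hk)
      have h4 : k * (k⁻¹ * h * x * (k⁻¹ * h)⁻¹) * k⁻¹ = h * x * h⁻¹ := by group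
      rwa [h4] at h3
    rcases (normalCore_normal (stabilizer S β)).eq_bot_or_eq_top with h2 | h2
    · have h3 := M.u_mem_Q 1 0
      have h4 := eq_one_of_mem_bot h2 (h1 h3)
      exact one_ne_zero (M.u_eq_one_iff.1 h4).1
    · exact hK.1 (eq_top_iff.2 (h2 ▸ normalCore_le _))
  have hKB : M.B = stabilizer S β :=
    (hK.le_iff.1 hB).resolve_left fun h => M.w_not_mem_B (h ▸ mem_top _)
  have key : ∀ c d : Δ, c ≠ β → d ≠ β → ∃ k : S, k • β = β ∧ k • c = d := by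
    intro c d hc hd
    obtain ⟨g, rfl⟩ := exists_smul_eq S β c
    obtain ⟨g', rfl⟩ := exists_smul_eq S β d
    have h1 : M.inf ≠ g • M.inf := fun e => hc (mem_stabilizer_iff.1 (hKB ▸ M.mem_B_iff.2 e.symm))
    have h2 : M.inf ≠ g' • M.inf := fun e => hd (mem_stabilizer_iff.1 (hKB ▸ M.mem_B_iff.2 e.symm))
    obtain ⟨k, k1, k2⟩ := is_two_pretransitive_iff.1 M.two_transitive h1 h2
    refine ⟨k, mem_stabilizer_iff.1 (hKB ▸ M.mem_B_iff.2 k1), ?_⟩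
    have h3 : g'⁻¹ * k * g ∈ M.B := by rw [M.mem_B_iff, mul_smul, mul_smul, k2, inv_smul_smul]
    rw [hKB, mem_stabilizer_iff, mul_smul, mul_smul, inv_smul_eq_iff] at h3
    exact h3
  rw [is_two_pretransitive_iff]
  intro a b c d h1 h2
  obtain ⟨g, rfl⟩ := exists_smul_eq S β a
  obtain ⟨g', rfl⟩ := exists_smul_eq S β c
  obtain ⟨k, k1, k2⟩ := key (g⁻¹ • b) (g'⁻¹ • d) (fun e => h1 (inv_smul_eq_iff.1 e).symm)
    (fun e => h2 (inv_smul_eq_iff.1 e).symm)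
  exact ⟨g' * k * g⁻¹, by rw [mul_smul, mul_smul, inv_smul_smul, k1],
    by rw [mul_smul, mul_smul, k2, smul_inv_smul]⟩

/-- `U` is normal in the stabiliser of `α` and regular on the other points. -/
structure Aff (U : Subgroup Y) (α β : Ω) : Prop where
  ne : α ≠ β
  fix : ∀ u ∈ U, u • α = α
  norm : ∀ g : Y, g • α = α → g ∈ N[U]
  tr : ∀ γ, γ ≠ α → ∃ u ∈ U, u • β = γ
  reg : ∀ u ∈ U, u • β = β → u = 1

/-- The Hua type elements interchanging `α` and `β`. -/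
def Mu (U : Subgroup Y) (α β : Ω) (s μ w : Y) : Prop :=
  s⁻¹ * w * s ∈ U ∧ μ • α = β ∧ μ • β = α ∧ ∃ u ∈ U, ∃ u' ∈ U, μ = u * w * u'

namespace Aff

variable {U : Subgroup Y} {α β : Ω} (h : Aff U α β)
include h

theorem inj {u u' : Y} (hu : u ∈ U) (hu' : u' ∈ U) (e : u • β = u' • β) : u = u' := by
  have := h.reg (u'⁻¹ * u) (mul_mem (inv_mem hu') hu) (by rw [mul_smul, e, inv_smul_smul])
  exact (inv_mul_eq_one.1 this).symm

variable {s : Y} (h1 : s • α = β) (h2 : s • β = α)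
include h1 h2

theorem mu_exists {w : Y} (hw : s⁻¹ * w * s ∈ U) (hw1 : w ≠ 1) : ∃ μ, Mu U α β s μ w := by
  have reg' : ∀ w : Y, s⁻¹ * w * s ∈ U → w ≠ 1 → w • α ≠ α := by
    intro w hw hw1 e
    have := h.reg _ hw (by rw [mul_smul, mul_smul, h2, e, inv_smul_eq_iff, h2])
    exact hw1 (by simpa [mul_assoc, inv_mul_eq_one] using this)
  obtain ⟨u, hu, e1⟩ := h.tr _ (reg' w hw hw1)
  obtain ⟨u', hu', e2⟩ := h.tr _ (reg' w⁻¹ (by simpa [mul_assoc] using inv_mem hw) (inv_ne_one.2 hw1))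
  refine ⟨u⁻¹ * w * u', hw, ?_, ?_, _, inv_mem hu, _, hu', rfl⟩
  · rw [mul_smul, mul_smul, h.fix _ hu', inv_smul_eq_iff, e1]
  · rw [mul_smul, mul_smul, e2, smul_inv_smul, h.fix _ (inv_mem hu)]

omit h1 h2 in
theorem mu_unique {μ μ' w : Y} (m : Mu U α β s μ w) (m' : Mu U α β s μ' w) : μ = μ' := by
  obtain ⟨-, a1, a2, u, hu, v, hv, rfl⟩ := m
  obtain ⟨-, b1, b2, u', hu', v', hv', rfl⟩ := m'
  rw [mul_smul, mul_smul, h.fix _ hv, ← eq_inv_smul_iff] at a1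
  rw [mul_smul, mul_smul, h.fix _ hv', ← eq_inv_smul_iff] at b1
  rw [mul_smul, mul_smul, ← eq_inv_smul_iff, h.fix _ (inv_mem hu), ← eq_inv_smul_iff] at a2
  rw [mul_smul, mul_smul, ← eq_inv_smul_iff, h.fix _ (inv_mem hu'), ← eq_inv_smul_iff] at b2
  rw [inv_inj.1 (h.inj (inv_mem hu) (inv_mem hu') (a1.symm.trans b1)),
    h.inj hv hv' (a2.trans b2.symm)]

omit h2 in
theorem mu_conj {μ w d : Y} (m : Mu U α β s μ w) (d1 : d • α = α) (d2 : d • β = β) :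
    Mu U α β s (d * μ * d⁻¹) (d * w * d⁻¹) := by
  obtain ⟨a0, a1, a2, u, hu, v, hv, rfl⟩ := m
  have e1 : d⁻¹ • α = α := inv_smul_eq_iff.2 d1.symm
  have e2 : d⁻¹ • β = β := inv_smul_eq_iff.2 d2.symm
  refine ⟨?_, by rw [mul_smul, mul_smul, e1, a1, d2], by rw [mul_smul, mul_smul, e2, a2, d1],
    _, conj_mem (h.norm d d1) hu, _, conj_mem (h.norm d d1) hv, by group⟩
  have := conj_mem (h.norm (s⁻¹ * d * s) (by rw [mul_smul, mul_smul, h1, d2, inv_smul_eq_iff, h1])) a0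
  convert this using 1
  group

omit h h1 h2 in
theorem mu_inv {μ w : Y} (m : Mu U α β s μ w) : Mu U α β s μ⁻¹ w⁻¹ := by
  obtain ⟨a0, a1, a2, u, hu, v, hv, rfl⟩ := m
  refine ⟨by simpa [mul_assoc] using inv_mem a0, inv_smul_eq_iff.2 a2.symm,
    inv_smul_eq_iff.2 a1.symm, _, inv_mem hv, _, inv_mem hu, by group⟩

theorem mu_rel (h3 : IsMultiplyPretransitive Y Ω 3) {μ w μ' w' : Y} (m : Mu U α β s μ w)
    (m' : Mu U α β s μ' w') : ∃ d : Y, d • α = α ∧ d • β = β ∧ μ' = d * μ * d⁻¹ := by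
  have key : ∀ {μ w : Y}, Mu U α β s μ w → α ≠ w • α ∧ β ≠ w • α := by
    rintro μ w ⟨a0, a1, a2, u, hu, v, hv, rfl⟩
    constructor
    · intro e
      rw [mul_smul, mul_smul, h.fix _ hv, ← e, h.fix _ hu] at a1
      exact h.ne a1
    · intro e
      have := h.fix _ a0
      rw [mul_smul, mul_smul, h1, inv_smul_eq_iff, h1] at this
      exact h.ne (smul_left_cancel w (e.symm.trans this.symm))
  obtain ⟨d, d1, d2, d3⟩ := H25.three_trans_iff.1 h3 α β (w • α) α β (w' • α) h.ne (key m).1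
    (key m).2 h.ne (key m').1 (key m').2
  have m2 := h.mu_conj h1 m d1 d2
  have e : d * w * d⁻¹ = w' := by
    have := h.inj m2.1 m'.1 (by
      simp only [mul_smul, h2]
      rw [inv_smul_eq_iff.2 d1.symm, d3])
    simpa using this
  rw [e] at m2
  exact ⟨d, d1, d2, h.mu_unique m' m2⟩

theorem le_of_der [Finite Y] (h3 : IsMultiplyPretransitive Y Ω 3) {L : Subgroup Y} [hL : L.Normal]
    (hUL : U ≤ L) (hU : U ≠ ⊥) (hmin : ∀ M : Subgroup Y, M.Normal → M ≤ L → M = ⊥ ∨ M = L)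
    {E C : Subgroup Y} (hE : ∀ g, g ∈ E ↔ g ∈ L ∧ g • α = α ∧ g • β = β)
    (hC : ⁅N[E], N[E]⁆ ≤ C) : E ≤ C := by
  have mL : ∀ {μ w : Y}, Mu U α β s μ w → μ ∈ L := by
    rintro μ w ⟨a0, -, -, u, hu, v, hv, rfl⟩
    have := hL.conj_mem _ (hUL a0) s
    exact mul_mem (mul_mem (hUL hu) (by simpa [mul_assoc] using this)) (hUL hv)
  have nE : ∀ g : Y, (g • α = α ∧ g • β = β) ∨ (g • α = β ∧ g • β = α) → g ∈ N[E] := by
    intro g hg
    refine mem_norm_of_cj_le (cj_le_forall.2 fun x hx => ?_)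
    obtain ⟨x1, x2, x3⟩ := (hE x).1 hx
    refine (hE _).2 ⟨hL.conj_mem _ x1 g, ?_⟩
    simp only [mul_smul]
    rcases hg with ⟨g1, g2⟩ | ⟨g1, g2⟩
    · rw [inv_smul_eq_iff.2 g1.symm, inv_smul_eq_iff.2 g2.symm, x2, x3, g1, g2]
      exact ⟨rfl, rfl⟩
    · rw [inv_smul_eq_iff.2 g1.symm, inv_smul_eq_iff.2 g2.symm, x2, x3, g1, g2]
      exact ⟨rfl, rfl⟩
  have key : ∀ {μ w μ' w' : Y}, Mu U α β s μ w → Mu U α β s μ' w' → μ⁻¹ * μ' ∈ E ⊓ C := by
    intro μ w μ' w' m m'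
    refine ⟨(hE _).2 ⟨mul_mem (inv_mem (mL m)) (mL m'), ?_, ?_⟩, ?_⟩
    · rw [mul_smul, m'.2.1, inv_smul_eq_iff, m.2.1]
    · rw [mul_smul, m'.2.2.1, inv_smul_eq_iff, m.2.2.1]
    · obtain ⟨d, d1, d2, rfl⟩ := h.mu_rel h1 h2 h3 m m'
      have := hC (commutator_mem_commutator (inv_mem (nE μ (Or.inr ⟨m.2.1, m.2.2.1⟩)))
        (nE d (Or.inl ⟨d1, d2⟩)))
      simpa [commutatorElement_def, mul_assoc] using this
  obtain ⟨u0, hu0, hu1⟩ := exists_ne_one hU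
  obtain ⟨μ, m⟩ := h.mu_exists h1 h2 (w := s * u0 * s⁻¹) (by simpa [mul_assoc] using hu0)
    (by simpa using hu1)
  have cU : ∀ e ∈ E ⊓ C, ∀ u ∈ U, e⁻¹ * u * e ∈ U := fun e he u hu =>
    conj_mem' (h.norm e ((hE e).1 he.1).2.1) hu
  let S : Set Y := {g | (∃ u ∈ U, ∃ e ∈ E ⊓ C, g = u * e) ∨
    ∃ u ∈ U, ∃ e ∈ E ⊓ C, ∃ u' ∈ U, g = u * μ * e * u'}
  have hS : ∀ g ∈ (U : Set Y) ∪ {μ}, ∀ x ∈ S, g * x ∈ S := by
    rintro g (hg | rfl) x (⟨u, hu, e, he, rfl⟩ | ⟨u, hu, e, he, u', hu', rfl⟩)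
    · exact Or.inl ⟨_, mul_mem hg hu, e, he, by group⟩
    · exact Or.inr ⟨_, mul_mem hg hu, e, he, u', hu', by group⟩
    · exact Or.inr ⟨1, one_mem _, e, he, _, cU e he u hu, by group⟩
    · have k2 : g * g * e ∈ E ⊓ C := mul_mem (by simpa using key (mu_inv m) m) he
      by_cases hu1 : u = 1
      · subst hu1
        refine Or.inl ⟨_, cU _ (inv_mem k2) u' hu', _, k2, by simp [mul_assoc]⟩
      · obtain ⟨ν, n⟩ := h.mu_exists h1 h2 (w := g * u * g⁻¹) (by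
          have := conj_mem (h.norm (s⁻¹ * g) (by rw [mul_smul, m.2.1, inv_smul_eq_iff, h1])) hu
          simpa [mul_assoc] using this) (by simpa using hu1)
        have k1 := key m n
        obtain ⟨-, -, -, a, ha, b, hb, e1⟩ := n
        refine Or.inr ⟨a⁻¹, inv_mem ha, _, mul_mem k1 k2, _,
          mul_mem (cU _ k2 _ (inv_mem hb)) hu', ?_⟩
        rw [e1]
        group
  have hLS : L ≤ closure ((U : Set Y) ∪ {μ}) := by
    have e1 : normalClosure (U : Set Y) = L :=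
      (hmin _ inferInstance (normalClosure_le_normal hUL)).resolve_left
        (ne_bot_of_le hU le_normalClosure)
    rw [← e1, normalClosure, closure_le]
    intro x hx
    obtain ⟨u, hu, hx⟩ := Group.mem_conjugatesOfSet_iff.1 hx
    obtain ⟨g, rfl⟩ := isConj_iff.1 hx
    have hUc : ∀ u ∈ U, u ∈ closure ((U : Set Y) ∪ {μ}) := fun u hu => subset_closure (Or.inl hu)
    by_cases hg : g • α = α
    · exact hUc _ (conj_mem (h.norm g hg) hu)
    · obtain ⟨v, hv, e2⟩ := h.tr _ hg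
      have hμ : μ ∈ closure ((U : Set Y) ∪ {μ}) := subset_closure (Or.inr rfl)
      have e3 := hUc _ (conj_mem (h.norm ((v * μ)⁻¹ * g) (by
        rw [mul_smul, inv_smul_eq_iff, mul_smul, m.2.1, e2])) hu)
      have e4 := mul_mem (mul_mem (mul_mem (hUc _ hv) hμ) e3) (inv_mem (mul_mem (hUc _ hv) hμ))
      rwa [show v * μ * ((v * μ)⁻¹ * g * u * ((v * μ)⁻¹ * g)⁻¹) * (v * μ)⁻¹ = g * u * g⁻¹ by group] at e4
  intro g hg
  obtain ⟨g1, g2, g3⟩ := (hE g).1 hg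
  rcases H25.mem_of_closed_left _ S (Or.inl ⟨1, one_mem _, 1, one_mem _, by simp⟩) hS (hLS g1) with
    ⟨u, hu, e, he, rfl⟩ | ⟨u, hu, e, he, u', hu', rfl⟩
  · rw [mul_smul, ((hE e).1 he.1).2.2] at g3
    rw [h.reg u hu g3, one_mul]
    exact he.2
  · exfalso
    rw [mul_smul, mul_smul, mul_smul, h.fix _ hu', ((hE e).1 he.1).2.1, m.2.1,
      ← eq_inv_smul_iff, h.fix _ (inv_mem hu)] at g2
    exact h.ne g2.symm

omit h1 h2

theorem card_add [Finite Ω] : Nat.card U + 1 = Nat.card Ω := by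
  have h1 := card_orb U β {x | x ≠ α} fun y => ⟨h.tr y, by
    rintro ⟨g, hg, rfl⟩ e
    exact h.ne (smul_left_cancel g ((h.fix g hg).trans e.symm))⟩
  have h2 : U ⊓ stabilizer Y β = ⊥ := eq_bot_iff.2 fun g hg => h.reg g hg.1 hg.2
  rw [h2, card_bot, mul_one] at h1
  rw [← h1, ncard_compl_one]

theorem faith [FaithfulSMul Y Ω] {g : Y} (g1 : g • α = α) (g2 : g • β = β) (hg : g ∈ C[U]) :
    g = 1 := by
  refine FaithfulSMul.eq_of_smul_eq_smul (α := Ω) fun x => ?_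
  rw [one_smul]
  by_cases hx : x = α
  · rw [hx, g1]
  · obtain ⟨u, hu, rfl⟩ := h.tr x hx
    rw [← mul_smul, ← mem_cent.1 hg u hu, mul_smul, g2]

/-- In the affine case only the identity of `L` fixes three points. -/
theorem semireg [Finite Y] [Finite Ω] [FaithfulSMul Y Ω] (h3 : IsMultiplyPretransitive Y Ω 3)
    (hd : 3 ∣ Nat.card Ω) (hn : 3 < Nat.card Ω) (hc : IsMulCommutative U) {p : ℕ} (hp : p.Prime)
    (hex : ∀ u ∈ U, u ^ p = 1) {L : Subgroup Y} [hL : L.Normal] (hUL : U ≤ L)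
    (hmin : ∀ M : Subgroup Y, M.Normal → M ≤ L → M = ⊥ ∨ M = L)
    (ho : Odd (Nat.card (L ⊓ (stabilizer Y α ⊓ stabilizer Y β) : Subgroup Y)) ∨
      ¬ 3 ∣ Nat.card (L ⊓ (stabilizer Y α ⊓ stabilizer Y β) : Subgroup Y))
    {g : Y} (hg : g ∈ L) (g1 : g • α = α) (g2 : g • β = β) {γ : Ω} (c1 : γ ≠ α) (c2 : γ ≠ β)
    (g3 : g • γ = γ) : g = 1 := by
  have := Fact.mk hp
  obtain ⟨e, he⟩ := IsPGroup.exists_card_eq
    (show IsPGroup p U from fun u => ⟨1, Subtype.ext (by simpa using hex u u.2)⟩)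
  have hcard := h.card_add
  rw [he] at hcard
  have hodd : Odd e := by
    rw [← Nat.not_even_iff_odd]
    rintro ⟨k, rfl⟩
    rw [pow_add] at hcard
    generalize p ^ k = t at hcard
    rw [← hcard] at hd
    have : t % 3 = 0 ∨ t % 3 = 1 ∨ t % 3 = 2 := by omega
    rcases this with h | h | h <;> simp [Nat.dvd_iff_mod_eq_zero, Nat.add_mod, Nat.mul_mod, h] at hd
  obtain ⟨u, hu, rfl⟩ := h.tr γ c1
  have hu1 : u ≠ 1 := by rintro rfl; exact c2 (one_smul _ _)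
  have hgu : u ∈ C1[g] := by
    have := h.inj (conj_mem (h.norm g g1) hu) hu (by
      rw [mul_smul, mul_smul, inv_smul_eq_iff.2 g2.symm, g3])
    rw [mem_cent1]
    exact (mul_inv_eq_iff_eq_mul.1 this).symm
  by_cases he1 : e = 1
  · refine h.faith g1 g2 ?_
    rw [← cent1_eq_of_prime (by rw [he, he1, pow_one]; exact hp) hu hu1]
    exact cent1_comm.1 hgu
  have he2 : 1 < e := by obtain ⟨k, rfl⟩ := hodd; omega
  obtain ⟨l, hl⟩ := H25.zsigmondy hp.two_le he2 (by rintro ⟨-, rfl⟩; exact absurd hodd (by decide))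
    (by rintro ⟨rfl, -⟩; exact absurd hodd (by decide))
  have hLin : Lin U (stabilizer Y α ⊓ stabilizer Y β) p e l :=
    ⟨hp, hc, hex, he, hodd, he2, hl, fun d hd => h.norm d hd.1, fun d hd => h.faith hd.1 hd.2⟩
  have hlD : l ∣ Nat.card (stabilizer Y α ⊓ stabilizer Y β : Subgroup Y) := by
    have h1 := card_orb (stabilizer Y α ⊓ stabilizer Y β) (u • β) {x | x ≠ α ∧ x ≠ β} fun y => by
      constructor
      · rintro ⟨y1, y2⟩
        obtain ⟨d, d1, d2, d3⟩ := H25.three_trans_iff.1 h3 α β _ α β y h.ne c1.symm c2.symm h.ne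
          y1.symm y2.symm
        exact ⟨d, ⟨d1, d2⟩, d3⟩
      · rintro ⟨d, ⟨d1, d2⟩, rfl⟩
        exact R.ne (S := ⊤) ⟨d, trivial, d1, d2, rfl⟩ c1 c2
    have h2 := ncard_compl_two h.ne
    rw [← h1]
    refine Dvd.dvd.mul_right ?_ _
    rw [show ({x | x ≠ α ∧ x ≠ β} : Set Ω).ncard = p ^ e - 1 by omega]
    exact hl.2.1
  obtain ⟨x, hx, hox, h4⟩ := hLin.alt (E := L ⊓ (stabilizer Y α ⊓ stabilizer Y β)) inf_le_right
    (norm_inf (by rw [normalizer_eq_top]; exact le_top) (le_norm _)) hlD ho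
  have h5 : L ⊓ (stabilizer Y α ⊓ stabilizer Y β) ≤ C1[x] := by
    rcases h4 with h4 | ⟨C, hC, h4⟩
    · exact h4
    · obtain ⟨s, s1, s2, -⟩ := H25.three_trans_iff.1 h3 α β _ β α _ h.ne c1.symm c2.symm h.ne.symm
        c2.symm c1.symm
      exact (h.le_of_der s1 s2 h3 hUL (ne_bot_of_mem hu hu1) hmin (fun _ => Iff.rfl) h4).trans hC
  exact hLin.free hx hox ⟨g1, g2⟩ (h5 ⟨hg, g1, g2⟩) hu hu1 hgu

end Aff

end H12.T3
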