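import Cfsg.Agent.H12.T3b
import Cfsg.Agent.H26.ZS16
import Cfsg.Agent.H4.Dk1
import Cfsg.Agent.H25.MinNormal
import Cfsg.Agent.H25.Galois

/-! Triply transitive groups of even degree divisible by three: normal subgroups whose point
stabilisers have no elements of order `r ∈ {2, 3}`. -/

set_option autoImplicit false

namespace H12.T3

open Subgroup Cfsg H16 MulAction SubMulAction
open scoped commutatorElement MatrixGroups

universe u v

variable {Y : Type u} [Group Y] {Ω : Type v} [MulAction Y Ω] [Finite Y] [Finite Ω]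

theorem sz_not_three {S : Type*} [Group S] {F : Type*} [Field F] [Fintype F] {m : ℕ}
    (M : H26.SzModel S F m) : ¬ 3 ∣ Nat.card S := by
  have e : 2 ^ (2 * m + 1) % 3 = 2 := by simp [pow_succ, pow_mul, Nat.mul_mod, Nat.pow_mod]
  rw [M.card_G, M.hF]
  generalize 2 ^ (2 * m + 1) = q at e
  have e2 : q ^ 2 % 3 = 1 := by simp [Nat.pow_mod, e]
  simp only [Nat.prime_three.dvd_mul]
  omega

omit [Finite Y] in
theorem T2.card {L : Subgroup Y} (h : T2 L Ω) {a b : Ω} (hab : a ≠ b) :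
    Nat.card L = Nat.card Ω * ((Nat.card Ω - 1) *
      Nat.card (L ⊓ stabilizer Y a ⊓ stabilizer Y b : Subgroup Y)) := by
  have h1 := card_orb L a Set.univ fun y => by
    refine ⟨fun _ => ?_, fun _ => trivial⟩
    by_cases hy : y = b
    · obtain ⟨g, hg, e, -⟩ := h a b b a hab hab.symm
      exact ⟨g, hg, hy ▸ e⟩
    · obtain ⟨g, hg, e, -⟩ := h a b y b hab hy
      exact ⟨g, hg, e⟩
  have h2 := card_orb (L ⊓ stabilizer Y a) b {x | x ≠ a} fun y => by
    constructor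
    · intro hy
      obtain ⟨g, hg, e1, e2⟩ := h a b a y hab (Ne.symm hy)
      exact ⟨g, ⟨hg, e1⟩, e2⟩
    · rintro ⟨g, ⟨-, e1⟩, rfl⟩ e
      exact hab (smul_left_cancel g (e1.trans e.symm))
  have h3 := ncard_compl_one a
  rw [← h1, ← h2, Set.ncard_univ, show ({x | x ≠ a} : Set Ω).ncard = Nat.card Ω - 1 by omega]

theorem k2_of_card {L : Subgroup Y} {a b : Ω} (hab : a ≠ b)
    (h3 : ∀ g ∈ L, ∀ c, c ≠ a → c ≠ b → g • a = a → g • b = b → g • c = c → g = 1)
    (hc : Nat.card Ω ≤ 2 * Nat.card (L ⊓ stabilizer Y a ⊓ stabilizer Y b : Subgroup Y) + 2)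
    (c d e : Ω) (c1 : c ≠ a) (c2 : c ≠ b) (d1 : d ≠ a) (d2 : d ≠ b) (e1 : e ≠ a) (e2 : e ≠ b) :
    R L a b c d ∨ R L a b c e ∨ R L a b d e := by
  by_contra hn
  push Not at hn
  obtain ⟨n1, n2, n3⟩ := hn
  set E := L ⊓ stabilizer Y a ⊓ stabilizer Y b with hE
  have ho : ∀ x, x ≠ a → x ≠ b → ({y | R L a b x y} : Set Ω).ncard = Nat.card E := by
    intro x x1 x2
    have h1 := card_orb E x {y | R L a b x y} fun y =>
      ⟨fun ⟨g, hg, g1, g2, g3⟩ => ⟨g, ⟨⟨hg, g1⟩, g2⟩, g3⟩,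
        fun ⟨g, ⟨⟨hg, g1⟩, g2⟩, g3⟩ => ⟨g, hg, g1, g2, g3⟩⟩
    have h2 : E ⊓ stabilizer Y x = ⊥ := eq_bot_iff.2 fun g hg =>
      h3 g hg.1.1.1 x x1 x2 hg.1.1.2 hg.1.2 hg.2
    rwa [h2, card_bot, mul_one] at h1
  have dj : ∀ x y, ¬ R L a b x y → Disjoint ({z | R L a b x z} : Set Ω) {z | R L a b y z} :=
    fun x y h => Set.disjoint_left.2 fun z h1 h2 => h (R.trans h1 (R.symm h2))
  have h1 : ({z | R L a b c z} ∪ {z | R L a b d z} ∪ {z | R L a b e z} : Set Ω) ⊆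
      {x | x ≠ a ∧ x ≠ b} := by
    rintro z ((h | h) | h)
    · exact R.ne h c1 c2
    · exact R.ne h d1 d2
    · exact R.ne h e1 e2
  have h2 := Set.ncard_le_ncard h1
  rw [Set.ncard_union_eq (Set.disjoint_union_left.2 ⟨dj _ _ n2, dj _ _ n3⟩),
    Set.ncard_union_eq (dj _ _ n1), ho c c1 c2, ho d d1 d2, ho e e1 e2] at h2
  have h4 := ncard_compl_two hab
  have h5 := card_pos' E
  omega

theorem zas [FaithfulSMul Y Ω] (hd : 3 ∣ Nat.card Ω) (hn : 3 < Nat.card Ω) {L : Subgroup Y}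
    [L.Normal] (hs : IsSimpleGroup L) (h2 : T2 L Ω)
    (hmin : ∀ M : Subgroup Y, M.Normal → M ≤ L → M = ⊥ ∨ M = L)
    (hst : ∀ a : Ω, stabilizer L a ≠ ⊥) {a b : Ω} (hab : a ≠ b)
    (h3 : ∀ g ∈ L, ∀ c, c ≠ a → c ≠ b → g • a = a → g • b = b → g • c = c → g = 1) :
    (∃ (F : Type) (_ : Field F) (_ : Fintype F), Fintype.card F + 1 = Nat.card Ω ∧
      Nonempty (L ≃* PSL(2, F))) ∧ K2 L Ω := by
  have h2' := t2_iff.2 h2
  have ht : IsPretransitive L Ω := (isPreprimitive_of_is_two_pretransitive h2').toIsPretransitive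
  have hb : ∀ K : Subgroup Y, IsPretransitive K Ω → K ≠ ⊥ := by
    rintro K hK rfl
    obtain ⟨⟨g, hg⟩, e⟩ := exists_smul_eq (⊥ : Subgroup Y) a b
    rw [mem_bot] at hg
    subst hg
    exact hab ((one_smul Y a).symm.trans e)
  have hZ : H26.Zas L Ω := by
    refine ⟨inferInstance, h2', ?_, ?_, ?_⟩
    · intro g x y z h1 h4 h5 g1 g2 g3
      obtain ⟨k, hk, rfl, rfl⟩ := h2 a b x y hab h1
      have := h3 (k⁻¹ * g * k) (mul_mem (mul_mem (inv_mem hk) g.2) hk) (k⁻¹ • z)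
        (fun e => h5 (inv_smul_eq_iff.1 e).symm) (fun e => h4 (inv_smul_eq_iff.1 e).symm)
        (by rw [mul_smul, mul_smul, inv_smul_eq_iff]; exact g1)
        (by rw [mul_smul, mul_smul, inv_smul_eq_iff]; exact g2)
        (by rw [mul_smul, mul_smul, smul_inv_smul]; exact congrArg _ g3)
      exact Subtype.ext (by simpa [mul_assoc, inv_mul_eq_one] using this)
    · by_contra hc
      push Not at hc
      obtain ⟨K, hK, hKL, hKt, hKr⟩ := H25.exists_regular_normal L a fun x y hxy g hg g1 g2 => by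
        by_contra h1
        exact hc ⟨g, hg⟩ (fun e => h1 (congrArg Subtype.val e)) x y hxy g1 g2
      obtain rfl := (hmin K hK hKL).resolve_left (hb K hKt)
      exact hst a (hKr a)
    · intro N hN hNt
      rcases hN.eq_bot_or_eq_top with rfl | rfl
      · exfalso
        obtain ⟨⟨g, hg⟩, e⟩ := exists_smul_eq (⊥ : Subgroup L) a b
        rw [mem_bot] at hg
        subst hg
        exact hab ((one_smul Y a).symm.trans e)
      · obtain ⟨g, hg, h1⟩ := exists_ne_one (hst a)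
        exact ⟨a, ne_bot_of_mem (x := ⟨g, trivial⟩) hg fun e => h1 (congrArg Subtype.val e)⟩
  have hc := h2.card hab
  rcases hZ.simple_strong with ⟨F, _, _, -, h4, ⟨e⟩⟩ | h4
  · refine ⟨⟨F, inferInstance, inferInstance, h4.symm, ⟨e⟩⟩, h2.k2 hab (k2_of_card hab h3 ?_)⟩
    have h5 := H4.card_psl (F := F)
    rw [← Nat.card_congr e.toEquiv, hc, h4] at h5
    rw [h4]
    rw [h4] at hn
    generalize Nat.card (L ⊓ stabilizer Y a ⊓ stabilizer Y b : Subgroup Y) = t at h5 ⊢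
    have h6 : Nat.gcd 2 (Fintype.card F - 1) ≤ 2 := Nat.gcd_le_left _ (by norm_num)
    generalize Nat.gcd 2 (Fintype.card F - 1) = k at h5 h6
    obtain ⟨q, hq⟩ : ∃ q, Fintype.card F = q + 1 := ⟨Fintype.card F - 1, by omega⟩
    rw [hq] at h5 ⊢
    have h7 : (q + 1) ^ 2 - 1 = (q + 2) * q := by
      rw [show (q + 1) ^ 2 = (q + 2) * q + 1 by ring, Nat.add_sub_cancel]
    rw [h7, Nat.add_sub_cancel] at h5
    have h8 : (q + 2) * (q + 1) * (k * t) = (q + 2) * (q + 1) * q := by linarith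
    have h9 := Nat.eq_of_mul_eq_mul_left (by positivity) h8
    nlinarith
  · obtain ⟨F, _, _, m, ⟨M⟩⟩ := H17.T3.exists_model h4
    exact absurd (hc ▸ hd.mul_right _) (sz_not_three M)

/-- The main lemma. -/
theorem main [FaithfulSMul Y Ω] (h3 : IsMultiplyPretransitive Y Ω 3) (hev : Even (Nat.card Ω))
    (hd : 3 ∣ Nat.card Ω) (hn : 3 < Nat.card Ω) (X : Subgroup Y) [X.Normal] (hX : X ≠ ⊥) {r : ℕ}
    (hr : r = 2 ∨ r = 3) (hfix : ∀ (a : Ω), ∀ x ∈ X, x • a = a → x ^ r = 1 → x = 1) :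
    TT X Ω ∨ ∃ L ≤ X, L.Normal ∧ (∃ (F : Type) (_ : Field F) (_ : Fintype F),
      Fintype.card F + 1 = Nat.card Ω ∧ Nonempty (L ≃* PSL(2, F))) ∧ K2 L Ω := by
  obtain ⟨L, hL, hL0, hLX, hmin⟩ := H25.exists_minimal_normal_le X hX
  have h2 := two_of_normal h3 hd hn L hL0
  have hY2 : IsMultiplyPretransitive Y Ω 2 := isMultiplyPretransitive_of_le (n := 3) (by omega) hn.le
  have hYt : IsPretransitive Y Ω := (isPreprimitive_of_is_two_pretransitive hY2).toIsPretransitive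
  obtain ⟨α⟩ : Nonempty Ω := (Nat.card_pos_iff.1 (by omega)).1
  obtain ⟨β, hβ, -⟩ := exists_third (by omega) α α
  obtain ⟨γ, c1, c2⟩ := exists_third (by omega) α β
  have hcard : ∀ S : Subgroup Y, S ≤ L → S ≤ stabilizer Y α →
      Odd (Nat.card S) ∨ ¬ 3 ∣ Nat.card S := by
    intro S h4 h5
    have key : ∀ r : ℕ, r.Prime → (∀ (a : Ω), ∀ x ∈ X, x • a = a → x ^ r = 1 → x = 1) →
        ¬ r ∣ Nat.card S := by
      intro r hp hfix h6
      obtain ⟨x, hx, ho⟩ := exists_orderOf hp h6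
      rw [hfix α x (hLX (h4 hx)) (h5 hx) (ho ▸ pow_orderOf_eq_one x), orderOf_one] at ho
      exact hp.one_lt.ne ho
    rcases hr with rfl | rfl
    · exact Or.inl (Nat.not_even_iff_odd.1 fun h => key 2 Nat.prime_two hfix (even_iff_two_dvd.1 h))
    · exact Or.inr (key 3 Nat.prime_three hfix)
  obtain ⟨g0, hg0, e1, e2⟩ := h2 α β α γ hβ.symm c1.symm
  have hg1 : g0 ≠ 1 := by rintro rfl; exact c2 (e2.symm.trans (one_smul _ _))
  obtain ⟨hs, -, hst⟩ := (H25.burnside_two_trans hY2 L hL0 hmin).resolve_left fun h =>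
    ne_bot_of_mem (x := ⟨g0, hg0⟩) e1 (fun e => hg1 (congrArg Subtype.val e)) (h.2.2 α)
  have hf := H25.faithful_ofStabilizer (G := Y) α
  have h4 : IsMultiplyPretransitive (stabilizer Y α) (ofStabilizer Y α) 2 :=
    ofStabilizer.isMultiplyPretransitive.1 h3
  obtain ⟨M, hM, hM0, hML, hMmin⟩ := H25.exists_minimal_normal_le (L.subgroupOf (stabilizer Y α))
    (ne_bot_of_mem (x := ⟨g0, e1⟩) hg0 fun e => hg1 (congrArg Subtype.val e))
  have hUL : M.map (stabilizer Y α).subtype ≤ L := by rintro _ ⟨x, hx, rfl⟩; exact hML hx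
  have hMt : IsPretransitive M (ofStabilizer Y α) := by
    have := isPreprimitive_of_is_two_pretransitive h4
    exact H25.normal_transitive_of_primitive M hM0
  rcases H25.burnside_two_trans h4 M hM0 hMmin with ⟨hc, ⟨p, hp, hex⟩, hreg⟩ | ⟨hsM, hpM, hstM⟩
  · have hA : Aff (M.map (stabilizer Y α).subtype) α β := by
      refine ⟨hβ.symm, ?_, fun g hg => ?_, fun y hy => ?_, ?_⟩
      · rintro _ ⟨x, -, rfl⟩; exact x.2
      · refine mem_norm_of_cj_le (cj_le_forall.2 ?_)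
        rintro _ ⟨x, hx, rfl⟩
        exact ⟨_, hM.conj_mem x hx ⟨g, hg⟩, rfl⟩
      · obtain ⟨x, hx⟩ := exists_smul_eq M (⟨β, hβ⟩ : ofStabilizer Y α) ⟨y, hy⟩
        exact ⟨_, ⟨x, x.2, rfl⟩, congrArg Subtype.val hx⟩
      · rintro _ ⟨x, hx, rfl⟩ e
        have : (⟨x, hx⟩ : M) ∈ stabilizer M (⟨β, hβ⟩ : ofStabilizer Y α) := Subtype.ext e
        rw [hreg, mem_bot] at this
        exact congrArg (fun z : M => ((z : stabilizer Y α) : Y)) this
    refine Or.inr ⟨L, hLX, hL, zas hd hn hs h2 hmin hst hβ.symm fun g hg c c1 c2 g1 g2 g3 => ?_⟩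
    refine hA.semireg h3 hd hn ?_ hp ?_ hUL hmin
      (hcard _ inf_le_left (inf_le_right.trans inf_le_left)) hg g1 g2 c1 c2 g3
    · infer_instance
    · rintro _ ⟨x, hx, rfl⟩
      exact congrArg Subtype.val (hex x hx)
  · left
    have hb : Nontrivial (ofStabilizer Y α) :=
      ⟨⟨⟨β, hβ⟩, ⟨γ, c1⟩, fun e => c2 (congrArg Subtype.val e).symm⟩⟩
    have hcM := hcard _ hUL (map_subtype_le M)
    rw [card_map_of_injective (subtype_injective _)] at hcM
    rcases simple_cases hsM hcM with hc | ⟨F, _, _, m, ⟨Mo⟩⟩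
    · exact absurd (H25.stabilizer_eq_bot_of_comm hc.is_comm.comm ⟨β, hβ⟩) (hstM _)
    have h5 := sz_two Mo hpM (by
      rw [H25.card_ofStabilizer]
      exact Nat.Even.sub_odd (by omega) hev odd_one)
    refine TT.mono hLX (h2.tt hβ.symm fun c d c1 c2 d1 d2 => ?_)
    rw [is_two_pretransitive_iff] at h5
    obtain ⟨x, x1, x2⟩ := @h5 ⟨β, hβ⟩ ⟨c, c1⟩ ⟨β, hβ⟩ ⟨d, d1⟩
      (fun e => c2 (congrArg Subtype.val e).symm) (fun e => d2 (congrArg Subtype.val e).symm)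
    exact ⟨_, hML x.2, x.1.2, congrArg Subtype.val x1, congrArg Subtype.val x2⟩

end H12.T3
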