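import Cfsg.Agent.H12.T3c
import Cfsg.Agent.H25.Two4
import Cfsg.Agent.S0699

/-! Normal subgroups of triply transitive groups of degree divisible by three. -/

set_option autoImplicit false

namespace H12.T3

open Subgroup Cfsg H16 MulAction SubMulAction
open scoped commutatorElement MatrixGroups

universe u v

variable {G : Type u} [Group G] {Ω : Type v} [MulAction G Ω] [Finite G] [Finite Ω]

omit [Finite G] in
theorem orb_dvd (h3 : IsMultiplyPretransitive G Ω 3) (H : Subgroup G) [hH : H.Normal] {a b c : Ω}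
    (hab : a ≠ b) (c1 : c ≠ a) (c2 : c ≠ b) :
    ({y | R H a b c y} : Set Ω).ncard ∣ Nat.card Ω - 2 := by
  have h1 := H25.ncard_orbit_dvd (H ⊓ stabilizer G a ⊓ stabilizer G b) {x | x ≠ a ∧ x ≠ b}
    (Set.toFinite _) (fun k hk x hx => R.ne (S := ⊤) ⟨k, trivial, hk.1.2, hk.2, rfl⟩ hx.1 hx.2)
    (fun x hx y hy => by
      obtain ⟨g, g1, g2, g3⟩ := H25.three_trans_iff.1 h3 a b x a b y hab hx.1.symm hx.2.symm hab
        hy.1.symm hy.2.symm
      refine ⟨g, g3, fun k hk => ⟨⟨hH.conj_mem k hk.1.1 g, ?_⟩, ?_⟩⟩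
      · change _ • a = a
        rw [mul_smul, mul_smul, inv_smul_eq_iff.2 g1.symm, show k • a = a from hk.1.2, g1]
      · change _ • b = b
        rw [mul_smul, mul_smul, inv_smul_eq_iff.2 g2.symm, show k • b = b from hk.2, g2]) (x := c) ⟨c1, c2⟩
  have h2 := ncard_compl_two hab
  rw [show ({x | x ≠ a ∧ x ≠ b} : Set Ω).ncard = Nat.card Ω - 2 by omega] at h1
  convert h1 using 2
  ext y
  exact ⟨fun ⟨g, hg, g1, g2, g3⟩ => ⟨⟨g, ⟨hg, g1⟩, g2⟩, g3⟩,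
    fun ⟨⟨g, ⟨hg, g1⟩, g2⟩, g3⟩ => ⟨g, hg, g1, g2, g3⟩⟩

theorem witt {H S : Subgroup G} [hH : H.Normal] (hS : S ≤ H) {p s : ℕ} [Fact p.Prime]
    (cS : Nat.card S = p ^ s)
    (hL : ∀ c : Ω, ¬ p ^ (s + 1) ∣ Nat.card (H ⊓ stabilizer G c : Subgroup G)) (g : G) {A : Set Ω}
    {c : Ω} (hc : c ∈ A) (h1 : ∀ y ∈ A, ∀ q ∈ S, q • y = y)
    (h2 : ∀ y ∈ A, ∀ q ∈ S, q • g⁻¹ • y = g⁻¹ • y) :
    ∃ m ∈ H, (∀ y ∈ A, m • y = y) ∧ m * g ∈ N[S] := by
  obtain ⟨m, hm, h4⟩ := H25.exists_conj_of_card_pow (S := S :^ g) (T := S)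
    (L := H ⊓ fixingSubgroup G A) (cj_le_forall.2 fun q hq => ⟨hH.conj_mem _ (hS hq) g,
      (mem_fixingSubgroup_iff G).2 fun y hy => by
        rw [mul_smul, mul_smul, h2 y hy q hq, smul_inv_smul]⟩)
    (fun q hq => ⟨hS hq, (mem_fixingSubgroup_iff G).2 fun y hy => h1 y hy q hq⟩)
    ((card_cj S g).trans cS) cS fun h => hL c (h.trans (card_dvd (inf_le_inf_left _
      fun q hq => (mem_fixingSubgroup_iff G).1 hq c hc)))
  refine ⟨m, hm.1, (mem_fixingSubgroup_iff G).1 hm.2, mem_norm_of_cj_le (cj_le_forall.2 fun q hq => ?_)⟩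
  have := (h4 _).1 (cj_mem (g := g) hq)
  simpa [mul_assoc] using this

theorem k2_all [FaithfulSMul G Ω] (h3 : IsMultiplyPretransitive G Ω 3) (hd : 3 ∣ Nat.card Ω)
    (hn : 3 < Nat.card Ω) (H : Subgroup G) [hH : H.Normal] (h0 : H ≠ ⊥) : K2 H Ω := by
  have h2 := two_of_normal h3 hd hn H h0
  have : Fact (Nat.Prime 3) := ⟨Nat.prime_three⟩
  obtain ⟨a⟩ : Nonempty Ω := (Nat.card_pos_iff.1 (by omega)).1
  obtain ⟨b, hb, -⟩ := exists_third (by omega) a a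
  have hab := hb.symm
  obtain ⟨S, hS⟩ := sy_exists 3 (H ⊓ stabilizer G a ⊓ stabilizer G b)
  have hSH : S ≤ H := fun q hq => (hS.1 hq).1.1
  obtain ⟨s, cS⟩ := (sy_pg hS).exists_card_eq
  have hL : ∀ c : Ω, ¬ 3 ^ (s + 1) ∣ Nat.card (H ⊓ stabilizer G c : Subgroup G) := by
    intro c h
    have h4 := card_orb H c Set.univ fun y => by
      refine ⟨fun _ => ?_, fun _ => trivial⟩
      obtain ⟨z, hz, -⟩ := exists_third (by omega) c c
      obtain ⟨w, hw, -⟩ := exists_third (by omega) y y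
      obtain ⟨g, hg, e, -⟩ := h2 c z y w hz.symm hw.symm
      exact ⟨g, hg, e⟩
    rw [h2.card hab, Set.ncard_univ] at h4
    rw [Nat.eq_of_mul_eq_mul_left (by omega) h4, ← card_mul_relIndex hS.1, cS, mul_left_comm,
      pow_succ] at h
    rcases Nat.prime_three.dvd_mul.1 (Nat.dvd_of_mul_dvd_mul_left (by positivity) h) with h | h
    · omega
    · exact sy_not_dvd hS Nat.prime_three h
  set Fs : Set Ω := {x ∈ Set.univ | ∀ q ∈ S, q • x = x} with hFs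
  have hmod := H25.ncard_modEq_fixed S (sy_pg hS) (Set.univ : Set Ω) (Set.toFinite _) fun _ _ _ _ => trivial
  rw [← hFs, Set.ncard_univ] at hmod
  have ha : a ∈ Fs := ⟨trivial, fun q hq => (hS.1 hq).1.2⟩
  have hb : b ∈ Fs := ⟨trivial, fun q hq => (hS.1 hq).2⟩
  have horb : ∀ c, c ≠ a → c ≠ b → ∃ c' ∈ Fs, R H a b c c' := by
    intro c c1 c2
    obtain ⟨x, hx, hx'⟩ := H25.exists_fixed_of_not_dvd S (sy_pg hS) {y | R H a b c y}
      (fun q hq x hx => R.trans hx ⟨q, hSH hq, ha.2 q hq, hb.2 q hq, rfl⟩)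
      (fun h => by have := h.trans (orb_dvd h3 H hab c1 c2); omega)
    exact ⟨x, ⟨trivial, hx'⟩, hx⟩
  suffices key : ∀ c ∈ Fs, ∀ d ∈ Fs, ∀ e ∈ Fs, c ≠ a → c ≠ b → d ≠ a → d ≠ b → e ≠ a → e ≠ b →
      R H a b c d ∨ R H a b c e ∨ R H a b d e by
    refine h2.k2 hab fun c d e c1 c2 d1 d2 e1 e2 => ?_
    obtain ⟨c', hc, rc⟩ := horb c c1 c2
    obtain ⟨d', hd, rd⟩ := horb d d1 d2
    obtain ⟨e', he, re⟩ := horb e e1 e2
    exact (key c' hc d' hd e' he (rc.ne c1 c2).1 (rc.ne c1 c2).2 (rd.ne d1 d2).1 (rd.ne d1 d2).2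
      (re.ne e1 e2).1 (re.ne e1 e2).2).imp (fun h => rc.trans (h.trans rd.symm))
      (Or.imp (fun h => rc.trans (h.trans re.symm)) fun h => rd.trans (h.trans re.symm))
  by_cases h4 : 3 < Fs.ncard
  swap
  · intro c hc d hd e _ c1 c2 d1 d2 _ _
    by_cases hcd : c = d
    · exact Or.inl (hcd ▸ R.refl _ _ _ _)
    · exact absurd ((Set.three_lt_ncard_iff (Set.toFinite _)).2
        ⟨a, b, c, d, ha, hb, hc, hd, hab, c1.symm, d1.symm, c2.symm, d2.symm, hcd⟩) h4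
  let F : SubMulAction N[S] Ω := H25.subMulActionOfInv N[S] Fs fun g hg x hx =>
    ⟨trivial, fun q hq => by
      rw [← eq_inv_smul_iff, ← mul_smul, ← inv_smul_eq_iff, ← mul_smul, eq_comm]
      have := hx.2 _ (conj_mem' hg hq)
      simpa [mul_assoc] using this.symm⟩
  have cF : Nat.card F = Fs.ncard := Nat.card_coe_set_eq Fs
  let φ := (MulAction.toPermHom N[S] F).rangeRestrict
  have hφ : Function.Surjective φ := MonoidHom.rangeRestrict_surjective _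
  have φs : ∀ (n : N[S]) (x : F), ((φ n • x : F) : Ω) = (n : G) • (x : Ω) := fun _ _ => rfl
  have hY : IsMultiplyPretransitive (MulAction.toPermHom N[S] F).range F 3 := by
    rw [H25.three_trans_iff]
    intro x y z x' y' z' n1 n2 n3 n4 n5 n6
    obtain ⟨g, g1, g2, g3⟩ := H25.three_trans_iff.1 h3 x y z x' y' z' (fun e => n1 (Subtype.ext e))
      (fun e => n2 (Subtype.ext e)) (fun e => n3 (Subtype.ext e)) (fun e => n4 (Subtype.ext e))
      (fun e => n5 (Subtype.ext e)) (fun e => n6 (Subtype.ext e))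
    obtain ⟨m, -, m1, m2⟩ := witt hSH cS hL g (A := {(x' : Ω), (y' : Ω), (z' : Ω)}) (Or.inl rfl)
      (by rintro _ (rfl | rfl | rfl); exacts [x'.2.2, y'.2.2, z'.2.2])
      (by
        rintro _ (rfl | rfl | rfl)
        · rw [inv_smul_eq_iff.2 g1.symm]; exact x.2.2
        · rw [inv_smul_eq_iff.2 g2.symm]; exact y.2.2
        · rw [inv_smul_eq_iff.2 g3.symm]; exact z.2.2)
    refine ⟨φ ⟨_, m2⟩, Subtype.ext ?_, Subtype.ext ?_, Subtype.ext ?_⟩ <;> rw [φs, mul_smul]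
    · rw [g1, m1 _ (by simp)]
    · rw [g2, m1 _ (by simp)]
    · rw [g3, m1 _ (by simp)]
  have hXn : ((H.subgroupOf N[S]).map φ).Normal := Subgroup.Normal.map inferInstance φ hφ
  have hX0 : (H.subgroupOf N[S]).map φ ≠ ⊥ := by
    obtain ⟨g, hg, g1, g2⟩ := h2 a b b a hab hab.symm
    obtain ⟨m, hm, m1, m2⟩ := witt hSH cS hL g (A := {b}) rfl (by rintro _ rfl; exact hb.2)
      (by rintro _ rfl; rw [inv_smul_eq_iff.2 g1.symm]; exact ha.2)
    refine ne_bot_of_mem (x := φ ⟨_, m2⟩) ⟨⟨_, m2⟩, H.mul_mem hm hg, rfl⟩ fun e => hab ?_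
    have := φs ⟨_, m2⟩ ⟨a, ha⟩
    rw [e, one_smul, mul_smul, g1, m1 b rfl] at this
    exact this
  have hK : K2 ((H.subgroupOf N[S]).map φ) F := by
    have h5 : 3 ∣ Nat.card F := by rw [cF]; exact (hmod.dvd_iff dvd_rfl).1 hd
    rw [← cF] at h4
    rcases Nat.even_or_odd (Nat.card F) with he | ho
    · refine (main hY he h5 h4 _ hX0 (Or.inr rfl) ?_).elim TT.k2 fun ⟨L, h6, _, _, h7⟩ => h7.mono h6
      rintro c _ ⟨x, hx, rfl⟩ e1 e2
      obtain ⟨k, t, ht, hk⟩ := Nat.exists_eq_pow_mul_and_not_dvd (orderOf_pos (x : G)).ne' 3 (by norm_num)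
      have hy : ((x : G) ^ t) ^ 3 ^ k = 1 := by rw [← pow_mul, mul_comm, ← hk, pow_orderOf_eq_one]
      have hP : IsPGroup 3 (zpowers ((x : G) ^ t)) := by
        obtain ⟨j, -, hj⟩ := (Nat.dvd_prime_pow Nat.prime_three).1 (orderOf_dvd_of_pow_eq_one hy)
        exact IsPGroup.of_card ((card_zpowers _).trans hj)
      have hP2 : IsPGroup 3 (S ⊔ zpowers ((x : G) ^ t) : Subgroup G) :=
        IsPGroup.to_sup_of_normal_left' (sy_pg hS) hP (zpowers_le.2 (pow_mem x.2 t))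
      have hle : S ⊔ zpowers ((x : G) ^ t) ≤ H ⊓ stabilizer G (c : Ω) :=
        sup_le (fun q hq => ⟨hSH hq, c.2.2 q hq⟩) (zpowers_le.2 (Subgroup.pow_mem _
          (mem_inf.2 ⟨show (x : G) ∈ H from hx, congrArg Subtype.val e1⟩) t))
      obtain ⟨j, hj⟩ := hP2.exists_card_eq
      have hjs : j ≤ s := by
        by_contra h
        exact hL c ((pow_dvd_pow 3 (by omega)).trans (hj ▸ card_dvd hle))
      have h8 : S = S ⊔ zpowers ((x : G) ^ t) :=
        eq_of_le_of_card le_sup_left (by rw [hj, cS]; exact Nat.pow_le_pow_right (by norm_num) hjs)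
      have h9 : (x : G) ^ t ∈ S := h8.ge (mem_sup_right (mem_zpowers _))
      have h10 : φ x ^ t = 1 := by
        rw [← map_pow]
        exact FaithfulSMul.eq_of_smul_eq_smul (α := F) fun z => Subtype.ext (z.2.2 _ h9)
      exact orderOf_eq_one_iff.1 (Nat.eq_one_of_dvd_coprimes
        ((Nat.Prime.coprime_iff_not_dvd Nat.prime_three).2 ht) (orderOf_dvd_of_pow_eq_one e2)
        (orderOf_dvd_of_pow_eq_one h10))
    · exact (tt_iff.1 (Cfsg.Agent.S0699.wagner ho (by omega) hY _ hX0)).k2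
  intro c hc d hd e he c1 c2 d1 d2 e1 e2
  have tr : ∀ x y : F, R ((H.subgroupOf N[S]).map φ) (⟨a, ha⟩ : F) ⟨b, hb⟩ x y → R H a b x y := by
    rintro x y ⟨_, ⟨g, hg, rfl⟩, g1, g2, g3⟩
    exact ⟨g, hg, congrArg Subtype.val g1, congrArg Subtype.val g2, congrArg Subtype.val g3⟩
  have ne : ∀ {x y : F}, (x : Ω) ≠ y → x ≠ y := fun h e => h (congrArg Subtype.val e)
  exact (hK ⟨a, ha⟩ ⟨b, hb⟩ ⟨c, hc⟩ ⟨d, hd⟩ ⟨e, he⟩ (ne hab) (ne c1) (ne c2) (ne d1) (ne d2) (ne e1)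
    (ne e2)).imp (tr _ _) (Or.imp (tr _ _) (tr _ _))

theorem no_invol [FaithfulSMul G Ω] (h3 : IsMultiplyPretransitive G Ω 3) (hd : 3 ∣ Nat.card Ω)
    (hn : 3 < Nat.card Ω) (h4 : 4 ∣ Nat.card Ω) (H : Subgroup G) [hH : H.Normal] (h0 : H ≠ ⊥)
    (hT : ¬ TT H Ω) (c : Ω) (j : G) (hj : j ∈ H) (jc : j • c = c) (j2 : j ^ 2 = 1) : j = 1 := by
  by_contra j1
  have h2 := two_of_normal h3 hd hn H h0
  have hK := k2_all h3 hd hn H h0
  obtain ⟨a, ha⟩ : ∃ a : Ω, j • a ≠ a := by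
    by_contra hc
    push Not at hc
    exact j1 (FaithfulSMul.eq_of_smul_eq_smul (α := Ω) fun x => by rw [hc, one_smul])
  obtain ⟨b, hb⟩ : ∃ b, j • a = b := ⟨_, rfl⟩
  have jb : j • b = a := by rw [← hb, ← mul_smul, ← sq, j2, one_smul]
  have hab : a ≠ b := fun e => ha (hb.trans e.symm)
  have c1 : c ≠ a := by rintro rfl; exact ha jc
  have c2 : c ≠ b := by rintro rfl; exact hab (jb.symm.trans jc)
  -- the orbit of `c` has odd length
  have hodd : ¬ 2 ∣ ({y | R H a b c y} : Set Ω).ncard := by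
    obtain ⟨d, d1, d2, hcd⟩ : ∃ d, d ≠ a ∧ d ≠ b ∧ ¬ R H a b c d := by
      by_contra hc
      push Not at hc
      exact hT (h2.tt hab fun x y x1 x2 y1 y2 => (hc x x1 x2).symm.trans (hc y y1 y2))
    have e1 : ({x | x ≠ a ∧ x ≠ b} : Set Ω) = {y | R H a b c y} ∪ {y | R H a b d y} := by
      ext y
      constructor
      · rintro ⟨y1, y2⟩
        exact (hK a b c d y hab c1 c2 d1 d2 y1 y2).resolve_left hcd
      · rintro (h | h)
        · exact R.ne h c1 c2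
        · exact R.ne h d1 d2
    have e2 := ncard_compl_two hab
    have dj : Disjoint ({y | R H a b c y} : Set Ω) {y | R H a b d y} :=
      Set.disjoint_left.2 fun z h1 h2 => hcd (R.trans h1 (R.symm h2))
    rw [e1, Set.ncard_union_eq dj] at e2
    have e3 := orb_dvd h3 H hab c1 c2
    have e4 := orb_dvd h3 H hab d1 d2
    have p1 : 0 < ({y | R H a b c y} : Set Ω).ncard := (Set.ncard_pos).2 ⟨c, R.refl _ _ _ _⟩
    have p2 : 0 < ({y | R H a b d y} : Set Ω).ncard := (Set.ncard_pos).2 ⟨d, R.refl _ _ _ _⟩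
    generalize ({y | R H a b c y} : Set Ω).ncard = s at *
    generalize ({y | R H a b d y} : Set Ω).ncard = t at *
    rw [show Nat.card Ω - 2 = s + t by omega] at e3 e4
    have := Nat.dvd_antisymm ((Nat.dvd_add_right dvd_rfl).1 e3) ((Nat.dvd_add_left dvd_rfl).1 e4)
    omega
  let K : Subgroup G :=
    { carrier := {g | g ∈ H ∧ ((g • a = a ∧ g • b = b) ∨ (g • a = b ∧ g • b = a))}
      one_mem' := ⟨H.one_mem, Or.inl ⟨one_smul _ _, one_smul _ _⟩⟩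
      mul_mem' := by
        rintro x y ⟨hx, h⟩ ⟨hy, h'⟩
        refine ⟨H.mul_mem hx hy, ?_⟩
        rcases h with ⟨x1, x2⟩ | ⟨x1, x2⟩ <;> rcases h' with ⟨y1, y2⟩ | ⟨y1, y2⟩ <;>
          simp [mul_smul, x1, x2, y1, y2]
      inv_mem' := by
        rintro x ⟨hx, h⟩
        refine ⟨H.inv_mem hx, ?_⟩
        simp only [inv_smul_eq_iff]
        rcases h with ⟨x1, x2⟩ | ⟨x1, x2⟩ <;> simp [x1, x2] }
  have hidx : (H ⊓ stabilizer G a ⊓ stabilizer G b).relIndex K = 2 := by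
    refine relIndex_eq_two_iff.2 ⟨j, ⟨hj, Or.inr ⟨hb, jb⟩⟩, ?_⟩
    rintro g ⟨hg, ⟨g1, g2⟩ | ⟨g1, g2⟩⟩
    · refine Or.inr ⟨⟨⟨hg, g1⟩, g2⟩, fun h => hab ?_⟩
      have : (g * j) • a = a := h.1.2
      rw [mul_smul, hb, g2] at this
      exact this.symm
    · refine Or.inl ⟨⟨⟨H.mul_mem hg hj, ?_⟩, ?_⟩, fun h => hab (h.1.2.symm.trans g1)⟩
      · change _ • a = a
        rw [mul_smul, hb, g2]
      · change _ • b = b
        rw [mul_smul, jb, g1]
  have hle : H ⊓ stabilizer G a ⊓ stabilizer G b ≤ K := fun g hg => ⟨hg.1.1, Or.inl ⟨hg.1.2, hg.2⟩⟩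
  obtain ⟨P, hP⟩ := sy_exists 2 K
  obtain ⟨x, -, hx⟩ := H25.exists_fixed_of_not_dvd P (sy_pg hP) {y | R H a b c y} (by
    rintro q hq y ⟨g, hg, g1, g2, rfl⟩
    obtain ⟨q0, ⟨q1, q2⟩ | ⟨q1, q2⟩⟩ := hP.1 hq
    · exact ⟨q * g, H.mul_mem q0 hg, by rw [mul_smul, g1, q1], by rw [mul_smul, g2, q2],
        mul_smul _ _ _⟩
    · exact ⟨q * g * j, H.mul_mem (H.mul_mem q0 hg) hj, by rw [mul_smul, mul_smul, hb, g2, q2],
        by rw [mul_smul, mul_smul, jb, g1, q1], by rw [mul_smul, mul_smul, jc]⟩) hodd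
  obtain ⟨y, hy, hy'⟩ := H25.exists_fixed_of_not_dvd P (sy_pg hP) {y | y ≠ x}
    (fun q hq y hy e => hy (smul_left_cancel q (e.trans (hx q hq).symm)))
    (by have := ncard_compl_one x; omega)
  have h5 : P ≤ H ⊓ stabilizer G x ⊓ stabilizer G y :=
    fun q hq => ⟨⟨(hP.1 hq).1, hx q hq⟩, hy' q hq⟩
  have h6 := (h2.card hab).symm.trans (h2.card (Ne.symm hy))
  have h7 := Nat.eq_of_mul_eq_mul_left (by omega) (Nat.eq_of_mul_eq_mul_left (by omega) h6)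
  obtain ⟨t, ht⟩ := h7 ▸ card_dvd h5
  have h8 := card_mul_relIndex hle
  rw [hidx, ht, ← card_mul_relIndex hP.1, mul_assoc] at h8
  exact sy_not_dvd hP Nat.prime_two
    (Nat.eq_of_mul_eq_mul_left (card_pos' P) h8 ▸ dvd_mul_left 2 t)

theorem card_orbits {H : Subgroup G} (h2 : T2 H Ω) (hK : K2 H Ω) :
    Nat.card (orbitRel.Quotient H (Fin 3 ↪ Ω)) ≤ 2 := by
  by_contra hc
  have := Fintype.ofFinite (orbitRel.Quotient H (Fin 3 ↪ Ω))
  rw [not_le, Nat.card_eq_fintype_card, Fintype.two_lt_card_iff] at hc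
  obtain ⟨x, y, z, n1, n2, n3⟩ := hc
  induction x using Quotient.inductionOn' with | h x => ?_
  induction y using Quotient.inductionOn' with | h y => ?_
  induction z using Quotient.inductionOn' with | h z => ?_
  have ne : ∀ (w : Fin 3 ↪ Ω) {i j : Fin 3}, i ≠ j → w i ≠ w j := fun w _ _ h e => h (w.injective e)
  have hab : x 0 ≠ x 1 := ne x (by decide)
  have key : ∀ (w w' : Fin 3 ↪ Ω) (g g' : G), g ∈ H → g' ∈ H → g • w 0 = x 0 → g • w 1 = x 1 →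
      g' • w' 0 = x 0 → g' • w' 1 = x 1 → R H (x 0) (x 1) (g • w 2) (g' • w' 2) →
      (Quotient.mk'' w : orbitRel.Quotient H (Fin 3 ↪ Ω)) = Quotient.mk'' w' := by
    rintro w w' g g' hg hg' g1 g2 g3 g4 ⟨k, hk, k1, k2, k3⟩
    refine (Quotient.sound' ?_).symm
    refine ⟨⟨g'⁻¹ * k * g, H.mul_mem (H.mul_mem (H.inv_mem hg') hk) hg⟩, ?_⟩
    ext i
    change (g'⁻¹ * k * g) • w i = w' i
    rw [mul_smul, mul_smul, inv_smul_eq_iff]
    fin_cases i
    · exact (congrArg _ g1).trans (k1.trans g3.symm)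
    · exact (congrArg _ g2).trans (k2.trans g4.symm)
    · exact k3
  obtain ⟨g, hg, g1, g2⟩ := h2 _ _ _ _ (ne y (show (0 : Fin 3) ≠ 1 by decide)) hab
  obtain ⟨k, hk, k1, k2⟩ := h2 _ _ _ _ (ne z (show (0 : Fin 3) ≠ 1 by decide)) hab
  have nn : ∀ (w : Fin 3 ↪ Ω) (g : G) (i : Fin 3) (a : Ω), 2 ≠ i → g • w i = a → g • w 2 ≠ a :=
    fun w g i a h e e' => ne w h (smul_left_cancel g (e'.trans e.symm))
  have o0 := one_smul G (x 0)
  have o1 := one_smul G (x 1)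
  rcases hK (x 0) (x 1) ((1 : G) • x 2) (g • y 2) (k • z 2) hab (nn x 1 0 _ (by decide) o0)
    (nn x 1 1 _ (by decide) o1) (nn y g 0 _ (by decide) g1) (nn y g 1 _ (by decide) g2)
    (nn z k 0 _ (by decide) k1) (nn z k 1 _ (by decide) k2) with h | h | h
  · exact n1 (key x y 1 g H.one_mem hg o0 o1 g1 g2 h)
  · exact n2 (key x z 1 k H.one_mem hk o0 o1 k1 k2 h)
  · exact n3 (key y z g k hg hk g1 g2 k1 k2 h)

theorem final [FaithfulSMul G Ω] (h3 : IsMultiplyPretransitive G Ω 3) (hd : 3 ∣ Nat.card Ω)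
    (hn : 3 < Nat.card Ω) (H : Subgroup G) [hH : H.Normal] (h0 : H ≠ ⊥) :
    Nat.card (orbitRel.Quotient H (Fin 3 ↪ Ω)) ≤ 2 ∧
      (Nat.card Ω % 4 ≠ 2 → IsMultiplyPretransitive H Ω 3 ∨
        ∃ (N : Subgroup H) (F : Type) (_ : Field F) (_ : Fintype F), N.Normal ∧
          Fintype.card F + 1 = Nat.card Ω ∧ Nonempty (N ≃* PSL(2, F))) := by
  refine ⟨card_orbits (two_of_normal h3 hd hn H h0) (k2_all h3 hd hn H h0), fun h4 => ?_⟩
  rcases Nat.even_or_odd (Nat.card Ω) with he | ho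
  · by_cases hT : TT H Ω
    · exact Or.inl (tt_iff.2 hT)
    obtain ⟨L, hL, _, ⟨F, _, _, h5, ⟨e⟩⟩, -⟩ := (main h3 he hd hn H h0 (Or.inl rfl)
      (no_invol h3 hd hn (by obtain ⟨k, hk⟩ := he; omega) H h0 hT)).resolve_left hT
    exact Or.inr ⟨L.subgroupOf H, F, inferInstance, inferInstance, inferInstance, h5,
      ⟨(subgroupOfEquivOfLe hL).trans e⟩⟩
  · exact Or.inl (Cfsg.Agent.S0699.wagner ho (by omega) h3 H h0)

end H12.T3
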