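/-
Vanishing elements: regular orbits of abelian coprime operator groups, and zeros of characters.
-/
import Cfsg.Agent.H21.Gall
import Cfsg.Agent.H7.PGrp
import Mathlib.GroupTheory.FiniteAbelian.Duality

set_option autoImplicit false
set_option linter.unusedSectionVars false
open H17 Cfsg CF Subgroup
open scoped commutatorElement

namespace H12.Vn

/-- some irreducible character vanishes at `g` -/
def Van {G : Type*} [Group G] (g : G) : Prop := ∃ χ : G → ℂ, IsIrrCharacter G χ ∧ χ g = 0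

theorem Van.of_map {G Q : Type*} [Group G] [Group Q] (f : G →* Q) (hf : Function.Surjective f)
    {g : G} (h : Van (f g)) : Van g := by
  obtain ⟨χ, h1, h2⟩ := h
  exact ⟨_, h1.comp_of_surjective f hf, h2⟩

section reg
variable {G X : Type*} [Group G] [Finite G] [CommGroup X] (A : G → X →* X)
  (h1 : ∀ x, A 1 x = x) (hm : ∀ a b x, A (a * b) x = A b (A a x))

/-- stabilizer -/
def Stb (l : X) : Subgroup G where
  carrier := {g | A g l = l}
  one_mem' := h1 l
  mul_mem' := fun {a b} ha hb => by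
    change A (a * b) l = l
    rw [hm, ha, hb]
  inv_mem' := fun {a} ha => by
    change A a⁻¹ l = l
    conv_lhs => rw [← ha]
    rw [← hm, mul_inv_cancel, h1]

include h1 hm in
theorem exists_regular {p n : ℕ} (hn : ∀ x : X, x ^ n = 1) (hp : p.Coprime n) (W : Subgroup G)
    (cm : ∀ a ∈ W, ∀ b ∈ W, ∀ x, A a (A b x) = A b (A a x))
    (hq : ∀ a ∈ W, ∃ k : ℕ, ∀ x, A (a ^ p ^ k) x = x) :
    ∃ l : X, ∀ w ∈ W, A w l = l → ∀ x, A w x = x := by
  obtain ⟨l, hl⟩ := exists_minimalFor_of_wellFoundedLT (fun _ : X => True)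
    (fun l => W ⊓ Stb A h1 hm l) ⟨1, trivial⟩
  refine ⟨l, fun t ht htl ψ => ?_⟩
  by_contra h0
  have key : ∀ η, A t (η⁻¹ * A t η) = η⁻¹ * A t η → η⁻¹ * A t η = 1 := by
    intro η hη
    set ξ := η⁻¹ * A t η with hξ
    have e1 : A t η = η * ξ := by rw [hξ, mul_inv_cancel_left]
    have e2 : ∀ i : ℕ, A (t ^ i) η = η * ξ ^ i ∧ A (t ^ i) ξ = ξ := fun i => by
      induction i with
      | zero => simp [h1]
      | succ i ih =>
        rw [pow_succ', hm, hm, hη, e1, map_mul, ih.1, ih.2, pow_succ, mul_assoc]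
        exact ⟨rfl, rfl⟩
    obtain ⟨k, hk⟩ := hq t ht
    have e5 := (e2 (p ^ k)).1
    rw [hk, left_eq_mul] at e5
    exact (pow_eq_one_iff_of_coprime (hp.pow_left k)).1 ⟨e5, hn ξ⟩
  set μ := ψ⁻¹ * A t ψ with hμ
  have hμ1 : μ ≠ 1 := fun e => h0 (inv_mul_eq_one.1 e).symm
  have h3 : W ⊓ Stb A h1 hm (l * μ) ≤ W ⊓ Stb A h1 hm l := fun w hw => by
    refine ⟨hw.1, ?_⟩
    have e1 : A w l * A w μ = l * μ := (map_mul _ _ _).symm.trans hw.2
    have e2 : l⁻¹ * A w l = (ψ * (A w ψ)⁻¹)⁻¹ * A t (ψ * (A w ψ)⁻¹) := by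
      rw [map_mul, map_inv, cm t ht w hw.1, eq_mul_inv_of_mul_eq e1, hμ, map_mul, map_inv]
      simp only [mul_inv_rev, inv_inv, mul_assoc, mul_comm, mul_left_comm, mul_inv_cancel_left]
    have e3 := key (ψ * (A w ψ)⁻¹) (by
      rw [← e2, map_mul, map_inv, cm t ht w hw.1, htl])
    rw [← e2, inv_mul_eq_one] at e3
    exact e3.symm
  have h2 : t ∈ W ⊓ Stb A h1 hm (l * μ) := hl.2 trivial h3 ⟨ht, htl⟩
  have e1 : A t l * A t μ = l * μ := (map_mul _ _ _).symm.trans h2.2
  rw [htl, mul_right_inj] at e1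
  exact hμ1 (key ψ e1)

end reg

variable {G : Type*} [Group G] [Finite G] {p : ℕ}

theorem van_of_reg (V W : Subgroup G) [hV : V.Normal] [hW : W.Normal]
    (hab : ∀ a ∈ V, ∀ b ∈ V, a * b = b * a) (hp : p.Coprime (Nat.card V))
    (hc : ∀ a ∈ W, ∀ b ∈ W, ⁅a, b⁆ ∈ V) (hq : ∀ a ∈ W, ∃ k : ℕ, a ^ p ^ k ∈ V)
    {g : G} (hg : g ∈ W) (hg' : g ∉ centralizer (V : Set G)) : Van g := by
  letI : CommGroup V := { (inferInstance : Group V) with
    mul_comm := fun a b => Subtype.ext (hab a a.2 b b.2) }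
  let φ : G →* MulAut V := MulAut.conjNormal
  have h1 : ∀ x, φ x = 1 ↔ x ∈ centralizer (V : Set G) := fun x =>
    ⟨fun e v hv => by
      have := congrArg Subtype.val (DFunLike.congr_fun e ⟨v, hv⟩)
      exact (mul_inv_eq_iff_eq_mul.1 this).symm,
    fun e => MulEquiv.ext fun v => Subtype.ext (mul_inv_eq_iff_eq_mul.2 (e v v.2).symm)⟩
  have h2 : ∀ x ∈ V, φ x = 1 := fun x hx => (h1 x).2 fun v hv => hab v hv x hx
  let A : G → (V →* ℂˣ) →* (V →* ℂˣ) := fun g =>
    { toFun := fun l => l.comp (φ g).toMonoidHom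
      map_one' := rfl
      map_mul' := fun _ _ => rfl }
  have hA : ∀ g l v, A g l v = l (φ g v) := fun _ _ _ => rfl
  obtain ⟨l, hl⟩ := exists_regular A (fun l => MonoidHom.ext fun v => by simp [hA])
    (fun a b l => MonoidHom.ext fun v => by simp [hA]) (n := Nat.card V)
    (fun l => MonoidHom.ext fun v => by
      rw [MonoidHom.pow_apply, ← map_pow, pow_card_eq_one', map_one]; rfl) hp W
    (fun a ha b hb l => MonoidHom.ext fun v => by
      have := h2 _ (hc a ha b hb)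
      rw [map_commutatorElement, commutatorElement_eq_one_iff_mul_comm] at this
      rw [hA, hA, hA, hA, ← MulAut.mul_apply, ← this, MulAut.mul_apply])
    fun a ha => (hq a ha).imp fun k hk l => MonoidHom.ext fun v => by rw [hA, h2 _ hk]; rfl
  have hl' : ∀ w ∈ W, A w l = l → φ w = 1 := fun w hw e => MulEquiv.ext fun v => by
    by_contra h0
    have : NeZero ((Monoid.exponent V : ℕ) : ℂ) :=
      ⟨by exact_mod_cast Monoid.exponent_ne_zero_of_finite⟩
    obtain ⟨ψ, hψ⟩ := CommGroup.exists_apply_ne_one_of_hasEnoughRootsOfUnity V ℂ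
      (a := v⁻¹ * φ w v) fun e => h0 (inv_mul_eq_one.1 e).symm
    refine hψ ?_
    rw [map_mul, map_inv, ← hA, hl w hw e, inv_mul_cancel]
  have hθ := (isLin_ofHom l).mem_Irr
  obtain ⟨χ, hχ⟩ := H21.over_nonempty (K := ⊤) le_top hθ
  obtain ⟨ψ, -, e⟩ := H21.exists_Ind_eq_over le_top (by rw [normalizer_eq_top]) hθ
    (top_inf_eq (stab (ofHom V l))).symm hχ
  refine ⟨χ, mem_Irr_top.1 (H21.mem_over.1 hχ).1, ?_⟩
  rw [← e]
  refine Ind_eq_zero_of fun x _ hx => absurd ?_ hg'
  have h3 := hl' _ (hW.conj_mem g hg x) (MonoidHom.ext fun v => Units.ext (by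
    have := mem_stab_iff.1 hx v
    rwa [ofHom_coe, ofHom_apply _ (hV.conj_mem v v.2 _)] at this))
  rw [map_mul, map_mul, map_inv, mul_inv_eq_one, mul_eq_left] at h3
  exact (h1 g).1 h3

theorem van_of_class2 [Fact p.Prime] (W : Subgroup G) [hW : W.Normal] (hP : IsPGroup p W)
    (hK : Nat.card (⁅W, W⁆ : Subgroup G) = p) {y : G} (hy : y ∈ W)
    (hy' : y ∉ centralizer (W : Set G)) : Van y := by
  classical
  set K := ⁅W, W⁆ with hKd
  have hc := H7.le_centralizer_of_card_prime hP hK (by rw [normalizer_eq_top]; exact le_top)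
  obtain ⟨w, hw, hwy⟩ : ∃ w ∈ W, ⁅w, y⁆ ≠ 1 := by
    by_contra h
    push Not at h
    exact hy' fun w hw => commutatorElement_eq_one_iff_mul_comm.1 (h w hw)
  set z := ⁅w, y⁆ with hz
  have hzK : z ∈ K := commutator_mem_commutator hw hy
  have hgen : zpowers z = K := by
    have := (H7.card_mul_relIndex (zpowers_le.2 hzK)).symm
    rcases (Nat.dvd_prime (Fact.out : p.Prime)).1 (hK ▸ card_dvd_of_le (zpowers_le.2 hzK)) with e | e
    · exact absurd (by simpa using e) hwy
    · exact eq_of_le_of_card_ge (zpowers_le.2 hzK) (by rw [e, hK])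
  obtain ⟨χ, ⟨n, ρ, hρ, rfl⟩, hχ⟩ := exists_irr_apply_ne hwy
  have := Fintype.ofFinite K
  obtain ⟨c, hc'⟩ := schur_scalar ρ (∑ k : K, ρ k) fun g => by
    change (∑ k : K, ρ k) * ρ g = ρ g * ∑ k : K, ρ k
    rw [Finset.sum_mul, Finset.mul_sum]
    refine (Fintype.sum_equiv (MulAut.conjNormal g : MulAut K).toEquiv _ _ fun k => ?_).symm
    change ρ g * ρ k = ρ (g * k * g⁻¹) * ρ g
    rw [← map_mul, ← map_mul, inv_mul_cancel_right]
  have h0 : ∑ k : K, ρ k = 0 := by
    have e1 : ρ z * ∑ k : K, ρ k = ∑ k : K, ρ k := by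
      rw [Finset.mul_sum]
      exact Fintype.sum_equiv (Equiv.mulLeft (⟨z, hzK⟩ : K)) _ _ fun k => (map_mul ρ _ _).symm
    by_cases hc0 : c = 0
    · rw [hc', hc0, zero_smul]
    · refine absurd ?_ hχ
      rw [Representation.char_one]
      refine (char_eq_finrank_iff ρ z).2 ?_
      rw [hc', mul_smul_comm] at e1
      exact smul_right_injective _ hc0 e1
  have h1 : ∀ i : ℕ, w ^ i * y * (w ^ i)⁻¹ = z ^ i * y := fun i => by
    induction i with
    | zero => simp
    | succ i ih =>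
      have e1 : w * y * w⁻¹ = z * y := by rw [hz, commutatorElement_def]; group
      have e2 : Commute (z ^ i) w := (show Commute z w from hc hw z hzK).pow_left i
      calc _ = w * (w ^ i * y * (w ^ i)⁻¹) * w⁻¹ := by rw [pow_succ']; group
        _ = z ^ i * (w * y * w⁻¹) := by rw [ih, ← mul_assoc, ← e2.eq]; group
        _ = _ := by rw [e1, pow_succ, mul_assoc]
  have h2 : ∀ k : K, ρ.character (k * y) = ρ.character y := fun k => by
    obtain ⟨i, hi⟩ := mem_powers_iff_mem_zpowers.2 (hgen.ge k.2)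
    rw [← show z ^ i = k from hi, ← h1, ρ.char_conj]
  have h3 : ∑ k : K, ρ.character (k * y) = 0 := by
    simp only [Representation.character, map_mul]
    rw [← map_sum, ← Finset.sum_mul, h0, zero_mul, map_zero]
  rw [Finset.sum_congr rfl fun k _ => h2 k, Finset.sum_const, nsmul_eq_mul] at h3
  exact ⟨_, ⟨n, ρ, hρ, rfl⟩, (mul_eq_zero.1 h3).resolve_left (by
    exact_mod_cast Finset.card_ne_zero.2 Finset.univ_nonempty)⟩

end H12.Vn
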