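/-
Solvable groups whose `p`-singular vanishing elements have one order.
-/
import Cfsg.Agent.H12.Vn1
import Cfsg.Agent.H12.Tate
import Cfsg.Agent.H1.Coprime2
import Cfsg.Agent.H1.Solvable

set_option autoImplicit false
set_option linter.unusedSectionVars false
open Cfsg Subgroup H12
open scoped commutatorElement

namespace H12.Vn

variable {G : Type*} [Group G] [Finite G] {p : ℕ} [hp : Fact p.Prime]

theorem mem_of_pow {H : Subgroup G} {x : G} {a b : ℕ} (h1 : x ^ a ∈ H) (h2 : x ^ b ∈ H)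
    (h : a.Coprime b) : x ∈ H := by
  have e : x = (x ^ a) ^ (Nat.gcdA a b) * (x ^ b) ^ (Nat.gcdB a b) := by
    rw [← zpow_natCast, ← zpow_natCast, ← zpow_mul, ← zpow_mul, ← zpow_add, ← Nat.gcd_eq_gcd_ab,
      h, Nat.cast_one, zpow_one]
  rw [e]
  exact mul_mem (zpow_mem h1 _) (zpow_mem h2 _)

theorem pow_card {L : Subgroup G} {x : G} (h : x ∈ L) : x ^ Nat.card L = 1 :=
  congrArg Subtype.val (pow_card_eq_one' (x := (⟨x, h⟩ : L)))

theorem pdvd {x : G} {k : ℕ} (hx : x ≠ 1) (hk : x ^ p ^ k = 1) : p ∣ orderOf x := by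
  obtain ⟨i, -, e⟩ := (Nat.dvd_prime_pow hp.out).1 (orderOf_dvd_of_pow_eq_one hk)
  refine e ▸ dvd_pow_self p fun h => hx ?_
  rwa [h, pow_zero, orderOf_eq_one_iff] at e

theorem eq_one_of {L : Subgroup G} (hL : (Nat.card L).Coprime p) {x : G} (hx : x ∈ L) {k : ℕ}
    (hk : x ^ p ^ k = 1) : x = 1 :=
  (pow_eq_one_iff_of_coprime (hL.pow_right k)).1 ⟨pow_card hx, hk⟩

/-- the subgroup generated by the `p`-elements -/
def pc (p : ℕ) (W : Subgroup G) : Subgroup G := closure {x | x ∈ W ∧ ∃ k : ℕ, x ^ p ^ k = 1}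

theorem pc_le (W : Subgroup G) : pc p W ≤ W := (closure_le _).2 fun _ h => h.1

theorem pc_mono {U W : Subgroup G} (h : U ≤ W) : pc p U ≤ pc p W :=
  closure_mono fun _ hx => ⟨h hx.1, hx.2⟩

theorem mem_pc {W : Subgroup G} {x : G} (h : x ∈ W) {k : ℕ} (hk : x ^ p ^ k = 1) : x ∈ pc p W :=
  subset_closure ⟨h, k, hk⟩

instance pc_normal (W : Subgroup G) [hW : W.Normal] : (pc p W).Normal :=
  ⟨fun x hx g => (closure_le ((pc p W).comap (MulAut.conj g).toMonoidHom)).2 (fun y hy => by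
    obtain ⟨h1, k, hk⟩ := hy
    exact mem_pc (x := g * y * g⁻¹) (hW.conj_mem y h1 g) (k := k) (by
      rw [conj_pow, hk, mul_one, mul_inv_cancel])) hx⟩

variable {L W : Subgroup G}

theorem pc_inf_ne_bot (h0 : pCore p G = ⊥) [W.Normal] (hL : (Nat.card L).Coprime p)
    (hq : ∀ x ∈ W, ∃ k : ℕ, x ^ p ^ k ∈ L) (hne : ¬ W ≤ L) : pc p W ⊓ L ≠ ⊥ := fun e => by
  have h1 : pc p W = ⊥ := H1.pCore_eq_bot_iff.1 h0 _ inferInstance fun x => by
    obtain ⟨k, hk⟩ := hq x (pc_le W x.2)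
    exact ⟨k, Subtype.ext (mem_bot.1 (e.le ⟨pow_mem x.2 _, hk⟩))⟩
  refine hne fun x hx => ?_
  obtain ⟨k, hk⟩ := hq x hx
  refine mem_of_pow (bot_le (a := L) (h1.le (mem_pc (pow_mem hx _) (k := k) ?_))) hk
    (hL.pow_right k)
  rw [← pow_mul, mul_comm, pow_mul, pow_card hk]

theorem le_comm (hL : (Nat.card L).Coprime p) (hq : ∀ x ∈ W, ∃ k : ℕ, x ^ p ^ k ∈ L)
    {N : Subgroup G} [N.Normal] (hN : N ≤ pc p W ⊓ L) (h : ⁅pc p W, pc p W ⊓ L⁆ ≤ N) :
    pc p W ⊓ L ≤ N := by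
  obtain ⟨R, hR⟩ := exists_sylIn (p := p) (pc p W)
  have h1 : pc p W ≤ 𝒩 (N ⊔ R : Subgroup G) := by
    conv_lhs => rw [← hR.sup_res]
    refine sup_le (le_trans (res_le_iff.2 fun x hx hc => ?_)
      (le_normalizer_iff_commutator_le_left.2 ((commutator_mono
        (sup_le (hN.trans inf_le_left) hR.le) le_rfl).trans (h.trans le_sup_left))))
      (le_sup_right.trans le_normalizer)
    obtain ⟨k, hk⟩ := hq x (pc_le W hx)
    exact ⟨hx, mem_of_pow (by rw [pow_orderOf_eq_one]; exact one_mem L) hk (hc.pow_right k)⟩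
  have h2 : pc p W ≤ N ⊔ R := (closure_le _).2 fun x hx => by
    obtain ⟨k, hk⟩ := hx.2
    obtain ⟨y, hy, e⟩ := hR.exists_cj_le (R := zpowers x) (fun z => ⟨k, Subtype.ext (by
      obtain ⟨_, i, rfl⟩ := z
      change (x ^ i) ^ p ^ k = 1
      rw [← zpow_natCast, ← zpow_mul, mul_comm, zpow_mul, zpow_natCast, hk, one_zpow])⟩)
      (zpowers_le.2 (mem_pc hx.1 hk))
    exact (mem_normalizer_iff.1 (h1 hy) x).2 (le_sup_right (a := N) (e ⟨x, mem_zpowers x, rfl⟩))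
  have h3 := le_inf (inf_le_left.trans h2) (le_refl (pc p W ⊓ L))
  rw [H7.dedekind hN (Or.inr le_normalizer_of_normal)] at h3
  refine h3.trans (sup_le le_rfl (le_trans ?_ bot_le))
  exact (inf_le_inf_left _ inf_le_right).trans (H1.inf_eq_bot_of_isPGroup_of_coprime hR.pgrp hL).le

theorem stepT [Group.IsSolvable G] (h0 : pCore p G = ⊥) [L.Normal] [W.Normal]
    (hL : (Nat.card L).Coprime p) (hLW : L ≤ W) (hq : ∀ x ∈ W, ∃ k : ℕ, x ^ p ^ k ∈ L)
    (hc : ⁅W, W⁆ ≤ L) (hne : ¬ W ≤ L) :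
    ∃ U : Subgroup G, U.Normal ∧ L ≤ U ∧ U < W ∧ ∀ g ∈ pc p W, g ∉ U → Van g := by
  set X := pc p W with hX
  set M := X ⊓ L with hM
  have hπ := QuotientGroup.mk'_surjective ⁅M, M⁆
  have hk := QuotientGroup.ker_mk' ⁅M, M⁆
  set π := QuotientGroup.mk' ⁅M, M⁆
  have : (M.map π).Normal := Normal.map inferInstance _ hπ
  have : (X.map π).Normal := Normal.map inferInstance _ hπ
  have key : ∀ A : Subgroup G, A ≤ (𝒞 (M.map π)).comap π ↔ ⁅A, M⁆ ≤ ⁅M, M⁆ := fun A => by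
    rw [← map_le_iff_le_comap, ← commutator_eq_bot_iff_le_centralizer, ← map_commutator,
      Subgroup.map_eq_bot_iff, hk]
  have hMD := (key M).2 le_rfl
  refine ⟨L ⊔ X ⊓ (𝒞 (M.map π)).comap π, inferInstance, le_sup_left, lt_of_le_of_ne
    (sup_le hLW (inf_le_left.trans (pc_le W))) fun e => ?_, fun g hg hgU => Van.of_map π hπ
    (van_of_reg (p := p) (M.map π) (X.map π) ?_ (hL.symm.coprime_dvd_right
      ((card_map_dvd M π).trans (card_dvd_of_le inf_le_right))) ?_ ?_ ⟨g, hg, rfl⟩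
      fun h => hgU (le_sup_right (a := L) ⟨hg, h⟩))⟩
  · have h1 := le_inf ((pc_le W).trans e.ge) (le_refl X)
    rw [sup_comm, H7.dedekind inf_le_left (Or.inl le_normalizer_of_normal), inf_comm L] at h1
    exact (Group.IsSolvable.commutator_lt_of_ne_bot (pc_inf_ne_bot h0 hL hq hne)).not_ge
      (le_comm hL hq (commutator_le_left _ _) ((key X).1 (h1.trans (sup_le inf_le_right hMD))))
  · rintro _ ⟨a, ha, rfl⟩ b hb
    exact (hMD ha b hb).symm
  · rintro _ ⟨a, ha, rfl⟩ _ ⟨b, hb, rfl⟩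
    exact ⟨⁅a, b⁆, ⟨commutator_le_left X X (commutator_mem_commutator ha hb),
      hc (commutator_mem_commutator (pc_le W ha) (pc_le W hb))⟩, map_commutatorElement π a b⟩
  · rintro _ ⟨a, ha, rfl⟩
    obtain ⟨k, hk⟩ := hq a (pc_le W ha)
    exact ⟨k, _, ⟨pow_mem ha _, hk⟩, map_pow π a _⟩

theorem stepE (hA : ∀ (x y : G) (k : ℕ), x ≠ 1 → x ^ p ^ k = 1 → Van x → Van y → p ∣ orderOf y →
      ∃ j : ℕ, y ^ p ^ j = 1)
    (hB : ∀ (x : G) (k : ℕ), x ^ p ^ k = 1 → Van x → Van (x ^ p) → x ^ p = 1)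
    {A M : Subgroup G} [M.Normal] (hc : Nat.card A = p ^ 2) (hM : (Nat.card M).Coprime p)
    (h : ∀ r ∈ A, r ≠ 1 → ∀ m ∈ M, Van (r * m)) : M ≤ ⊥ := by
  have := IsPGroup.isMulCommutative_of_card_eq_prime_sq hc
  have h1 : ∀ r ∈ A, r ≠ 1 → Van r := fun r hr h1 => mul_one r ▸ h r hr h1 1 (one_mem M)
  have h2 : ∀ r ∈ A, r ^ p ^ 2 = 1 := fun r hr => hc ▸ pow_card hr
  refine H1.le_of_forall_centralizer_le (A := A) (fun hcy => ?_) le_normalizer_of_normal
    (hc ▸ hM.symm.pow_left 2) fun a ha a1 m hm => ?_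
  · obtain ⟨⟨g, hg⟩, e⟩ := isCyclic_iff_exists_orderOf_eq_natCard.1 hcy
    rw [hc, ← Subgroup.orderOf_coe] at e
    have h3 : g ^ p ≠ 1 := fun h3 => by
      have := Nat.le_of_dvd hp.out.pos (orderOf_dvd_of_pow_eq_one h3)
      have := hp.out.one_lt
      change orderOf g = _ at e
      nlinarith
    exact h3 (hB g 2 (h2 g hg) (h1 g hg fun e => h3 (by rw [e, one_pow])) (h1 _ (pow_mem hg p) h3))
  · have hcm : Commute a m := hm.2 a rfl
    have h3 : a ^ orderOf (a * m) ∈ M := by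
      have := pow_orderOf_eq_one (a * m)
      rw [hcm.mul_pow] at this
      rw [eq_inv_of_mul_eq_one_left this]
      exact inv_mem (pow_mem hm.1 _)
    obtain ⟨j, hj⟩ := hA a (a * m) 2 a1 (h2 a ha) (h1 a ha a1) (h a ha a1 m hm.1)
      ((pdvd a1 (h2 a ha)).trans (orderOf_dvd_of_pow_eq_one (eq_one_of hM h3 (k := 2)
        (h2 _ (pow_mem ha _)))))
    refine eq_one_of hM hm.1 (k := j + 2) ?_
    have := congrArg (· ^ p ^ 2) hj
    simp only [hcm.mul_pow, (hcm.pow_pow _ _).mul_pow, h2 _ (pow_mem ha _), one_mul,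
      one_pow] at this
    rwa [pow_add, pow_mul]

theorem card_dvd_normal [Group.IsSolvable G] (h0 : pCore p G = ⊥)
    (hA : ∀ (x y : G) (k : ℕ), x ≠ 1 → x ^ p ^ k = 1 → Van x → Van y → p ∣ orderOf y →
      ∃ j : ℕ, y ^ p ^ j = 1)
    (hB : ∀ (x : G) (k : ℕ), x ^ p ^ k = 1 → Van x → Van (x ^ p) → x ^ p = 1) [L.Normal]
    (hL : (Nat.card L).Coprime p) (Q : Subgroup (G ⧸ L)) (hQn : Q.Normal) (hQ : IsPGroup p Q) :
    Nat.card Q ∣ p := by
  by_contra hn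
  obtain ⟨Y, ⟨hYn, hY⟩, hYQ, hmin⟩ := H1.exists_minimal_le
    (fun Y : Subgroup (G ⧸ L) => Y.Normal ∧ ¬ Nat.card Y ∣ p) (N := Q) ⟨hQn, hn⟩
  have hYp := hQ.to_le hYQ
  have hπ := QuotientGroup.mk'_surjective L
  have hk := QuotientGroup.ker_mk' L
  set π := QuotientGroup.mk' L
  have hlt : ∀ Z : Subgroup (G ⧸ L), Z.Normal → Z < Y → Nat.card Z ∣ p := fun Z h1 h2 =>
    by_contra fun h3 => h2.ne (hmin Z ⟨h1, h3⟩ h2.le)
  set W := Y.comap π with hW
  have hWY : W.map π = Y := map_comap_eq_self_of_surjective hπ Y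
  have hLW : L ≤ W := QuotientGroup.le_comap_mk' L Y
  have hq : ∀ x ∈ W, ∃ k : ℕ, x ^ p ^ k ∈ L := fun x hx => by
    obtain ⟨k, hk'⟩ := hYp ⟨π x, hx⟩
    exact ⟨k, hk.le ((map_pow π _ _).trans (congrArg Subtype.val hk'))⟩
  have hY0 : Y ≠ ⊥ := fun e => hY (by rw [e, card_bot]; exact one_dvd p)
  have hmap : ∀ {U V : Subgroup G}, L ≤ U → U < V → U.map π < V.map π := fun h1 h2 =>
    lt_of_le_of_ne (map_mono h2.le) fun e => h2.not_ge (by
      have := map_le_iff_le_comap.1 e.ge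
      rwa [comap_map_eq, hk, sup_eq_left.2 h1] at this)
  obtain ⟨U, hUn, hLU, hUW, hU⟩ : ∃ U : Subgroup G, U.Normal ∧ L ≤ U ∧ U < W ∧
      ∀ g ∈ pc p W, g ∉ U → Van g := by
    by_cases hc : ⁅Y, Y⁆ = ⊥
    · refine stepT h0 hL hLW hq ?_ fun h => hY0 ?_
      · rwa [← hWY, ← map_commutator, Subgroup.map_eq_bot_iff, hk] at hc
      · rwa [← hWY, Subgroup.map_eq_bot_iff, hk]
    · have h1 := ((Nat.dvd_prime hp.out).1 (hlt _ inferInstance
        (Group.IsSolvable.commutator_lt_of_ne_bot hY0))).resolve_left fun e => hc (card_eq_one.1 e)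
      refine ⟨(Y ⊓ 𝒞 Y).comap π, inferInstance, QuotientGroup.le_comap_mk' L _,
        lt_of_le_of_ne (comap_mono inf_le_left) fun e => hc ?_, fun g hg hgU =>
        Van.of_map π hπ (van_of_class2 Y hYp h1 (pc_le W hg) fun h => hgU ⟨pc_le W hg, h⟩)⟩
      rw [commutator_eq_bot_iff_le_centralizer]
      exact inf_eq_left.1 (comap_injective hπ e)
  have hUc := hlt _ (hUn.map π hπ) (hWY ▸ hmap hLU hUW)
  obtain ⟨M, hMn, hM0, hML, hM⟩ : ∃ M : Subgroup G, M.Normal ∧ M ≠ ⊥ ∧ M ≤ L ∧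
      ∀ r ∈ W, r ≠ 1 → r ^ p ^ 2 = 1 → ∀ m ∈ M, Van (r * m) := by
    have nL : ∀ {r m : G}, r ≠ 1 → r ^ p ^ 2 = 1 → m ∈ L → r * m ∉ L := fun h1 h2 h3 h4 =>
      h1 (eq_one_of hL ((mul_mem_cancel_right h3).1 h4) h2)
    by_cases hUL : U ≤ L
    · exact ⟨_, inferInstance, pc_inf_ne_bot h0 hL hq (fun h => hUW.not_ge (h.trans hLU)),
        inf_le_right, fun r hr r1 r2 m hm =>
        hU _ (mul_mem (mem_pc hr r2) hm.1) fun h => nL r1 r2 hm.2 (hUL h)⟩
    have hqU : ∀ x ∈ U, ∃ k : ℕ, x ^ p ^ k ∈ L := fun x hx => hq x (hUW.le hx)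
    have hcy : IsCyclic (U.map π) := isCyclic_of_card_dvd_prime hUc
    obtain ⟨U', -, hLU', hU'U, hU'⟩ := stepT h0 hL hLU hqU (by
      rw [← hk, ← Subgroup.map_eq_bot_iff, map_commutator, commutator_eq_bot_iff_le_centralizer,
        le_centralizer_iff_isMulCommutative]
      infer_instance) hUL
    have h1 : U' ≤ L := by
      have h2 := hmap hLU' hU'U
      rw [← hk, ← Subgroup.map_eq_bot_iff]
      refine (H7.eq_or_eq_bot_of_card_prime (((Nat.dvd_prime hp.out).1 hUc).resolve_left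
        fun e => ?_) h2.le).resolve_right h2.ne
      exact not_lt_bot (card_eq_one.1 e ▸ h2)
    refine ⟨_, inferInstance, pc_inf_ne_bot h0 hL hqU hUL, inf_le_right, fun r hr r1 r2 m hm => ?_⟩
    by_cases hrU : r ∈ U
    · exact hU' _ (mul_mem (mem_pc hrU r2) hm.1) fun h => nL r1 r2 hm.2 (h1 h)
    · exact hU _ (mul_mem (mem_pc hr r2) (pc_mono hUW.le hm.1))
        fun h => hrU ((mul_mem_cancel_right (hLU hm.2)).1 h)
  obtain ⟨j, hj⟩ := hYp.exists_card_eq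
  obtain ⟨A, hAc⟩ := Sylow.exists_subgroup_card_pow_prime (G := W) p (n := 2)
    ((pow_dvd_pow p (by
      by_contra h
      exact hY (hj ▸ (pow_dvd_pow p (by omega)).trans (pow_one p).dvd))).trans
      (hj ▸ hWY ▸ card_map_dvd W π))
  have hA' : Nat.card (A.map W.subtype) = p ^ 2 := by rw [card_subtype, hAc]
  exact hM0 (eq_bot_iff.2 (stepE hA hB hA' (hL.coprime_dvd_left (card_dvd_of_le hML))
    fun r hr r1 => hM r (map_subtype_le _ hr) r1 (hA' ▸ pow_card hr)))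

theorem card_dvd [Group.IsSolvable G]
    (h : ∀ x y : G, Van x → Van y → p ∣ orderOf x → p ∣ orderOf y → orderOf x = orderOf y)
    {P : Subgroup G} (hP : IsPGroup p P) :
    Nat.card (P.map (QuotientGroup.mk' (pCore p G))) ∣ p := by
  have hπ := QuotientGroup.mk'_surjective (pCore p G)
  have hk := QuotientGroup.ker_mk' (pCore p G)
  set π := QuotientGroup.mk' (pCore p G)
  have lift : ∀ (x : G) (k : ℕ), π x ^ p ^ k = 1 → ∃ j : ℕ, x ^ p ^ j = 1 := fun x k e => by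
    obtain ⟨j, hj⟩ := H1.isPGroup_pCore p ⟨x ^ p ^ k, hk.le ((map_pow π _ _).trans e)⟩
    exact ⟨k + j, by rw [pow_add, pow_mul]; exact congrArg Subtype.val hj⟩
  have hL := H1.coprime_card_pPrimeCore (G := G ⧸ pCore p G) p
  set L := pPrimeCore p (G ⧸ pCore p G)
  have h1 := card_dvd_normal (H1.pCore_quotient_pCore (G := G) p) (fun x y k x1 hx vx vy hy => by
    obtain ⟨x, rfl⟩ := hπ x
    obtain ⟨y, rfl⟩ := hπ y
    obtain ⟨j, hj⟩ := lift x k hx
    refine ⟨j, ?_⟩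
    rw [← map_pow, orderOf_dvd_iff_pow_eq_one.1 (h x y (vx.of_map π hπ) (vy.of_map π hπ)
      (pdvd (fun e => x1 (by rw [e, map_one])) hj) (hy.trans (orderOf_map_dvd π y)) ▸
      orderOf_dvd_of_pow_eq_one hj), map_one]) (fun x k hx vx vy => by
    obtain ⟨x, rfl⟩ := hπ x
    obtain ⟨j, hj⟩ := lift x k hx
    rw [← map_pow] at vy ⊢
    by_contra h1
    have h2 : x ^ p ≠ 1 := fun e => h1 (by rw [e, map_one])
    have h3 := pdvd (x := x) (fun e => h2 (by rw [e, one_pow])) hj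
    have h4 := h x (x ^ p) (vx.of_map π hπ) (vy.of_map π hπ) h3 (pdvd h2 (k := j) (by
      rw [← pow_mul, mul_comm, pow_mul, hj, one_pow]))
    rw [orderOf_pow_of_dvd hp.out.ne_zero h3] at h4
    exact (Nat.div_lt_self (orderOf_pos x) hp.out.one_lt).ne' h4) hL (pCore p _) inferInstance
    (H1.isPGroup_pCore p)
  have h2 := H1.centralizer_fitting_le (G := (G ⧸ pCore p G) ⧸ L)
  rw [H1.fitting_eq_pCore (H1.pPrimeCore_quotient_pPrimeCore p)] at h2
  have h3 := H1.card_map_mk'_mul (P.map π) L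
  rw [H1.inf_eq_bot_of_isPGroup_of_coprime (hP.map π) hL, card_bot, mul_one] at h3
  rw [← h3]
  refine (card_dvd_of_le (le_trans ?_ h2)).trans h1
  rcases (Nat.dvd_prime hp.out).1 h1 with e | e
  · rw [card_eq_one.1 e]
    exact fun x _ y hy => by rw [mem_bot.1 hy, one_mul, mul_one]
  · exact H7.le_centralizer_of_card_prime ((hP.map π).map _) e le_normalizer_of_normal

end H12.Vn
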